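import Mathlib
import Cfsg.Agent.H940.MaxCls
import Cfsg.Agent.H918.UBase
import Cfsg.Agent.H907.MxBase
import Cfsg.Agent.H915.PrimIrr

/-!
# Apart subgroups of `SU_n(q)` inside `GL_n(q²)` (helper950, for S5906, S5907)
-/

set_option autoImplicit false
set_option linter.unusedSectionVars false

namespace Cfsg.Agent.H950.MC

open Cfsg Cfsg.Geo Cfsg.Agent.H940.MaxCls Cfsg.Agent.H918

section general

variable {Γ : Type*} [Group Γ] {S A B : Subgroup Γ}

/-- no proper subgroup of `S` contains `A` and a conjugate of `B` -/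
def ApartIn (S A B : Subgroup Γ) : Prop :=
  ∀ g ∈ S, ∀ K : Subgroup Γ, K ≤ S → A ≤ K → (∀ x ∈ B, g * x * g⁻¹ ∈ K) → K = S

theorem apartIn_of_max (hA : IsMaximalIn S A) (hB : ∀ g ∈ S, ∃ x ∈ B, g * x * g⁻¹ ∉ A) : ApartIn S A B := by
  intro g hg K hK h1 h2
  rcases hA.2 K h1 hK with h | h
  · obtain ⟨x, hx, hx'⟩ := hB g hg
    exact absurd (by rw [← h]; exact h2 x hx) hx'
  · exact h

theorem ApartIn.symm (h : ApartIn S A B) : ApartIn S B A := by
  intro g hg K hK hB hA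
  have h1 := h g⁻¹ (S.inv_mem hg) (Subgroup.map (MulAut.conj g⁻¹).toMonoidHom K) (by
      intro x hx
      rw [mem_map_conj] at hx
      have h3 := S.mul_mem (S.mul_mem (S.inv_mem hg) (hK hx)) hg
      have h4 : g⁻¹ * (g⁻¹⁻¹ * x * g⁻¹) * g = x := by group
      rwa [h4] at h3)
    (fun x hx => mem_map_conj.2 (by simpa using hA x hx))
    (fun x hx => mem_map_conj.2 (by
      have : g⁻¹⁻¹ * (g⁻¹ * x * g⁻¹⁻¹) * g⁻¹ = x := by group
      rw [this]
      exact hB hx))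
  refine le_antisymm hK fun x hx => ?_
  have h2 : g⁻¹ * x * g ∈ Subgroup.map (MulAut.conj g⁻¹).toMonoidHom K := by
    rw [h1]
    exact S.mul_mem (S.mul_mem (S.inv_mem hg) hx) hg
  rw [mem_map_conj] at h2
  have h3 : g⁻¹⁻¹ * (g⁻¹ * x * g) * g⁻¹ = x := by group
  rwa [h3] at h2

variable {G : Type*} [Group G] {f : G →* Γ} (hf : Function.Injective f) (hr : f.range = S)

include hf hr

theorem apart_comap (hA : A ≤ S) (hB : B ≤ S) (h : ApartIn S A B) : Apart (A.comap f) (B.comap f) := by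
  intro g K h1 h2
  have h3 := h (f g) (hr ▸ ⟨g, rfl⟩) (K.map f) (by rw [← hr]; exact Subgroup.map_le_range f K) (by
      intro a ha
      obtain ⟨a, rfl⟩ : a ∈ f.range := hr ▸ hA ha
      exact ⟨a, h1 ha, rfl⟩) (by
      intro b hb
      obtain ⟨b, rfl⟩ : b ∈ f.range := hr ▸ hB hb
      exact ⟨g * b * g⁻¹, h2 b hb, by simp⟩)
  refine top_le_iff.1 fun x _ => ?_
  have h4 : f x ∈ K.map f := by rw [h3, ← hr]; exact ⟨x, rfl⟩
  obtain ⟨y, hy, hyx⟩ := h4
  rwa [← hf hyx]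

theorem comap_ne_top_of {A : Subgroup Γ} (hA : A ≠ S) (hAS : A ≤ S) : A.comap f ≠ ⊤ := by
  intro h
  apply hA
  refine le_antisymm hAS ?_
  rw [← hr]
  rintro _ ⟨x, rfl⟩
  have : x ∈ A.comap f := by rw [h]; exact Subgroup.mem_top x
  exact this

theorem sep_comap {L : List (Subgroup Γ)} (h1 : ∀ A ∈ L, A ≤ S ∧ A ≠ S) (h2 : L.Pairwise (ApartIn S)) :
    Sep L.length G := by
  have h3 := sep_of_list (L.map (fun A => A.comap f)) (by
      intro A hA
      obtain ⟨B, hB, rfl⟩ := List.mem_map.1 hA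
      exact comap_ne_top_of hf hr (h1 B hB).2 (h1 B hB).1) (by
      rw [List.pairwise_map]
      exact h2.imp_of_mem fun {A B} hA hB h => apart_comap hf hr (h1 A hA).1 (h1 B hB).1 h)
  rwa [List.length_map] at h3

end general

section su

variable {F : Type*} [Field F] [Fintype F] {n q : ℕ} (hF : Fintype.card F = q ^ 2)

theorem sep_psu (hF : Fintype.card F = q ^ 2) (hn : 3 ≤ n) (h32 : ¬ (n = 3 ∧ q = 2))
    {L : List (Subgroup (Matrix.GeneralLinearGroup (Fin n) F))}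
    (h1 : ∀ A ∈ L, A ≤ SUg n F q ∧ A ≠ SUg n F q) (h2 : L.Pairwise (ApartIn (SUg n F q))) :
    Sep L.length (PSU n F q) := by
  have h3 : Sep L.length (SU n F q) := sep_comap suHom_injective range_suHom h1 h2
  exact Sep.map_surj (f := QuotientGroup.mk' (Subgroup.center (SU n F q))) (QuotientGroup.mk'_surjective _)
    (by rw [QuotientGroup.ker_mk']) (Cfsg.Agent.LieClassical.HermPerfect.commutator_SU_eq_top hF hn h32) h3

/-- five subgroups -/
theorem sep_psu_five (hF : Fintype.card F = q ^ 2) (hn : 3 ≤ n) (h32 : ¬ (n = 3 ∧ q = 2))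
    {A B C D E : Subgroup (Matrix.GeneralLinearGroup (Fin n) F)}
    (hA : A ≤ SUg n F q) (hB : B ≤ SUg n F q) (hC : C ≤ SUg n F q) (hD : D ≤ SUg n F q) (hE : E ≤ SUg n F q)
    (hA' : A ≠ SUg n F q) (hB' : B ≠ SUg n F q) (hC' : C ≠ SUg n F q) (hD' : D ≠ SUg n F q) (hE' : E ≠ SUg n F q)
    (hAB : ApartIn (SUg n F q) A B) (hAC : ApartIn (SUg n F q) A C) (hAD : ApartIn (SUg n F q) A D)
    (hAE : ApartIn (SUg n F q) A E) (hBC : ApartIn (SUg n F q) B C) (hBD : ApartIn (SUg n F q) B D)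
    (hBE : ApartIn (SUg n F q) B E) (hCD : ApartIn (SUg n F q) C D) (hCE : ApartIn (SUg n F q) C E)
    (hDE : ApartIn (SUg n F q) D E) : Sep 5 (PSU n F q) := by
  have := sep_psu (L := [A, B, C, D, E]) hF hn h32 (by
      intro X hX
      simp only [List.mem_cons, List.not_mem_nil, or_false] at hX
      rcases hX with rfl | rfl | rfl | rfl | rfl
      exacts [⟨hA, hA'⟩, ⟨hB, hB'⟩, ⟨hC, hC'⟩, ⟨hD, hD'⟩, ⟨hE, hE'⟩])
    (by simp [hAB, hAC, hAD, hAE, hBC, hBD, hBE, hCD, hCE, hDE])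
  simpa using this

end su

end Cfsg.Agent.H950.MC
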