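import Mathlib
import Cfsg.Agent.H950.MCBase
import Cfsg.Agent.H907.MxJ2
import Cfsg.Agent.H915.PrimIrr
import Cfsg.Agent.Lib.Zsigmondy
import Cfsg.Agent.ClassicalGeometry.PSL2Basic

/-!
# Tools for `PSU₃(q)` (helper950, for S5906, S5907)
-/

set_option autoImplicit false
set_option linter.unusedSectionVars false

namespace Cfsg.Agent.H950.MC

open Cfsg Cfsg.Geo Matrix Cfsg.Agent.H918 Cfsg.Agent.LieClassical.HermBasic Cfsg.Agent.H907 Cfsg.Agent.H907.SU3
  Cfsg.Agent.H907.Mx Cfsg.Agent.H914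
open scoped MatrixGroups

variable {F : Type*} [Field F]

/-! ### Conjugation and invariant subspaces -/

/-- the preimage of a subspace -/
def pre (g : GL (Fin 3) F) (W : Submodule F (Fin 3 → F)) : Submodule F (Fin 3 → F) :=
  W.comap (Matrix.toLin' (g : Matrix (Fin 3) (Fin 3) F))

theorem mem_pre {g : GL (Fin 3) F} {W : Submodule F (Fin 3 → F)} {v : Fin 3 → F} :
    v ∈ pre g W ↔ (g : Matrix (Fin 3) (Fin 3) F) *ᵥ v ∈ W := by
  rw [pre, Submodule.mem_comap, Matrix.toLin'_apply]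

theorem pre_bot {g : GL (Fin 3) F} {W : Submodule F (Fin 3 → F)} (h : pre g W = ⊥) : W = ⊥ := by
  rw [eq_bot_iff]
  intro w hw
  have h1 : ((g⁻¹ : GL (Fin 3) F) : Matrix (Fin 3) (Fin 3) F) *ᵥ w ∈ pre g W := by
    rw [mem_pre, Matrix.mulVec_mulVec, ← Units.val_mul, mul_inv_cancel, Units.val_one, Matrix.one_mulVec]
    exact hw
  rw [h, Submodule.mem_bot] at h1
  rw [Submodule.mem_bot, ← Matrix.one_mulVec w, ← Units.val_one, ← mul_inv_cancel g, Units.val_mul,
    ← Matrix.mulVec_mulVec, h1, Matrix.mulVec_zero]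

theorem pre_top {g : GL (Fin 3) F} {W : Submodule F (Fin 3 → F)} (h : pre g W = ⊤) : W = ⊤ := by
  rw [eq_top_iff]
  intro w _
  have h1 : ((g⁻¹ : GL (Fin 3) F) : Matrix (Fin 3) (Fin 3) F) *ᵥ w ∈ pre g W := by
    rw [h]; exact Submodule.mem_top
  rw [mem_pre, Matrix.mulVec_mulVec, ← Units.val_mul, mul_inv_cancel, Units.val_one, Matrix.one_mulVec] at h1
  exact h1

theorem stab_pre {g x : GL (Fin 3) F} {W : Submodule F (Fin 3 → F)} (h : g * x * g⁻¹ ∈ subspaceStabilizer W) :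
    ∀ w ∈ pre g W, (x : Matrix (Fin 3) (Fin 3) F) *ᵥ w ∈ pre g W := by
  intro w hw
  rw [mem_pre] at hw ⊢
  have h1 := mulVec_mem_of_stab h _ hw
  rw [Matrix.mulVec_mulVec, ← Units.val_mul, inv_mul_cancel_right] at h1
  rwa [Matrix.mulVec_mulVec, ← Units.val_mul]

/-- a set of elements acts irreducibly -/
def Irr (B : Subgroup (GL (Fin 3) F)) : Prop :=
  ∀ W : Submodule F (Fin 3 → F), (∀ x ∈ B, ∀ w ∈ W, (x : Matrix (Fin 3) (Fin 3) F) *ᵥ w ∈ W) → W = ⊥ ∨ W = ⊤

/-- an irreducible group is not conjugate into a subspace stabiliser -/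
theorem exists_not_mem_of_irr {S B : Subgroup (GL (Fin 3) F)} (hB : Irr B) {W : Submodule F (Fin 3 → F)} (h0 : W ≠ ⊥)
    (h1 : W ≠ ⊤) (g : GL (Fin 3) F) : ∃ x ∈ B, g * x * g⁻¹ ∉ subspaceStabilizer W ⊓ S := by
  by_contra hcon
  push Not at hcon
  rcases hB (pre g W) (fun x hx => stab_pre (hcon x hx).1) with h | h
  · exact h0 (pre_bot h)
  · exact h1 (pre_top h)

/-! ### Subfields -/

theorem exists_subfield_card [Fintype F] {p n b : ℕ} (hp : p.Prime) (hn : n ≠ 0) (h : Fintype.card F = (p ^ n) ^ b) :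
    ∃ k : Subfield F, Nat.card k = p ^ n := by
  classical
  have := Fact.mk hp
  let K := GaloisField p n
  let _ : Fintype K := Fintype.ofFinite K
  have hK : Fintype.card K = p ^ n := by
    rw [← Nat.card_eq_fintype_card]
    exact GaloisField.card p n hn
  have h1 : Fintype.card K ^ b = Fintype.card F := by rw [hK, h]
  obtain ⟨f⟩ := Cfsg.Agent.ClassicalGeometry.PSL2Basic.exists_ringHom_of_card_pow h1
  refine ⟨f.fieldRange, ?_⟩
  rw [← hK, ← Nat.card_eq_fintype_card]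
  exact (Nat.card_congr (Equiv.ofInjective f f.injective)).symm

/-! ### Points -/

section points

variable [Fintype F] {q : ℕ} (hF : Fintype.card F = q ^ 2)
include hF

/-- a singular point -/
theorem exists_sing : ∃ W : Submodule F (Fin 3 → F), W ≠ ⊥ ∧ W ≠ ⊤ ∧ IsTotallySingularFor (hermForm 3 F q) W := by
  obtain ⟨x, hx⟩ := exists_norm_eq hF (c := (-1 : F)) (by rw [neg_pow_q hF, one_pow])
  have h0 : hermForm 3 F q ![1, x, 0] ![1, x, 0] = 0 := by
    rw [herm_def, Fin.sum_univ_three]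
    simp [hx]
  have hne : (![1, x, 0] : Fin 3 → F) ≠ 0 := fun h => one_ne_zero (congrFun h 0)
  refine ⟨F ∙ ![1, x, 0], ?_, ?_, ?_⟩
  · rw [Ne, Submodule.span_singleton_eq_bot]
    exact hne
  · intro h
    have h1 := finrank_span_singleton (K := F) hne
    rw [h, finrank_top] at h1
    simp at h1
  · intro u hu v hv
    obtain ⟨a, rfl⟩ := Submodule.mem_span_singleton.1 hu
    obtain ⟨b, rfl⟩ := Submodule.mem_span_singleton.1 hv
    rw [herm_smul_left, herm_smul_right, h0, mul_zero, mul_zero]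

/-- a nonsingular point -/
theorem exists_nonsing : ∃ W : Submodule F (Fin 3 → F), W ≠ ⊥ ∧ W ≠ ⊤ ∧ IsNondegenerateOn (hermForm 3 F q) W ∧
    2 * Module.finrank F W < 3 := by
  have h1 := (frame_decomp hF (Subgroup.one_mem _))
  refine ⟨_, ?_, ?_, h1.nondegenerate 0, ?_⟩
  · intro h
    have h2 := h1.decomp.finrank_eq 0
    rw [h, finrank_bot] at h2
    exact zero_ne_one h2
  · intro h
    have h2 := h1.decomp.finrank_eq 0
    rw [h, finrank_top] at h2
    simp at h2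
  · have h2 := h1.decomp.finrank_eq 0
    omega

/-- the group of diagonal matrices is not conjugate into the stabiliser of a singular point -/
theorem exists_not_mem_of_diag {S B : Subgroup (GL (Fin 3) F)} {x : GL (Fin 3) F} (hx : x ∈ B) {δ : Fin 3 → F}
    (hδ : Function.Injective δ) (hxδ : (x : Matrix (Fin 3) (Fin 3) F) = Matrix.diagonal δ)
    {W : Submodule F (Fin 3 → F)} (h0 : W ≠ ⊥) (hW : IsTotallySingularFor (hermForm 3 F q) W) {g : GL (Fin 3) F}
    (hg : g ∈ Cfsg.GU 3 F q) : ∃ x ∈ B, g * x * g⁻¹ ∉ subspaceStabilizer W ⊓ S := by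
  refine ⟨x, hx, fun h => ?_⟩
  have h1 := stab_pre h.1
  have h2 : pre g W ≠ ⊥ := fun h => h0 (pre_bot h)
  obtain ⟨v, hv, hv0⟩ := Submodule.exists_mem_ne_zero_of_ne_bot h2
  obtain ⟨i, hi⟩ := Function.ne_iff.1 hv0
  have h3 := mem_of_diag hδ hxδ h1 hv hi
  rw [mem_pre] at h3
  have h4 := hW _ h3 _ h3
  rw [mem_GU.1 hg, herm_single_right hF] at h4
  simp at h4

end points

/-! ### Frames -/

section frames

variable {D : Fin 3 → Submodule F (Fin 3 → F)}

/-- an element fixing all members of a frame acts by scalars on them -/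
theorem eq_one_of_fix (hD : IsMDecomposition 1 D) {x : GL (Fin 3) F}
    (hx : ∀ i, (D i).map (Matrix.toLin' (x : Matrix (Fin 3) (Fin 3) F)) = D i) {p k : ℕ} [CharP F p] (hp : p.Prime)
    (hxp : x ^ p ^ k = 1) : x = 1 := by
  have := Fact.mk hp
  have h1 : ∀ i, ∀ v ∈ D i, (x : Matrix (Fin 3) (Fin 3) F) *ᵥ v = v := by
    intro i v hv
    have hfr := hD.finrank_eq i
    obtain ⟨⟨w, hw⟩, hw0, hws⟩ := finrank_eq_one_iff'.1 hfr
    have hw0' : w ≠ 0 := fun h => hw0 (Subtype.ext h)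
    have h2 : (x : Matrix (Fin 3) (Fin 3) F) *ᵥ w ∈ D i := by
      rw [← hx i]
      exact ⟨w, hw, by rw [Matrix.toLin'_apply]⟩
    obtain ⟨c, hc⟩ := hws ⟨_, h2⟩
    have hc' : c • w = (x : Matrix (Fin 3) (Fin 3) F) *ᵥ w := congrArg Subtype.val hc
    have hpow : ∀ n : ℕ, ((x ^ n : GL (Fin 3) F) : Matrix (Fin 3) (Fin 3) F) *ᵥ w = c ^ n • w := by
      intro n
      induction n with
      | zero => simp
      | succ n ih =>
        rw [pow_succ, Units.val_mul, ← Matrix.mulVec_mulVec, ← hc', Matrix.mulVec_smul, ih, smul_smul, pow_succ, mul_comm]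
    have h3 := hpow (p ^ k)
    rw [hxp, Units.val_one, Matrix.one_mulVec] at h3
    have h4 : (c ^ p ^ k - 1) • w = 0 := by rw [sub_smul, ← h3, one_smul, sub_self]
    have h5 : c ^ p ^ k = 1 := sub_eq_zero.1 ((smul_eq_zero.1 h4).resolve_right hw0')
    have h6 : (c - 1) ^ p ^ k = 0 := by
      rw [sub_pow_char_pow, h5, one_pow, sub_self]
    have h7 : c = 1 := sub_eq_zero.1 (pow_eq_zero_iff (pow_ne_zero _ hp.ne_zero) |>.1 h6)
    obtain ⟨a, ha⟩ := hws ⟨v, hv⟩
    have ha' : a • w = v := congrArg Subtype.val ha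
    rw [← ha', Matrix.mulVec_smul, ← hc', h7, one_smul]
  have h2 : ∀ v, (x : Matrix (Fin 3) (Fin 3) F) *ᵥ v = v := by
    intro v
    have hv : v ∈ iSup D := by rw [hD.iSup_eq_top]; exact Submodule.mem_top
    refine Submodule.iSup_induction D (motive := fun v => (x : Matrix (Fin 3) (Fin 3) F) *ᵥ v = v) hv h1 ?_ ?_
    · exact Matrix.mulVec_zero _
    · intro a b ha hb
      rw [Matrix.mulVec_add, ha, hb]
  apply Units.ext
  ext i j
  have := congrFun (h2 (Pi.single j 1)) i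
  rw [Matrix.mulVec_single_one] at this
  rw [Units.val_one, Matrix.one_apply]
  simpa [Pi.single_apply] using this

/-- a subgroup of the frame stabiliser consisting of `p`-elements, `p` the characteristic, embeds in `S₃` -/
theorem card_le_of_frame (hD : IsMDecomposition 1 D) {p : ℕ} [CharP F p] (hp : p.Prime) {U : Subgroup (GL (Fin 3) F)}
    (hU : U ≤ decompositionStabilizer D) (hUp : ∀ x ∈ U, ∃ k, x ^ p ^ k = 1) : Nat.card U ∣ 6 := by
  obtain ⟨ψ, hψ⟩ := exists_permHom hD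
  let φ : U →* Equiv.Perm (Fin 3) := ψ.comp (Subgroup.inclusion hU)
  have hinj : Function.Injective φ := by
    rw [injective_iff_map_eq_one]
    intro x hx
    obtain ⟨k, hk⟩ := hUp x x.2
    apply Subtype.ext
    refine eq_one_of_fix hD (fun i => ?_) hp hk
    have := hψ (Subgroup.inclusion hU x) i
    have h2 : ψ (Subgroup.inclusion hU x) = 1 := hx
    rw [h2] at this
    exact this
  have h1 := Subgroup.card_dvd_of_injective φ hinj
  have h2 : Nat.card (Equiv.Perm (Fin 3)) = 6 := by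
    rw [Nat.card_eq_fintype_card, Fintype.card_perm, Fintype.card_fin]; rfl
  rwa [h2] at h1

/-- an irreducible element of prime order `> 3` is in no frame stabiliser -/
theorem not_mem_frame (hD : IsMDecomposition 1 D) {x : GL (Fin 3) F} {r : ℕ} (hr : r.Prime) (hr3 : 3 < r)
    (hx : orderOf x = r)
    (hirr : ∀ W : Submodule F (Fin 3 → F), (∀ w ∈ W, (x : Matrix (Fin 3) (Fin 3) F) *ᵥ w ∈ W) → W = ⊥ ∨ W = ⊤) :
    x ∉ decompositionStabilizer D := by
  intro hxD
  obtain ⟨ψ, hψ⟩ := exists_permHom hD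
  have h1 : ψ ⟨x, hxD⟩ ^ r = 1 := by
    rw [← map_pow]
    have : (⟨x, hxD⟩ : decompositionStabilizer D) ^ r = 1 := Subtype.ext (by rw [← hx]; exact pow_orderOf_eq_one x)
    rw [this, map_one]
  have h2 : ψ ⟨x, hxD⟩ = 1 := by
    rw [← orderOf_eq_one_iff]
    have h3 : orderOf (ψ ⟨x, hxD⟩) ∣ r := orderOf_dvd_of_pow_eq_one h1
    have h4 : orderOf (ψ ⟨x, hxD⟩) ∣ 6 := by
      have h2 : Nat.card (Equiv.Perm (Fin 3)) = 6 := by
        rw [Nat.card_eq_fintype_card, Fintype.card_perm, Fintype.card_fin]; rfl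
      rw [← h2]; exact orderOf_dvd_natCard _
    rcases (Nat.dvd_prime hr).1 h3 with h5 | h5
    · exact h5
    · exfalso
      rw [h5] at h4
      have : r ∣ 2 * 3 := h4
      rcases (hr.dvd_mul).1 this with h6 | h6
      · have := Nat.le_of_dvd (by norm_num) h6; omega
      · have := Nat.le_of_dvd (by norm_num) h6; omega
  have h3 := hψ ⟨x, hxD⟩ 0
  rw [h2] at h3
  have h4 := hirr (D 0) (fun w hw => by
    have h5 : (D 0).map (Matrix.toLin' (x : Matrix (Fin 3) (Fin 3) F)) = D 0 := h3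
    rw [← h5]
    exact ⟨w, hw, by rw [Matrix.toLin'_apply]⟩)
  have h5 := hD.finrank_eq 0
  rcases h4 with h4 | h4
  · rw [h4, finrank_bot] at h5
    exact zero_ne_one h5
  · rw [h4, finrank_top] at h5
    simp at h5

end frames

/-! ### The element of order `r` -/

/-- the primitive prime divisors of `p ^ (6 f) - 1` -/
theorem exists_ppd {p f : ℕ} (hp : p.Prime) (hf : f ≠ 0) (hq : p ^ f ≠ 2) :
    ∃ r : ℕ, r.Prime ∧ (∀ m, r ∣ p ^ m - 1 ↔ 6 * f ∣ m) ∧ 5 ≤ r ∧ ¬ r ∣ p ∧ r ∣ (p ^ f) ^ 3 + 1 := by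
  obtain ⟨r, hr, h1, h2, h3⟩ := Cfsg.Agent.Lib.Zsigmondy.exists_primitive (a := p) (n := 6 * f) hp.two_le
    (by omega) (by omega) (by
      rintro ⟨h4, h5⟩
      apply hq
      have : f = 1 := by omega
      rw [h4, this, pow_one])
  refine ⟨r, hr, h1, ?_, h3, ?_⟩
  · have h4 : 6 * f ≤ r - 1 := Nat.le_of_dvd (by have := hr.two_le; omega) h2
    omega
  · have h4 : r ∣ p ^ (6 * f) - 1 := (h1 _).2 dvd_rfl
    have h5 : ¬ r ∣ p ^ (3 * f) - 1 := fun h => by
      have := Nat.le_of_dvd (by omega) ((h1 _).1 h)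
      omega
    have h6 : p ^ (6 * f) - 1 = ((p ^ f) ^ 3 + 1) * (p ^ (3 * f) - 1) := by
      rw [← pow_mul, mul_comm f 3, Nat.mul_sub_one, add_mul, ← pow_add, show 3 * f + 3 * f = 6 * f by ring]
      have : 1 ≤ p ^ (3 * f) := Nat.one_le_pow _ _ hp.pos
      omega
    rw [h6] at h4
    exact (hr.dvd_mul.1 h4).resolve_right h5

/-- an element of order `r`, irreducible -/
theorem exists_elt [Fintype F] {q : ℕ} (hF : Fintype.card F = q ^ 2) {p f : ℕ} (hq : q = p ^ f)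
    {r : ℕ} (hr : r.Prime) (h1 : ∀ m, r ∣ p ^ m - 1 ↔ 6 * f ∣ m) (h2 : ¬ r ∣ p) (h3 : r ∣ q ^ 3 + 1) (hf : f ≠ 0) :
    ∃ x ∈ SUg 3 F q, orderOf x = r ∧
      ∀ W : Submodule F (Fin 3 → F), (∀ w ∈ W, (x : Matrix (Fin 3) (Fin 3) F) *ᵥ w ∈ W) → W = ⊥ ∨ W = ⊤ := by
  have := Fact.mk hr
  have h4 : r ∣ Nat.card (SUg 3 F q) := by
    rw [card_SUg hF]
    exact h3.mul_left _
  obtain ⟨⟨x, hx⟩, hxo⟩ := exists_prime_orderOf_dvd_card' r h4
  rw [Subgroup.orderOf_mk] at hxo
  refine ⟨x, hx, hxo, fun W hW => ?_⟩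
  refine Cfsg.Agent.H915.irr_of_prime_order hr hxo ?_ ?_ hW
  · rw [hF, hq]
    intro h
    exact h2 (hr.dvd_of_dvd_pow (hr.dvd_of_dvd_pow h))
  · intro i hi hi3 h
    rw [hF, hq, ← pow_mul, ← pow_mul, h1] at h
    rw [Fintype.card_fin] at hi3
    have h5 : 0 < f * (2 * i) := by positivity
    have h6 := Nat.le_of_dvd h5 h
    have h7 : f * (2 * i) ≤ f * 4 := Nat.mul_le_mul_left _ (by omega)
    omega

end Cfsg.Agent.H950.MC
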