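import Mathlib
import Cfsg.Agent.H950.MCTools

/-!
# The subfield groups of `SU₃(q)` (helper950, for S5906, S5907)
-/

set_option autoImplicit false
set_option linter.unusedSectionVars false

namespace Cfsg.Agent.H950.MC

open Cfsg Cfsg.Geo Matrix Cfsg.Agent.H918 Cfsg.Agent.LieClassical.HermBasic Cfsg.Agent.H907 Cfsg.Agent.H907.SU3
  Cfsg.Agent.H907.Mx Cfsg.Agent.H914
open scoped MatrixGroups

variable {F : Type*} [Field F]

theorem mem_sub_of {F₀ : Subfield F} {g : GL (Fin 3) F} (h : ∀ i j, (g : Matrix (Fin 3) (Fin 3) F) i j ∈ F₀) :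
    g ∈ subfieldSubgroup F₀ 1 :=
  mem_subfieldSubgroup_iff.2 ⟨1, one_ne_zero, fun i j => by simpa using h i j⟩

section two

variable [Fintype F] {q : ℕ} (hF : Fintype.card F = q ^ 2)
include hF

/-- the standard rational structure -/
theorem formRational {F₀ : Subfield F} (h : ∀ x ∈ F₀, x ^ q ∈ F₀) :
    IsFormRationalStructure (hermForm 3 F q) F₀ 1 1 := by
  intro u v hu hv
  rw [one_mul, Units.val_one, Matrix.one_mulVec, Matrix.one_mulVec, herm_def]
  exact F₀.sum_mem fun i _ => F₀.mul_mem (hu i) (h _ (hv i))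

theorem formRational' {F₀ : Subfield F} : IsFormRationalStructure (hermForm 3 F q) F₀ 1 1 :=
  formRational hF fun _ hx => F₀.pow_mem hx q

end two

/-! ### Real unipotent elements -/

section real

/-- the nilpotent antisymmetric matrix -/
def nil (a b c : F) : Matrix (Fin 3) (Fin 3) F := !![0, c, -b; -c, 0, a; b, -a, 0]

theorem nil_cube {a b c : F} (h : a ^ 2 + b ^ 2 + c ^ 2 = 0) : nil a b c * nil a b c * nil a b c = 0 := by
  have h1 : nil a b c * nil a b c * nil a b c = -(a ^ 2 + b ^ 2 + c ^ 2) • nil a b c := by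
    ext i j
    fin_cases i <;> fin_cases j <;> simp [nil, Matrix.mul_apply, Fin.sum_univ_three] <;> ring
  rw [h1, h, neg_zero, zero_smul]

theorem nil_transpose {a b c : F} : (nil a b c)ᵀ = - nil a b c := by
  ext i j
  fin_cases i <;> fin_cases j <;> simp [nil]

/-- the exponential -/
def ex (N : Matrix (Fin 3) (Fin 3) F) (t : F) : Matrix (Fin 3) (Fin 3) F := 1 + t • N + (t ^ 2 / 2) • (N * N)

theorem ex_mul {N : Matrix (Fin 3) (Fin 3) F} (h2 : (2 : F) ≠ 0) (hN : N * N * N = 0) (s t : F) :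
    ex N s * ex N t = ex N (s + t) := by
  have h3 : N * (N * N) = 0 := by rw [← mul_assoc, hN]
  have h4 : N * N * (N * N) = 0 := by rw [← mul_assoc, hN, zero_mul]
  have h5 : (s + t) ^ 2 / 2 = s ^ 2 / 2 + s * t + t ^ 2 / 2 := by field_simp; ring
  rw [ex, ex, ex, h5]
  simp only [add_mul, mul_add, one_mul, mul_one, Matrix.smul_mul, Matrix.mul_smul, h3, hN, h4, smul_zero, add_zero,
    smul_smul, add_smul]
  rw [mul_comm t s]
  abel

theorem ex_zero {N : Matrix (Fin 3) (Fin 3) F} : ex N 0 = 1 := by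
  rw [ex]; simp

theorem ex_transpose {N : Matrix (Fin 3) (Fin 3) F} (hN : Nᵀ = -N) (t : F) : (ex N t)ᵀ = ex N (-t) := by
  rw [ex, ex, Matrix.transpose_add, Matrix.transpose_add, Matrix.transpose_one, Matrix.transpose_smul,
    Matrix.transpose_smul, Matrix.transpose_mul, hN, neg_mul_neg, smul_neg, neg_smul]
  simp

theorem ex_injective {N : Matrix (Fin 3) (Fin 3) F} (hN : N * N * N = 0) (hN0 : N ≠ 0) {t : F}
    (h : ex N t = 1) : t = 0 := by
  by_contra ht
  have h1 : t • N + (t ^ 2 / 2) • (N * N) = 0 := by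
    have := h
    rw [ex, add_assoc, add_eq_left] at this
    exact this
  have h3 : N * N = 0 := by
    have h4 := congrArg (fun X => X * N) h1
    simp only [add_mul, Matrix.smul_mul, hN, smul_zero, add_zero, zero_mul] at h4
    exact (smul_eq_zero.1 h4).resolve_left ht
  rw [h3, smul_zero, add_zero] at h1
  exact hN0 ((smul_eq_zero.1 h1).resolve_left ht)

variable [Fintype F] {q : ℕ} (hF : Fintype.card F = q ^ 2)
include hF

theorem ex_real {F₀ : Subfield F} {N : Matrix (Fin 3) (Fin 3) F} (hN : ∀ i j, N i j ∈ F₀) {t : F} (ht : t ∈ F₀)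
    (i j : Fin 3) : ex N t i j ∈ F₀ := by
  rw [ex, Matrix.add_apply, Matrix.add_apply, Matrix.smul_apply, Matrix.smul_apply, Matrix.mul_apply, smul_eq_mul,
    smul_eq_mul]
  refine F₀.add_mem (F₀.add_mem ?_ (F₀.mul_mem ht (hN i j))) (F₀.mul_mem (F₀.div_mem (F₀.pow_mem ht 2) ?_)
    (F₀.sum_mem fun k _ => F₀.mul_mem (hN i k) (hN k j)))
  · rw [Matrix.one_apply]
    split_ifs
    · exact F₀.one_mem
    · exact F₀.zero_mem
  · have := F₀.add_mem F₀.one_mem F₀.one_mem
    rwa [one_add_one_eq_two] at this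

/-- **Real unipotent elements**: a subgroup of order `q` and exponent `p` in the real type. -/
theorem exists_real_unip (hq : Odd q) {p : ℕ} [CharP F p] {F₀ : Subfield F}
    (hc : Fintype.card F = Nat.card F₀ ^ 2) :
    ∃ U : Subgroup (GL (Fin 3) F), U ≤ subfieldSubgroup F₀ 1 ⊓ SUg 3 F q ∧ Nat.card U = q ∧ ∀ x ∈ U, x ^ p = 1 := by
  have hF₀ : Nat.card F₀ = q := by
    rw [hF] at hc
    exact (Nat.pow_left_injective two_ne_zero hc).symm
  have h2 : (2 : F) ≠ 0 := by
    intro h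
    have h3 : CharP F 2 := CharTwo.of_one_ne_zero_of_two_eq_zero one_ne_zero h
    obtain ⟨n, -, hn⟩ := FiniteField.card F 2
    rw [hF] at hn
    have h4 : Odd (q ^ 2) := hq.pow
    rw [hn, Nat.odd_pow_iff n.ne_zero] at h4
    exact absurd h4 (by decide)
  have h2₀ : (2 : F₀) ≠ 0 := fun h => h2 (congrArg Subtype.val h)
  obtain ⟨s, t, hst⟩ := exists_two_sq h2₀ (one_ne_zero (α := F₀)) (one_ne_zero (α := F₀)) (-1)
  have hst' : (1 : F) ^ 2 + (s : F) ^ 2 + (t : F) ^ 2 = 0 := by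
    have := congrArg (Subtype.val) hst
    push_cast at this
    linear_combination this
  obtain ⟨N, hN⟩ : ∃ N, N = nil (1 : F) s t := ⟨_, rfl⟩
  have hN3 : N * N * N = 0 := by rw [hN]; exact nil_cube hst'
  have hNt : Nᵀ = -N := by rw [hN]; exact nil_transpose
  have hN0 : N ≠ 0 := by
    intro h
    have := congrFun (congrFun h 1) 2
    rw [hN] at this
    simp [nil] at this
  have hNr : ∀ i j, N i j ∈ F₀ := by
    intro i j
    rw [hN]
    fin_cases i <;> fin_cases j <;> simp [nil, F₀.zero_mem, F₀.one_mem, F₀.neg_mem]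
  -- the homomorphism
  let u : Multiplicative F₀ →* GL (Fin 3) F := MonoidHom.mk'
    (fun t => ⟨ex N ((Multiplicative.toAdd t : F₀) : F), ex N (-((Multiplicative.toAdd t : F₀) : F)),
      by rw [ex_mul h2 hN3, add_neg_cancel, ex_zero], by rw [ex_mul h2 hN3, neg_add_cancel, ex_zero]⟩)
    (fun a b => by
      apply Units.ext
      show ex N (((Multiplicative.toAdd a + Multiplicative.toAdd b : F₀)) : F) = _
      rw [Units.val_mul]
      show _ = ex N _ * ex N _
      rw [ex_mul h2 hN3]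
      rfl)
  have hu : ∀ t, (u t : Matrix (Fin 3) (Fin 3) F) = ex N ((Multiplicative.toAdd t : F₀) : F) := fun _ => rfl
  have hinj : Function.Injective u := by
    rw [injective_iff_map_eq_one]
    intro t ht
    have h3 := congrArg Units.val ht
    rw [hu, Units.val_one] at h3
    have h4 := ex_injective hN3 hN0 h3
    apply Multiplicative.toAdd.injective
    exact Subtype.ext h4
  have hfix : ∀ x ∈ F₀, x ^ q = x := fun x hx => (mem_F₀_iff hF hc x).1 hx
  refine ⟨u.range, ?_, ?_, ?_⟩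
  · rintro _ ⟨t, rfl⟩
    have hr : ∀ i j, (u t : Matrix (Fin 3) (Fin 3) F) i j ∈ F₀ := by
      intro i j
      rw [hu]
      exact ex_real hF hNr (Multiplicative.toAdd t).2 i j
    have hct : ∀ t : Multiplicative F₀, ct q (u t : Matrix (Fin 3) (Fin 3) F) * (u t : Matrix (Fin 3) (Fin 3) F) = 1 := by
      intro t
      have h3 : ct q (u t : Matrix (Fin 3) (Fin 3) F) = (u t : Matrix (Fin 3) (Fin 3) F)ᵀ := by
        ext i j
        rw [Matrix.transpose_apply]
        show ((u t : Matrix (Fin 3) (Fin 3) F) j i) ^ q = _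
        rw [hu]
        exact hfix _ (ex_real hF hNr (Multiplicative.toAdd t).2 j i)
      rw [h3, hu, ex_transpose hNt, ex_mul h2 hN3, neg_add_cancel, ex_zero]
    refine ⟨mem_sub_of hr, (mem_GU_iff_ct hF).2 (hct t), mem_specialLinear.2 ?_⟩
    -- the determinant of a square
    obtain ⟨s, hs⟩ : ∃ s : Multiplicative F₀, u t = u s * u s := by
      refine ⟨Multiplicative.ofAdd (Multiplicative.toAdd t / 2), ?_⟩
      have : NeZero (2 : F₀) := ⟨h2₀⟩
      rw [← map_mul, ← ofAdd_add, add_halves]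
      rfl
    have h4 := congrArg Matrix.det (hct s)
    rw [Matrix.det_mul, Matrix.det_one] at h4
    have h5 : (ct q (u s : Matrix (Fin 3) (Fin 3) F)).det = (u s : Matrix (Fin 3) (Fin 3) F).det := by
      have h3 : ct q (u s : Matrix (Fin 3) (Fin 3) F) = (u s : Matrix (Fin 3) (Fin 3) F)ᵀ := by
        ext i j
        rw [Matrix.transpose_apply]
        show ((u s : Matrix (Fin 3) (Fin 3) F) j i) ^ q = _
        rw [hu]
        exact hfix _ (ex_real hF hNr (Multiplicative.toAdd s).2 j i)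
      rw [h3, Matrix.det_transpose]
    rw [h5] at h4
    rw [hs, Units.val_mul, Matrix.det_mul, h4]
  · rw [← hF₀, ← Nat.card_congr (MonoidHom.ofInjective hinj).toEquiv]
    rfl
  · rintro _ ⟨t, rfl⟩
    rw [← map_pow]
    have h3 : t ^ p = 1 := by
      apply Multiplicative.toAdd.injective
      apply Subtype.ext
      rw [toAdd_pow, toAdd_one]
      push_cast
      rw [nsmul_eq_mul, CharP.cast_eq_zero F p, zero_mul]
    rw [h3, map_one]

end real

/-! ### The image of `SU₃` of a subfield -/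

section odd

open Cfsg.Agent.H930.GUSub

variable [Fintype F] {q : ℕ}

theorem map_mem {F₁ : Subfield F} [Fintype F₁] {q₁ : ℕ} (S : Setup F₁ q q₁) {g : GL (Fin 3) F₁}
    (hg : g ∈ SUg 3 F₁ q₁) : Matrix.GeneralLinearGroup.map (F₁.subtype : F₁ →+* F) g ∈
      subfieldSubgroup F₁ 1 ⊓ SUg 3 F q := by
  have h0 : ((Matrix.GeneralLinearGroup.map (F₁.subtype : F₁ →+* F) g : GL (Fin 3) F) : Matrix (Fin 3) (Fin 3) F) =
    (g : Matrix (Fin 3) (Fin 3) F₁).map F₁.subtype := rfl
  refine ⟨mem_sub_of fun i j => ?_, (mem_GU_iff_ct S.hF).2 ?_, mem_specialLinear.2 ?_⟩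
  · rw [h0]
    exact ((g : Matrix (Fin 3) (Fin 3) F₁) i j).2
  · rw [h0]
    have h3 : ct q ((g : Matrix (Fin 3) (Fin 3) F₁).map F₁.subtype) = (ct q₁ (g : Matrix (Fin 3) (Fin 3) F₁)).map F₁.subtype := by
      ext i j
      show (((g : Matrix (Fin 3) (Fin 3) F₁) j i : F₁) : F) ^ q = ((((g : Matrix (Fin 3) (Fin 3) F₁) j i) ^ q₁ : F₁) : F)
      exact S.pow_eq _
    rw [h3, ← Matrix.map_mul, (mem_GU_iff_ct S.hF₀).1 hg.1, Matrix.map_one _ (map_zero _) (map_one _)]
  · rw [h0]
    have h3 : F₁.subtype.mapMatrix (g : Matrix (Fin 3) (Fin 3) F₁) = (g : Matrix (Fin 3) (Fin 3) F₁).map F₁.subtype := rfl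
    rw [← h3, ← RingHom.map_det, mem_specialLinear.1 hg.2, map_one]

theorem card_dvd_sub {F₁ : Subfield F} [Fintype F₁] {q₁ : ℕ} (S : Setup F₁ q q₁) :
    q₁ ^ 3 * (q₁ ^ 2 - 1) * (q₁ ^ 3 + 1) ∣ Nat.card ↥(subfieldSubgroup F₁ 1 ⊓ SUg 3 F q : Subgroup (GL (Fin 3) F)) := by
  rw [← card_SUg S.hF₀]
  let φ : SUg 3 F₁ q₁ →* ↥(subfieldSubgroup F₁ 1 ⊓ SUg 3 F q : Subgroup (GL (Fin 3) F)) :=
    ((Matrix.GeneralLinearGroup.map (F₁.subtype : F₁ →+* F)).comp (SUg 3 F₁ q₁).subtype).codRestrict _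
      fun g => map_mem S g.2
  refine Subgroup.card_dvd_of_injective φ ?_
  intro a b hab
  apply Subtype.ext
  apply Units.ext
  have h1 : (((a : GL (Fin 3) F₁) : Matrix (Fin 3) (Fin 3) F₁).map F₁.subtype) =
      (((b : GL (Fin 3) F₁) : Matrix (Fin 3) (Fin 3) F₁).map F₁.subtype) :=
    congrArg (fun x : ↥(subfieldSubgroup F₁ 1 ⊓ SUg 3 F q : Subgroup (GL (Fin 3) F)) =>
      ((x : GL (Fin 3) F) : Matrix (Fin 3) (Fin 3) F)) hab
  ext i j
  exact congrFun (congrFun h1 i) j

end odd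

end Cfsg.Agent.H950.MC
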