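import Mathlib
import Cfsg.Agent.H950.MCSub

/-!
# Five classes of maximal subgroups in `PSU₃(q)`, `q ≠ 5` (helper950, for S5906, S5907)
-/

set_option autoImplicit false
set_option linter.unusedSectionVars false
set_option linter.unusedSimpArgs false

namespace Cfsg.Agent.H950.MC

open Cfsg Cfsg.Geo Matrix Cfsg.Agent.H918 Cfsg.Agent.LieClassical.HermBasic Cfsg.Agent.H907 Cfsg.Agent.H907.SU3
  Cfsg.Agent.H907.Mx Cfsg.Agent.H914 Cfsg.Agent.H940.MaxCls
open scoped MatrixGroups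

/-- the parts (1)–(6) of S5777 -/
structure Geom (F : Type*) [Field F] [Fintype F] (q : ℕ) : Prop where
  sing : ∀ W : Submodule F (Fin 3 → F), W ≠ ⊥ → IsTotallySingularFor (hermForm 3 F q) W →
    IsMaximalIn (SUg 3 F q) (subspaceStabilizer W ⊓ SUg 3 F q)
  nons : ∀ W : Submodule F (Fin 3 → F), W ≠ ⊥ → IsNondegenerateOn (hermForm 3 F q) W → 2 * Module.finrank F W < 3 →
    IsMaximalIn (SUg 3 F q) (subspaceStabilizer W ⊓ SUg 3 F q)
  frame : q ≠ 5 → ∀ D : Fin 3 → Submodule F (Fin 3 → F), IsNondegenerateMDecomposition (hermForm 3 F q) 1 D →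
    IsMaximalIn (SUg 3 F q) (decompositionStabilizer D ⊓ SUg 3 F q)
  cubic : q ≠ 3 → q ≠ 5 → ∀ K : Subalgebra F (Matrix (Fin 3) (Fin 3) F), IsFieldSubalgebra 3 K →
    IsAdjointClosedFor (hermForm 3 F q) K → IsMaximalIn (SUg 3 F q) (subalgebraNormalizer K ⊓ SUg 3 F q)
  sub : ∀ (F₀ : Subfield F) (r : ℕ) (P : GL (Fin 3) F), r.Prime → Odd r → Fintype.card F = Nat.card F₀ ^ r →
    IsFormRationalStructure (hermForm 3 F q) F₀ 1 P → IsMaximalIn (SUg 3 F q) (subfieldSubgroup F₀ P ⊓ SUg 3 F q)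
  real : Odd q → 7 ≤ q → ∀ (F₀ : Subfield F) (P : GL (Fin 3) F), Fintype.card F = Nat.card F₀ ^ 2 →
    IsFormRationalStructure (hermForm 3 F q) F₀ 1 P → IsMaximalIn (SUg 3 F q) (subfieldSubgroup F₀ P ⊓ SUg 3 F q)

variable {F : Type*} [Field F]

/-! ### Irreducible groups -/

theorem irr_of_diag_cyc {B : Subgroup (GL (Fin 3) F)} {x c : GL (Fin 3) F} (hx : x ∈ B) (hc : c ∈ B) {δ : Fin 3 → F}
    (hδ : Function.Injective δ) (hxδ : (x : Matrix (Fin 3) (Fin 3) F) = Matrix.diagonal δ)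
    (hcc : (c : Matrix (Fin 3) (Fin 3) F) = !![0, 0, 1; 1, 0, 0; 0, 1, 0]) : Irr B :=
  fun _ hW => irr_of hδ hxδ hcc (hW x hx) (hW c hc)

/-- the group generated by the diagonal matrices with entries `± 1` and the cyclic permutation is irreducible -/
theorem irr_of_signs (h2 : (2 : F) ≠ 0) {B : Subgroup (GL (Fin 3) F)} {c : GL (Fin 3) F} (hc : c ∈ B)
    (hcc : (c : Matrix (Fin 3) (Fin 3) F) = !![0, 0, 1; 1, 0, 0; 0, 1, 0])
    (hs : ∀ i : Fin 3, ∃ s ∈ B, (s : Matrix (Fin 3) (Fin 3) F) = Matrix.diagonal fun j => if j = i then 1 else -1) :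
    Irr B := by
  intro W hW
  by_cases hW0 : W = ⊥
  · exact Or.inl hW0
  · right
    obtain ⟨v, hv, hv0⟩ := Submodule.exists_mem_ne_zero_of_ne_bot hW0
    obtain ⟨i, hi⟩ := Function.ne_iff.1 hv0
    obtain ⟨s, hsB, hss⟩ := hs i
    have h1 : v + (s : Matrix (Fin 3) (Fin 3) F) *ᵥ v ∈ W := W.add_mem hv (hW s hsB v hv)
    have h3 : v + (s : Matrix (Fin 3) (Fin 3) F) *ᵥ v = (2 * v i) • Pi.single i 1 := by
      rw [hss]
      ext j
      rw [Pi.add_apply, Matrix.mulVec_diagonal, Pi.smul_apply, smul_eq_mul]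
      by_cases hj : j = i
      · subst hj
        rw [if_pos rfl, Pi.single_eq_same]; ring
      · rw [if_neg hj, Pi.single_eq_of_ne hj]; ring
    rw [h3] at h1
    exact top_of_cyc hcc (hW c hc) ((Submodule.smul_mem_iff W (mul_ne_zero h2 hi)).1 h1)

theorem ne_of_maximal {S A : Subgroup (GL (Fin 3) F)} (h : IsMaximalIn S A) : A ≠ S := h.1.ne

section main

variable [Fintype F] {q : ℕ} (hF : Fintype.card F = q ^ 2)
include hF

/-- an irreducible element of prime order `r > 3` has no fixed vectors, nor has its cube -/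
theorem det_cube_ne {x : GL (Fin 3) F} {r : ℕ} (hr : r.Prime) (hr3 : 3 < r) (hx : orderOf x = r)
    (hirr : ∀ W : Submodule F (Fin 3 → F), (∀ w ∈ W, (x : Matrix (Fin 3) (Fin 3) F) *ᵥ w ∈ W) → W = ⊥ ∨ W = ⊤) :
    (((x ^ 3 : GL (Fin 3) F) : Matrix (Fin 3) (Fin 3) F) - 1).det ≠ 0 := by
  intro h
  obtain ⟨v, hv0, hv⟩ := Matrix.exists_mulVec_eq_zero_iff.2 h
  have h1 : ((x ^ 3 : GL (Fin 3) F) : Matrix (Fin 3) (Fin 3) F) *ᵥ v = v := by
    rw [Matrix.sub_mulVec, Matrix.one_mulVec, sub_eq_zero] at hv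
    exact hv
  -- `x` is a power of `x ^ 3`
  have hcop : Nat.Coprime 3 r := by
    rw [Nat.coprime_comm]
    refine (Nat.Prime.coprime_iff_not_dvd hr).2 fun h3 => ?_
    have := Nat.le_of_dvd (by norm_num) h3
    omega
  have h2 : ∃ n : ℕ, (x ^ 3) ^ n = x := by
    have h3 : x ∈ Subgroup.zpowers (x ^ 3) := by
      have h4 : Subgroup.zpowers (x ^ 3) = Subgroup.zpowers x := by
        apply Subgroup.eq_of_le_of_card_ge
        · rw [Subgroup.zpowers_le]
          exact Subgroup.npow_mem_zpowers x 3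
        · rw [Nat.card_zpowers, Nat.card_zpowers, Nat.Coprime.orderOf_pow]
          rw [hx]; exact hcop.symm
      rw [h4]; exact Subgroup.mem_zpowers x
    have h4 := mem_powers_iff_mem_zpowers.2 h3
    exact h4
  obtain ⟨n, hn⟩ := h2
  have hpow : ∀ n : ℕ, (((x ^ 3) ^ n : GL (Fin 3) F) : Matrix (Fin 3) (Fin 3) F) *ᵥ v = v := by
    intro n
    induction n with
    | zero => simp
    | succ n ih => rw [pow_succ, Units.val_mul, ← Matrix.mulVec_mulVec, h1, ih]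
  have h3 := hpow n
  rw [hn] at h3
  rcases hirr (F ∙ v) (fun w hw => by
    obtain ⟨a, rfl⟩ := Submodule.mem_span_singleton.1 hw
    rw [Matrix.mulVec_smul, h3]
    exact hw) with h4 | h4
  · exact hv0 (Submodule.span_singleton_eq_bot.1 h4)
  · have h5 := finrank_span_singleton (K := F) hv0
    rw [h4, finrank_top] at h5
    simp at h5

/-- The general assembly, with the fifth subgroup `E` as a parameter. -/
theorem sep_five_of (hG : Geom F q) (hq4 : 4 ≤ q) (hq5 : q ≠ 5) {p f : ℕ} [CharP F p] (hp : p.Prime) (hqp : q = p ^ f)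
    {E : Subgroup (GL (Fin 3) F)} (hE : IsMaximalIn (SUg 3 F q) E) (hEirr : Irr E)
    {U : Subgroup (GL (Fin 3) F)} (hUE : U ≤ E) (hUp : ∀ x ∈ U, ∃ k, x ^ p ^ k = 1) (hU6 : ¬ Nat.card U ∣ 6)
    (hEr : ∀ r : ℕ, r.Prime → (∀ m, r ∣ p ^ m - 1 ↔ 6 * f ∣ m) → 5 ≤ r → ¬ r ∣ p → ∀ x ∈ SUg 3 F q, orderOf x = r →
      (∀ W : Submodule F (Fin 3 → F), (∀ w ∈ W, (x : Matrix (Fin 3) (Fin 3) F) *ᵥ w ∈ W) → W = ⊥ ∨ W = ⊤) →
      x ∉ E) : Sep 5 (PSU 3 F q) := by
  have hf : f ≠ 0 := by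
    rintro rfl
    rw [pow_zero] at hqp
    omega
  obtain ⟨r, hr, hr1, hr5, hrp, hrq⟩ := exists_ppd hp hf (by rw [← hqp]; omega)
  rw [← hqp] at hrq
  obtain ⟨x, hxS, hxr, hxirr⟩ := exists_elt hF hqp hr hr1 hrp hrq hf
  obtain ⟨W₁, hW1, hW1', hW1s⟩ := exists_sing hF
  have hDec := frame_decomp hF (Subgroup.one_mem (Cfsg.GU 3 F q))
  obtain ⟨D, hD⟩ : ∃ D : Fin 3 → Submodule F (Fin 3 → F), D = fun i => F ∙ (((1 : GL (Fin 3) F) :
    Matrix (Fin 3) (Fin 3) F) *ᵥ Pi.single i 1) := ⟨_, rfl⟩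
  rw [← hD] at hDec
  obtain ⟨W₂, hW2d⟩ : ∃ W₂, W₂ = D 0 := ⟨_, rfl⟩
  have hW2r : Module.finrank F W₂ = 1 := by rw [hW2d]; exact hDec.decomp.finrank_eq 0
  have hW2 : W₂ ≠ ⊥ := by
    rintro rfl
    rw [finrank_bot] at hW2r
    exact zero_ne_one hW2r
  have hW2' : W₂ ≠ ⊤ := by
    rintro rfl
    rw [finrank_top] at hW2r
    simp at hW2r
  have hW2s : IsNondegenerateOn (hermForm 3 F q) W₂ := by rw [hW2d]; exact hDec.nondegenerate 0
  have hW2f : 2 * Module.finrank F W₂ < 3 := by omega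
  have hA := hG.sing W₁ hW1 hW1s
  have hB := hG.nons W₂ hW2 hW2s hW2f
  have hC := hG.frame hq5 D hDec
  -- elements of the torus
  obtain ⟨ζ, hζ⟩ := exists_orderOf_eq hF
  have hζ0 : ζ ≠ 0 := by
    rintro rfl
    rw [orderOf_zero F] at hζ
    omega
  have hζq : ζ ^ (q + 1) = 1 := by rw [← hζ]; exact pow_orderOf_eq_one ζ
  obtain ⟨t, htS, ht⟩ := exists_diag hF (a := 1) (b := ζ) (c := ζ⁻¹) (one_pow _) hζq (by rw [inv_pow, hζq, inv_one])
    (by rw [one_mul, mul_inv_cancel₀ hζ0])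
  have hζ1 : ζ ≠ 1 := by
    intro h
    rw [h, orderOf_one] at hζ
    omega
  have hζ2 : ζ ≠ ζ⁻¹ := by
    intro h
    have h1 : ζ ^ 2 = 1 := by rw [sq]; nth_rewrite 2 [h]; exact mul_inv_cancel₀ hζ0
    have h2 := Nat.le_of_dvd (by norm_num) (orderOf_dvd_of_pow_eq_one h1)
    omega
  have hinj : Function.Injective ![(1 : F), ζ, ζ⁻¹] := by
    intro i j hij
    have h1 : (1 : F) ≠ ζ⁻¹ := fun h => hζ1 (by rw [← inv_inv ζ, ← h, inv_one])
    fin_cases i <;> fin_cases j <;> simp at hij ⊢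
    · exact hζ1 hij.symm
    · exact h1 (by rw [hij]; simp)
    · exact hζ1 hij
    · exact hζ2 hij
    · exact h1 (by rw [hij]; simp)
    · exact hζ2 hij.symm
  obtain ⟨c, hcS, hc⟩ := exists_cyc hF
  -- diagonal and cyclic matrices in the groups
  have ht1 : ∀ i, (t : Matrix (Fin 3) (Fin 3) F) *ᵥ Pi.single i 1 = (![(1 : F), ζ, ζ⁻¹] i) • Pi.single i 1 := by
    intro i
    rw [ht]
    ext j
    rw [Matrix.mulVec_diagonal, Pi.smul_apply, smul_eq_mul]
    by_cases h : j = i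
    · subst h; rfl
    · rw [Pi.single_eq_of_ne h, mul_zero, mul_zero]
  have htD : ∀ i, (D i).map (Matrix.toLin' (t : Matrix (Fin 3) (Fin 3) F)) = D ((1 : Equiv.Perm (Fin 3)) i) := by
    intro i
    rw [hD, Equiv.Perm.one_apply]
    show (F ∙ (((1 : GL (Fin 3) F) : Matrix (Fin 3) (Fin 3) F) *ᵥ Pi.single i 1)).map _ =
      (F ∙ (((1 : GL (Fin 3) F) : Matrix (Fin 3) (Fin 3) F) *ᵥ Pi.single i 1))
    rw [Units.val_one, Matrix.one_mulVec, Submodule.map_span, Set.image_singleton, Matrix.toLin'_apply, ht1]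
    apply Submodule.span_singleton_smul_eq
    have : (![(1 : F), ζ, ζ⁻¹] i) ≠ 0 := by
      fin_cases i <;> simp [hζ0]
    exact this.isUnit
  have htC : t ∈ decompositionStabilizer D ⊓ SUg 3 F q := ⟨⟨1, htD⟩, htS⟩
  have htB : t ∈ subspaceStabilizer W₂ ⊓ SUg 3 F q := by
    refine ⟨fun v => ?_, htS⟩
    have h1 := htD 0
    rw [Equiv.Perm.one_apply, ← hW2d] at h1
    constructor
    · intro hv
      have : (Matrix.toLin' (t : Matrix (Fin 3) (Fin 3) F)) v ∈ W₂.map (Matrix.toLin' (t : Matrix (Fin 3) (Fin 3) F)) :=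
        ⟨v, hv, rfl⟩
      rw [h1, Matrix.toLin'_apply] at this
      exact this
    · intro hv
      have h2 : (t : Matrix (Fin 3) (Fin 3) F) *ᵥ v ∈ W₂.map (Matrix.toLin' (t : Matrix (Fin 3) (Fin 3) F)) := by
        rw [h1]; exact hv
      obtain ⟨w, hw, hwv⟩ := h2
      rw [Matrix.toLin'_apply] at hwv
      have h3 : w = v := by
        have h4 := congrArg (fun u => ((t⁻¹ : GL (Fin 3) F) : Matrix (Fin 3) (Fin 3) F) *ᵥ u) hwv
        simp only [Matrix.mulVec_mulVec, ← Units.val_mul, inv_mul_cancel, Units.val_one, Matrix.one_mulVec] at h4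
        exact h4
      rw [← h3]; exact hw
  have hcC : c ∈ decompositionStabilizer D ⊓ SUg 3 F q := by
    refine ⟨⟨finRotate 3, fun i => ?_⟩, hcS⟩
    rw [hD]
    show (F ∙ (((1 : GL (Fin 3) F) : Matrix (Fin 3) (Fin 3) F) *ᵥ Pi.single i 1)).map _ =
      (F ∙ (((1 : GL (Fin 3) F) : Matrix (Fin 3) (Fin 3) F) *ᵥ Pi.single (finRotate 3 i) 1))
    rw [Units.val_one, Matrix.one_mulVec, Matrix.one_mulVec, Submodule.map_span, Set.image_singleton,
      Matrix.toLin'_apply, hc, cyc_single, finRotate_apply]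
  have hCirr : Irr (decompositionStabilizer D ⊓ SUg 3 F q) := irr_of_diag_cyc htC hcC hinj ht hc
  have hDirr : Irr (Subgroup.zpowers x) := fun W hW => hxirr W (hW x (Subgroup.mem_zpowers x))
  have hxS' : Subgroup.zpowers x ≤ SUg 3 F q := Subgroup.zpowers_le.2 hxS
  have hgGU : ∀ g ∈ SUg 3 F q, g ∈ Cfsg.GU 3 F q := fun g hg => hg.1
  -- `x` is not conjugate into a proper subgroup
  have hconj : ∀ g ∈ SUg 3 F q, g * x * g⁻¹ ∈ SUg 3 F q ∧ orderOf (g * x * g⁻¹) = r ∧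
      ∀ W : Submodule F (Fin 3 → F), (∀ w ∈ W, ((g * x * g⁻¹ : GL (Fin 3) F) : Matrix (Fin 3) (Fin 3) F) *ᵥ w ∈ W) →
        W = ⊥ ∨ W = ⊤ := by
    intro g hg
    refine ⟨Subgroup.mul_mem _ (Subgroup.mul_mem _ hg hxS) (Subgroup.inv_mem _ hg), ?_, fun W hW => ?_⟩
    · rw [← hxr]
      exact orderOf_injective (MulAut.conj g).toMonoidHom (MulAut.conj g).injective x
    · rcases hxirr (pre g W) (fun w hw => by
        rw [mem_pre] at hw ⊢
        have h1 := hW _ hw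
        rw [Matrix.mulVec_mulVec, ← Units.val_mul, inv_mul_cancel_right] at h1
        rwa [Matrix.mulVec_mulVec, ← Units.val_mul]) with h | h
      · exact Or.inl (pre_bot h)
      · exact Or.inr (pre_top h)
  refine sep_psu_five hF le_rfl (fun h => by omega) (A := subspaceStabilizer W₁ ⊓ SUg 3 F q)
    (B := subspaceStabilizer W₂ ⊓ SUg 3 F q) (C := decompositionStabilizer D ⊓ SUg 3 F q) (D := Subgroup.zpowers x)
    (E := E) inf_le_right inf_le_right inf_le_right hxS' hE.1.le hA.1.ne hB.1.ne hC.1.ne ?_ hE.1.ne ?_ ?_ ?_ ?_ ?_ ?_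
    ?_ ?_ ?_ ?_
  · -- `⟨x⟩` is not everything
    intro h
    have h1 : t ∈ Subgroup.zpowers x := h ▸ htS
    have h2 : c ∈ Subgroup.zpowers x := h ▸ hcS
    have h3 : t * c = c * t := by
      obtain ⟨i, rfl⟩ := h1
      obtain ⟨j, rfl⟩ := h2
      exact (Commute.refl x).zpow_zpow i j
    have h4 := congrArg (fun g : GL (Fin 3) F => (g : Matrix (Fin 3) (Fin 3) F) *ᵥ Pi.single 0 1) h3
    simp only [Units.val_mul, ← Matrix.mulVec_mulVec] at h4
    rw [ht1, hc, Matrix.mulVec_smul, cyc_single, ht1] at h4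
    have h5 := congrFun h4 (0 + 1)
    simp at h5
    exact hζ1 h5
  · exact apartIn_of_max hA fun g hg => exists_not_mem_of_diag hF htB hinj ht hW1 hW1s (hgGU g hg)
  · exact apartIn_of_max hA fun g hg => exists_not_mem_of_diag hF htC hinj ht hW1 hW1s (hgGU g hg)
  · exact apartIn_of_max hA fun g hg => exists_not_mem_of_irr hDirr hW1 hW1' g
  · exact apartIn_of_max hA fun g hg => exists_not_mem_of_irr hEirr hW1 hW1' g
  · exact apartIn_of_max hB fun g hg => exists_not_mem_of_irr hCirr hW2 hW2' g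
  · exact apartIn_of_max hB fun g hg => exists_not_mem_of_irr hDirr hW2 hW2' g
  · exact apartIn_of_max hB fun g hg => exists_not_mem_of_irr hEirr hW2 hW2' g
  · refine apartIn_of_max hC fun g hg => ⟨x, Subgroup.mem_zpowers x, fun h => ?_⟩
    obtain ⟨-, h2, h3⟩ := hconj g hg
    exact not_mem_frame hDec.decomp hr (by omega) h2 h3 h.1
  · -- CE
    refine apartIn_of_max hC fun g hg => ?_
    by_contra hcon
    push Not at hcon
    apply hU6
    have h1 : U.map (MulAut.conj g).toMonoidHom ≤ decompositionStabilizer D := by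
      rintro _ ⟨u, hu, rfl⟩
      exact (hcon u (hUE hu)).1
    have h2 := card_le_of_frame hDec.decomp hp h1 (by
      rintro _ ⟨u, hu, rfl⟩
      obtain ⟨k, hk⟩ := hUp u hu
      exact ⟨k, by rw [← map_pow, hk, map_one]⟩)
    rwa [card_map_conj] at h2
  · -- DE
    refine (apartIn_of_max hE fun g hg => ⟨x, Subgroup.mem_zpowers x, fun h => ?_⟩).symm
    obtain ⟨h1, h2, h3⟩ := hconj g hg
    exact hEr r hr hr1 hr5 hrp _ h1 h2 h3 h

end main

/-! ### Odd `q` -/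

section odd

variable [Fintype F] {q : ℕ}

theorem two_ne_zero_of_odd (hF : Fintype.card F = q ^ 2) (hq : Odd q) : (2 : F) ≠ 0 := by
  intro h
  have h3 : CharP F 2 := CharTwo.of_one_ne_zero_of_two_eq_zero one_ne_zero h
  obtain ⟨n, -, hn⟩ := FiniteField.card F 2
  rw [hF] at hn
  have h4 : Odd (q ^ 2) := hq.pow
  rw [hn, Nat.odd_pow_iff n.ne_zero] at h4
  exact absurd h4 (by decide)

theorem exists_sign (hF : Fintype.card F = q ^ 2) (i : Fin 3) : ∃ g ∈ SUg 3 F q,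
    (g : Matrix (Fin 3) (Fin 3) F) = Matrix.diagonal fun j => if j = i then 1 else -1 := by
  have hq := Mx.q_pos hF
  apply exists_SU_of hF
  · have h1 : (-1 : F) ^ q = -1 := by rw [neg_pow_q hF, one_pow]
    ext a b
    fin_cases i <;> fin_cases a <;> fin_cases b <;>
      simp [ct, Matrix.mul_apply, Fin.sum_univ_three, Matrix.diagonal_apply, Matrix.one_apply, zero_pow hq.ne', h1]
  · rw [Matrix.det_diagonal, Fin.prod_univ_three]
    fin_cases i <;> simp

theorem sep_odd (hF : Fintype.card F = q ^ 2) (hG : Geom F q) (hq : Odd q) (hq7 : 7 ≤ q) : Sep 5 (PSU 3 F q) := by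
  obtain ⟨p, f, hp, hchar, hqp, hf⟩ := exists_prime_pow hF
  obtain ⟨F₀, hF₀⟩ := exists_subfield_card (F := F) (p := p) (n := f) (b := 2) hp hf.ne' (by rw [hF, hqp])
  have hc : Fintype.card F = Nat.card F₀ ^ 2 := by rw [hF₀, hF, hqp]
  have h2 := two_ne_zero_of_odd hF hq
  have hE := hG.real hq hq7 F₀ 1 hc (formRational' hF)
  obtain ⟨U, hUE, hUc, hUp⟩ := exists_real_unip hF hq (p := p) hc
  obtain ⟨c, hcS, hcc⟩ := exists_cyc hF
  have hcE : c ∈ subfieldSubgroup F₀ 1 ⊓ SUg 3 F q := by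
    refine ⟨mem_sub_of fun i j => ?_, hcS⟩
    rw [hcc]
    fin_cases i <;> fin_cases j <;> simp [F₀.zero_mem, F₀.one_mem]
  have hirr : Irr (subfieldSubgroup F₀ 1 ⊓ SUg 3 F q) := by
    refine irr_of_signs h2 hcE hcc fun i => ?_
    obtain ⟨s, hsS, hs⟩ := exists_sign hF i
    refine ⟨s, ⟨mem_sub_of fun a b => ?_, hsS⟩, hs⟩
    rw [hs, Matrix.diagonal_apply]
    split_ifs
    · exact F₀.one_mem
    · exact F₀.neg_mem F₀.one_mem
    · exact F₀.zero_mem
  refine sep_five_of hF hG (by omega) (by omega) hp hqp hE hirr hUE (fun x hx => ⟨1, by rw [pow_one]; exact hUp x hx⟩)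
    ?_ ?_
  · rw [hUc]
    intro h
    have := Nat.le_of_dvd (by norm_num) h
    omega
  · intro r hr _ hr5 _ x _ hx hirr hxE
    exact det_cube_ne hF hr (by omega) hx hirr (real_cube hF h2 hc (Subgroup.one_mem _) hxE.1 hxE.2)

end odd

/-! ### Even `q` -/

section even

open Cfsg.Agent.H930.GUSub

variable [Fintype F] {q : ℕ}

theorem map_coe {F₁ : Subfield F} (g : GL (Fin 3) F₁) :
    ((Matrix.GeneralLinearGroup.map (F₁.subtype : F₁ →+* F) g : GL (Fin 3) F) : Matrix (Fin 3) (Fin 3) F) =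
    (g : Matrix (Fin 3) (Fin 3) F₁).map F₁.subtype := rfl

theorem irr_sub {F₁ : Subfield F} [Fintype F₁] {q₁ : ℕ} (S : Setup F₁ q q₁) :
    Irr (subfieldSubgroup F₁ 1 ⊓ SUg 3 F q) := by
  have hq1 := two_le S.hF₀
  obtain ⟨ζ, hζ⟩ := exists_orderOf_eq S.hF₀
  have hζ0 : ζ ≠ 0 := by
    rintro rfl
    rw [orderOf_zero F₁] at hζ
    omega
  have hζq : ζ ^ (q₁ + 1) = 1 := by rw [← hζ]; exact pow_orderOf_eq_one ζ
  obtain ⟨t, htS, ht⟩ := exists_diag S.hF₀ (a := 1) (b := ζ) (c := ζ⁻¹) (one_pow _) hζq (by rw [inv_pow, hζq, inv_one])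
    (by rw [one_mul, mul_inv_cancel₀ hζ0])
  have hζ1 : ζ ≠ 1 := by
    intro h
    rw [h, orderOf_one] at hζ
    omega
  have hζ2 : ζ ≠ ζ⁻¹ := by
    intro h
    have h1 : ζ ^ 2 = 1 := by rw [sq]; nth_rewrite 2 [h]; exact mul_inv_cancel₀ hζ0
    have h2 := Nat.le_of_dvd (by norm_num) (orderOf_dvd_of_pow_eq_one h1)
    omega
  have hinj : Function.Injective ![(1 : F₁), ζ, ζ⁻¹] := by
    intro i j hij
    have h1 : (1 : F₁) ≠ ζ⁻¹ := fun h => hζ1 (by rw [← inv_inv ζ, ← h, inv_one])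
    fin_cases i <;> fin_cases j <;> simp at hij ⊢
    · exact hζ1 hij.symm
    · exact h1 (by rw [hij]; simp)
    · exact hζ1 hij
    · exact hζ2 hij
    · exact h1 (by rw [hij]; simp)
    · exact hζ2 hij.symm
  obtain ⟨c, hcS, hc⟩ := exists_cyc S.hF₀
  refine irr_of_diag_cyc (map_mem S htS) (map_mem S hcS)
    (δ := fun i => ((![(1 : F₁), ζ, ζ⁻¹] i : F₁) : F)) (fun i j h => hinj (Subtype.ext h)) ?_ ?_
  · rw [map_coe, ht, Matrix.diagonal_map (map_zero _)]
    rfl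
  · rw [map_coe, hc]
    ext i j
    fin_cases i <;> fin_cases j <;> simp

theorem sep_even (hF : Fintype.card F = q ^ 2) (hG : Geom F q) (hq : ¬ Odd q) (hq4 : 4 ≤ q)
    (hne : ¬ ∃ m : ℕ, 1 ≤ m ∧ q = 2 ^ (2 ^ m)) : Sep 5 (PSU 3 F q) := by
  obtain ⟨p, f, hp, hchar, hqp, hf⟩ := exists_prime_pow hF
  obtain rfl : p = 2 := by
    rw [Nat.not_odd_iff_even, even_iff_two_dvd, hqp] at hq
    exact ((Nat.prime_dvd_prime_iff_eq Nat.prime_two hp).1 (Nat.prime_two.dvd_of_dvd_pow hq)).symm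
  obtain ⟨s, hs, ⟨k, hk⟩, hso⟩ : ∃ s : ℕ, s.Prime ∧ s ∣ f ∧ Odd s := by
    rcases Nat.eq_two_pow_or_exists_odd_prime_and_dvd f with ⟨m, hm⟩ | h
    · exfalso
      apply hne
      refine ⟨m, ?_, by rw [hqp, hm]⟩
      rcases Nat.eq_zero_or_pos m with h0 | h0
      · rw [h0, pow_zero] at hm
        rw [hqp, hm] at hq4
        omega
      · exact h0
    · exact h
  have hk0 : k ≠ 0 := by
    rintro rfl
    omega
  have hs3 : 3 ≤ s := by
    have := hs.two_le
    rcases hso with ⟨j, rfl⟩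
    omega
  have hkf : k < f := by
    rw [hk]
    nlinarith [Nat.pos_of_ne_zero hk0]
  obtain ⟨F₁, hF₁⟩ := exists_subfield_card (F := F) (p := 2) (n := 2 * k) (b := s) Nat.prime_two (by omega)
    (by rw [hF, hqp, hk, ← pow_mul, ← pow_mul]; ring_nf)
  have hcard : Fintype.card F = Nat.card F₁ ^ s := by
    rw [hF₁, hF, hqp, hk, ← pow_mul, ← pow_mul]; ring_nf
  have : Fintype F₁ := Fintype.ofFinite F₁
  obtain ⟨q₁, S⟩ := exists_setup (F₀ := F₁) hF hso hcard
  have hq1 : q₁ = 2 ^ k := by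
    have h1 := S.hF₀
    rw [← Nat.card_eq_fintype_card, hF₁, mul_comm 2 k, pow_mul] at h1
    exact (Nat.pow_left_injective two_ne_zero h1).symm
  have hE := hG.sub F₁ s 1 hs hso hcard (formRational' hF)
  have h8 : 2 ^ 3 ∣ Nat.card ↥(subfieldSubgroup F₁ 1 ⊓ SUg 3 F q : Subgroup (GL (Fin 3) F)) := by
    refine dvd_trans ?_ (card_dvd_sub S)
    refine Dvd.dvd.mul_right (Dvd.dvd.mul_right ?_ _) _
    rw [hq1]
    exact pow_dvd_pow_of_dvd (dvd_pow_self 2 hk0) 3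
  have hfact : Fact (Nat.Prime 2) := ⟨Nat.prime_two⟩
  obtain ⟨U, hU⟩ := Sylow.exists_subgroup_card_pow_prime 2 h8
  have hUc : Nat.card (U.map (subfieldSubgroup F₁ 1 ⊓ SUg 3 F q).subtype) = 8 := by
    rw [Subgroup.card_map_of_injective (Subgroup.subtype_injective _), hU]
    norm_num
  refine sep_five_of hF hG hq4 (by rintro rfl; exact hq ⟨2, by norm_num⟩) hp hqp hE (irr_sub S)
    (U := U.map (subfieldSubgroup F₁ 1 ⊓ SUg 3 F q).subtype) ?_ ?_ ?_ ?_
  · rintro _ ⟨u, -, rfl⟩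
    exact u.2
  · intro x hx
    refine ⟨3, ?_⟩
    have h1 : orderOf (⟨x, hx⟩ : ↥(U.map (subfieldSubgroup F₁ 1 ⊓ SUg 3 F q).subtype)) ∣ 8 := by
      rw [← hUc]; exact orderOf_dvd_natCard _
    have h2 := orderOf_dvd_iff_pow_eq_one.1 h1
    exact congrArg Subtype.val h2
  · rw [hUc]; decide
  · intro r hr hr1 hr5 hrp x hxS hx hirr hxE
    obtain ⟨q₂, -, hq2, hq2', hd⟩ := orderOf_cube_dvd hF hso hcard (formRational' hF) hxE.1 hxE.2
    have hq21 : q₂ = 2 ^ k := by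
      rw [hF₁, mul_comm 2 k, pow_mul] at hq2'
      exact (Nat.pow_left_injective two_ne_zero hq2').symm
    have hcop : Nat.Coprime 3 r := by
      rw [Nat.coprime_comm]
      refine (Nat.Prime.coprime_iff_not_dvd hr).2 fun h3 => ?_
      have := Nat.le_of_dvd (by norm_num) h3
      omega
    have ho : orderOf (x ^ 3) = r := by
      rw [Nat.Coprime.orderOf_pow, hx]
      rw [hx]; exact hcop.symm
    rw [ho, hq21] at hd
    rcases hr.dvd_mul.1 hd with h1 | h1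
    · rcases hr.dvd_mul.1 h1 with h2 | h2
      · exact hrp (hr.dvd_of_dvd_pow (hr.dvd_of_dvd_pow h2))
      · rw [← pow_mul, hr1] at h2
        have := Nat.le_of_dvd (by omega) h2
        omega
    · have h2 : r ∣ 2 ^ (6 * k) - 1 := by
        have h3 : 2 ^ (6 * k) - 1 = ((2 ^ k) ^ 3 + 1) * (2 ^ (3 * k) - 1) := by
          rw [← pow_mul, mul_comm k 3, Nat.mul_sub_one, add_mul, ← pow_add, show 3 * k + 3 * k = 6 * k by ring]
          have : 1 ≤ 2 ^ (3 * k) := Nat.one_le_pow _ _ (by norm_num)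
          omega
        rw [h3]
        exact h1.mul_right _
      rw [hr1] at h2
      have := Nat.le_of_dvd (by omega) h2
      omega

end even

end Cfsg.Agent.H950.MC
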