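import Mathlib
import Cfsg.Agent.H950.MCFive
import Cfsg.Agent.H930.ExtUF
import Cfsg.Agent.H957.UFrame

/-!
# Exactly four classes of maximal subgroups (helper950, for S5906, S5907)
-/

set_option autoImplicit false
set_option linter.unusedSectionVars false

namespace Cfsg.Agent.H950.MC

open Cfsg Cfsg.Geo Matrix Cfsg.Agent.H918 Cfsg.Agent.LieClassical.HermBasic Cfsg.Agent.H907 Cfsg.Agent.H907.SU3
  Cfsg.Agent.H907.Mx Cfsg.Agent.H914 Cfsg.Agent.H940.MaxCls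
open scoped MatrixGroups

/-! ### The general transfer -/

section general

variable {Γ : Type*} [Group Γ] {S A B : Subgroup Γ}

theorem map_conj_mem_iff {g x : Γ} {B : Subgroup Γ} : x ∈ B.map (MulAut.conj g).toMonoidHom ↔ g⁻¹ * x * g ∈ B :=
  mem_map_conj

theorem conj_of_le (hA : IsMaximalIn S A) (hB : IsMaximalIn S B) {g : Γ} (hg : g ∈ S)
    (h : ∀ x ∈ A, g * x * g⁻¹ ∈ B) : A.map (MulAut.conj g).toMonoidHom = B := by
  have h1 : A ≤ B.map (MulAut.conj g⁻¹).toMonoidHom := by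
    intro a ha
    rw [mem_map_conj, inv_inv]
    exact h a ha
  have h2 : B.map (MulAut.conj g⁻¹).toMonoidHom ≤ S := by
    intro x hx
    rw [mem_map_conj, inv_inv] at hx
    have h3 := S.mul_mem (S.mul_mem (S.inv_mem hg) (hB.1.le hx)) hg
    have h4 : g⁻¹ * (g * x * g⁻¹) * g = x := by group
    rwa [h4] at h3
  have h5 : ∀ x, x ∈ B ↔ g⁻¹ * x * g ∈ B.map (MulAut.conj g⁻¹).toMonoidHom := by
    intro x
    rw [mem_map_conj, inv_inv]
    have h4 : g * (g⁻¹ * x * g) * g⁻¹ = x := by group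
    rw [h4]
  rcases hA.2 _ h1 h2 with h3 | h3
  · ext x
    rw [mem_map_conj, h5, h3]
  · exfalso
    apply hB.1.ne
    ext x
    rw [h5, h3]
    constructor
    · intro hx
      have h4 := S.mul_mem (S.mul_mem hg hx) (S.inv_mem hg)
      have h6 : g * (g⁻¹ * x * g) * g⁻¹ = x := by group
      rwa [h6] at h4
    · intro hx
      exact S.mul_mem (S.mul_mem (S.inv_mem hg) hx) hg

theorem not_conj_of_apart (hA : IsMaximalIn S A) (h : ApartIn S A B) {g : Γ} (hg : g ∈ S) :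
    A.map (MulAut.conj g).toMonoidHom ≠ B := by
  intro he
  refine hA.1.ne (h g⁻¹ (S.inv_mem hg) A hA.1.le le_rfl fun x hx => ?_)
  rw [← he, mem_map_conj] at hx
  rwa [inv_inv]

variable {G : Type*} [Group G] {f : G →* Γ} (hf : Function.Injective f) (hr : f.range = S)

include hf hr

theorem isCoatom_comap (hA : IsMaximalIn S A) : IsCoatom (A.comap f) := by
  refine ⟨comap_ne_top_of hf hr hA.1.ne hA.1.le, fun K hK => ?_⟩
  have h1 : A ≤ K.map f := by
    intro a ha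
    obtain ⟨x, rfl⟩ : a ∈ f.range := hr ▸ hA.1.le ha
    exact ⟨x, hK.le ha, rfl⟩
  have h2 : K.map f ≤ S := by rw [← hr]; exact Subgroup.map_le_range f K
  rcases hA.2 _ h1 h2 with h | h
  · exfalso
    apply hK.not_ge
    rw [← Subgroup.map_le_iff_le_comap, h]
  · apply Subgroup.map_injective hf
    rw [h, ← hr, MonoidHom.range_eq_map]

theorem isMaximalIn_map {K : Subgroup G} (hK : IsCoatom K) : IsMaximalIn S (K.map f) := by
  refine ⟨lt_of_le_of_ne (by rw [← hr]; exact Subgroup.map_le_range f K) fun h => ?_, fun M h1 h2 => ?_⟩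
  · apply hK.1
    apply Subgroup.map_injective hf
    rw [h, ← hr, MonoidHom.range_eq_map]
  · have h3 : K ≤ M.comap f := Subgroup.map_le_iff_le_comap.1 h1
    have h4 : (M.comap f).map f = M := by
      rw [Subgroup.map_comap_eq, hr, inf_eq_right.2 h2]
    rcases eq_or_lt_of_le h3 with h | h
    · left
      rw [← h4, ← h]
    · right
      rw [← h4, hK.2 _ h, ← hr, MonoidHom.range_eq_map]

theorem cls_comap {n : ℕ} (M : Fin n → Subgroup Γ) (hM : ∀ i, IsMaximalIn S (M i))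
    (hne : ∀ i j, i < j → ∀ g ∈ S, (M i).map (MulAut.conj g).toMonoidHom ≠ M j)
    (hall : ∀ K, IsMaximalIn S K → ∃ i, ∃ g ∈ S, ∀ x ∈ M i, g * x * g⁻¹ ∈ K) : Cls n G := by
  refine Cls.of_mem (fun i => (M i).comap f) (fun i => isCoatom_comap hf hr (hM i)) (fun i j hij g he => ?_)
    fun K hK => ?_
  · refine hne i j hij (f g) (hr ▸ ⟨g, rfl⟩) ?_
    have h1 := congrArg (Subgroup.map f) he
    rw [← map_conj_map, Subgroup.map_comap_eq, Subgroup.map_comap_eq, hr, inf_eq_right.2 (hM i).1.le,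
      inf_eq_right.2 (hM j).1.le] at h1
    exact h1
  · have hK' := isMaximalIn_map hf hr hK
    obtain ⟨i, g, hg, h⟩ := hall _ hK'
    obtain ⟨g, rfl⟩ : g ∈ f.range := hr ▸ hg
    refine ⟨i, g, ?_⟩
    have h1 := conj_of_le (hM i) hK' hg h
    apply Subgroup.map_injective hf
    rw [← map_conj_map, Subgroup.map_comap_eq, hr, inf_eq_right.2 (hM i).1.le, h1]

end general

section su

variable {F : Type*} [Field F] [Fintype F] {n q : ℕ}

theorem cls_psu (hF : Fintype.card F = q ^ 2) (hn : 3 ≤ n) (h32 : ¬ (n = 3 ∧ q = 2)) {k : ℕ}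
    (M : Fin k → Subgroup (Matrix.GeneralLinearGroup (Fin n) F)) (hM : ∀ i, IsMaximalIn (SUg n F q) (M i))
    (hne : ∀ i j, i < j → ∀ g ∈ SUg n F q, (M i).map (MulAut.conj g).toMonoidHom ≠ M j)
    (hall : ∀ K, IsMaximalIn (SUg n F q) K → ∃ i, ∃ g ∈ SUg n F q, ∀ x ∈ M i, g * x * g⁻¹ ∈ K) :
    Cls k (PSU n F q) := by
  have h3 : Cls k (SU n F q) := cls_comap suHom_injective range_suHom M hM hne hall
  exact Cls.map_surj (f := QuotientGroup.mk' (Subgroup.center (SU n F q))) (QuotientGroup.mk'_surjective _)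
    (by rw [QuotientGroup.ker_mk']) (Cfsg.Agent.LieClassical.HermPerfect.commutator_SU_eq_top hF hn h32) h3

/-- four classes -/
theorem cls_psu_four (hF : Fintype.card F = q ^ 2) (hn : 3 ≤ n) (h32 : ¬ (n = 3 ∧ q = 2))
    {A B C E : Subgroup (Matrix.GeneralLinearGroup (Fin n) F)}
    (hA : IsMaximalIn (SUg n F q) A) (hB : IsMaximalIn (SUg n F q) B) (hC : IsMaximalIn (SUg n F q) C)
    (hE : IsMaximalIn (SUg n F q) E) (hAB : ApartIn (SUg n F q) A B) (hAC : ApartIn (SUg n F q) A C)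
    (hAE : ApartIn (SUg n F q) A E) (hBC : ApartIn (SUg n F q) B C) (hBE : ApartIn (SUg n F q) B E)
    (hCE : ApartIn (SUg n F q) C E)
    (hall : ∀ K, IsMaximalIn (SUg n F q) K → (∃ g ∈ SUg n F q, ∀ x ∈ A, g * x * g⁻¹ ∈ K) ∨
      (∃ g ∈ SUg n F q, ∀ x ∈ B, g * x * g⁻¹ ∈ K) ∨ (∃ g ∈ SUg n F q, ∀ x ∈ C, g * x * g⁻¹ ∈ K) ∨
      (∃ g ∈ SUg n F q, ∀ x ∈ E, g * x * g⁻¹ ∈ K)) : Cls 4 (PSU n F q) := by
  refine cls_psu hF hn h32 ![A, B, C, E] ?_ ?_ fun K hK => ?_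
  · intro i
    fin_cases i
    exacts [hA, hB, hC, hE]
  · intro i j hij g hg
    fin_cases i <;> fin_cases j <;>
      first
      | exact absurd hij (by decide)
      | exact not_conj_of_apart hA hAB hg
      | exact not_conj_of_apart hA hAC hg
      | exact not_conj_of_apart hA hAE hg
      | exact not_conj_of_apart hB hBC hg
      | exact not_conj_of_apart hB hBE hg
      | exact not_conj_of_apart hC hCE hg
  · rcases hall K hK with h | h | h | h
    exacts [⟨0, h⟩, ⟨1, h⟩, ⟨2, h⟩, ⟨3, h⟩]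

end su

/-! ### Conjugacy of the stabilisers of points and frames -/

section conj

variable {F : Type*} [Field F] [Fintype F] {q : ℕ} (hF : Fintype.card F = q ^ 2)

theorem mem_stab_iff {W : Submodule F (Fin 3 → F)} {g : GL (Fin 3) F} : g ∈ subspaceStabilizer W ↔
    ∀ v, v ∈ W ↔ (g : Matrix (Fin 3) (Fin 3) F) *ᵥ v ∈ W := by
  constructor
  · intro h v
    exact h v
  · intro h v
    exact h v

theorem stab_conj {W W' : Submodule F (Fin 3 → F)} {g : GL (Fin 3) F}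
    (h : ∀ v, v ∈ W ↔ (g : Matrix (Fin 3) (Fin 3) F) *ᵥ v ∈ W') (hg : g ∈ SUg 3 F q) {x : GL (Fin 3) F}
    (hx : x ∈ subspaceStabilizer W ⊓ SUg 3 F q) : g * x * g⁻¹ ∈ subspaceStabilizer W' ⊓ SUg 3 F q := by
  refine ⟨mem_stab_iff.2 fun v => ?_, (SUg 3 F q).mul_mem ((SUg 3 F q).mul_mem hg hx.2) ((SUg 3 F q).inv_mem hg)⟩
  obtain ⟨w, hw⟩ : ∃ w, w = ((g⁻¹ : GL (Fin 3) F) : Matrix (Fin 3) (Fin 3) F) *ᵥ v := ⟨_, rfl⟩
  have hv : v = (g : Matrix (Fin 3) (Fin 3) F) *ᵥ w := by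
    rw [hw, Matrix.mulVec_mulVec, ← Units.val_mul, mul_inv_cancel, Units.val_one, Matrix.one_mulVec]
  have h1 : ((g * x * g⁻¹ : GL (Fin 3) F) : Matrix (Fin 3) (Fin 3) F) *ᵥ v =
      (g : Matrix (Fin 3) (Fin 3) F) *ᵥ ((x : Matrix (Fin 3) (Fin 3) F) *ᵥ w) := by
    rw [Units.val_mul, Units.val_mul, ← Matrix.mulVec_mulVec, ← Matrix.mulVec_mulVec, ← hw]
  rw [h1, ← h, hv, ← h]
  exact mem_stab_iff.1 hx.1 w

theorem span_map {u u' : Fin 3 → F} {g : GL (Fin 3) F} (h : (g : Matrix (Fin 3) (Fin 3) F) *ᵥ u = u') (v : Fin 3 → F) :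
    v ∈ F ∙ u ↔ (g : Matrix (Fin 3) (Fin 3) F) *ᵥ v ∈ F ∙ u' := by
  rw [Submodule.mem_span_singleton, Submodule.mem_span_singleton]
  constructor
  · rintro ⟨a, rfl⟩
    exact ⟨a, by rw [Matrix.mulVec_smul, h]⟩
  · rintro ⟨a, ha⟩
    refine ⟨a, ?_⟩
    rw [← h, ← Matrix.mulVec_smul] at ha
    have h1 := congrArg (fun w => ((g⁻¹ : GL (Fin 3) F) : Matrix (Fin 3) (Fin 3) F) *ᵥ w) ha
    simpa only [Matrix.mulVec_mulVec, ← Units.val_mul, inv_mul_cancel, Units.val_one, Matrix.one_mulVec] using h1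

include hF

theorem sing_span {W : Submodule F (Fin 3 → F)} (h0 : W ≠ ⊥) (hW : IsTotallySingularFor (hermForm 3 F q) W) :
    ∃ u : Fin 3 → F, u ≠ 0 ∧ hermForm 3 F q u u = 0 ∧ W = F ∙ u := by
  obtain ⟨u, hu, hu0⟩ := Submodule.exists_mem_ne_zero_of_ne_bot h0
  refine ⟨u, hu0, hW u hu u hu, ?_⟩
  have h1 := Cfsg.Agent.H957.Uni.two_mul_finrank_le hF hW
  symm
  apply Submodule.eq_of_le_of_finrank_le
  · rwa [Submodule.span_singleton_le_iff_mem]
  · rw [finrank_span_singleton hu0]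
    omega

theorem nons_span {W : Submodule F (Fin 3 → F)} (h0 : W ≠ ⊥) (hW : IsNondegenerateOn (hermForm 3 F q) W)
    (h1 : 2 * Module.finrank F W < 3) : ∃ u : Fin 3 → F, hermForm 3 F q u u = 1 ∧ W = F ∙ u := by
  obtain ⟨u, hu, hu0⟩ := Submodule.exists_mem_ne_zero_of_ne_bot h0
  have h2 : W = F ∙ u := by
    symm
    apply Submodule.eq_of_le_of_finrank_le
    · rwa [Submodule.span_singleton_le_iff_mem]
    · rw [finrank_span_singleton hu0]
      omega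
  obtain ⟨⟨x, hx, hxu⟩, -⟩ := hW u hu hu0
  rw [h2] at hx
  obtain ⟨a, rfl⟩ := Submodule.mem_span_singleton.1 hx
  have h3 : hermForm 3 F q u u ≠ 0 := by
    intro h
    apply hxu
    rw [herm_smul_left, h, mul_zero]
  obtain ⟨c, hc, hc1⟩ := exists_unit_smul hF h3
  exact ⟨c • u, hc1, by rw [h2, Submodule.span_singleton_smul_eq hc.isUnit]⟩

theorem exists_elt_of_act {u u' : Fin 3 → F} (h : ∃ g : SU 3 F q, Cfsg.Agent.LieClassical.HermSiegel.act g u = u') :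
    ∃ g ∈ SUg 3 F q, (g : Matrix (Fin 3) (Fin 3) F) *ᵥ u = u' := by
  obtain ⟨g, hg⟩ := h
  exact ⟨suHom 3 F q g, suHom_mem g, hg⟩

theorem conj_sing {W W' : Submodule F (Fin 3 → F)} (h0 : W ≠ ⊥) (hW : IsTotallySingularFor (hermForm 3 F q) W)
    (h0' : W' ≠ ⊥) (hW' : IsTotallySingularFor (hermForm 3 F q) W') :
    ∃ g ∈ SUg 3 F q, ∀ x ∈ subspaceStabilizer W ⊓ SUg 3 F q, g * x * g⁻¹ ∈ subspaceStabilizer W' ⊓ SUg 3 F q := by
  obtain ⟨u, hu0, hu, rfl⟩ := sing_span hF h0 hW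
  obtain ⟨u', hu0', hu', rfl⟩ := sing_span hF h0' hW'
  obtain ⟨g, hg, hgu⟩ := exists_elt_of_act hF (by
    obtain ⟨g, -, hg⟩ := Cfsg.Agent.LieClassical.HermGen.exists_map_iso hF le_rfl le_rfl
      (Cfsg.Agent.LieClassical.HermGen.mem_coordSub_top u) (Cfsg.Agent.LieClassical.HermGen.mem_coordSub_top u')
      hu0 hu0' hu hu'
    exact ⟨g, hg⟩)
  exact ⟨g, hg, fun x hx => stab_conj (span_map hgu) hg hx⟩

theorem conj_nons (hq : q ≠ 2) {W W' : Submodule F (Fin 3 → F)} (h0 : W ≠ ⊥)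
    (hW : IsNondegenerateOn (hermForm 3 F q) W) (h1 : 2 * Module.finrank F W < 3) (h0' : W' ≠ ⊥)
    (hW' : IsNondegenerateOn (hermForm 3 F q) W') (h1' : 2 * Module.finrank F W' < 3) :
    ∃ g ∈ SUg 3 F q, ∀ x ∈ subspaceStabilizer W ⊓ SUg 3 F q, g * x * g⁻¹ ∈ subspaceStabilizer W' ⊓ SUg 3 F q := by
  obtain ⟨u, hu, rfl⟩ := nons_span hF h0 hW h1
  obtain ⟨u', hu', rfl⟩ := nons_span hF h0' hW' h1'
  obtain ⟨g, hg, hgu⟩ := exists_elt_of_act hF (Cfsg.Agent.H930.ExtU.exists_SU_norm hF (by norm_num)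
    (fun h => hq h.2) (z := u) (z' := u') (by rw [hu, hu']) (by rw [hu]; exact one_ne_zero))
  exact ⟨g, hg, fun x hx => stab_conj (span_map hgu) hg hx⟩

/-- diagonal matrices in the unitary group -/
theorem exists_diag_GU {w : F} (hw : w ^ (q + 1) = 1) :
    ∃ g ∈ Cfsg.GU 3 F q, (g : Matrix (Fin 3) (Fin 3) F) = Matrix.diagonal ![w, 1, 1] := by
  have hq := Mx.q_pos hF
  have hw5 : w ^ q * w = 1 := by rw [← pow_succ, hw]
  have h : ct q (Matrix.diagonal ![w, 1, 1]) * Matrix.diagonal ![w, 1, 1] = 1 := by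
    ext i j
    fin_cases i <;> fin_cases j <;>
      simp [ct, Matrix.mul_apply, Matrix.diagonal_apply, zero_pow hq.ne', hw5]
  have h' := mul_eq_one_comm.1 h
  exact ⟨⟨_, _, h', h⟩, (mem_GU_iff_ct hF).2 h, rfl⟩

theorem det_pow {P : GL (Fin 3) F} (hP : P ∈ Cfsg.GU 3 F q) : (P : Matrix (Fin 3) (Fin 3) F).det ^ (q + 1) = 1 := by
  have h1 := congrArg Matrix.det ((mem_GU_iff_ct hF).1 hP)
  have h2 : (ct q (P : Matrix (Fin 3) (Fin 3) F)).det = (P : Matrix (Fin 3) (Fin 3) F).det ^ q := by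
    rw [Matrix.det_fin_three, Matrix.det_fin_three]
    simp only [ct, Matrix.of_apply]
    have h5 : ∀ x y : F, (x - y) ^ q = x ^ q - y ^ q := sub_pow_q hF
    have h6 : ∀ x y : F, (x + y) ^ q = x ^ q + y ^ q := add_pow_q hF
    rw [h5, h6, h6, h5, h5]
    ring
  rw [Matrix.det_mul, Matrix.det_one, h2, ← pow_succ] at h1
  exact h1

/-- the frame can be taken in the special unitary group -/
theorem exists_frame_SU {D : Fin 3 → Submodule F (Fin 3 → F)} (hD : IsNondegenerateMDecomposition (hermForm 3 F q) 1 D) :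
    ∃ P ∈ SUg 3 F q, ∀ i, D i = F ∙ ((P : Matrix (Fin 3) (Fin 3) F) *ᵥ Pi.single i 1) := by
  obtain ⟨P, hP, hPD⟩ := exists_frame hF hD
  have hd := det_pow hF hP
  have hd0 : (P : Matrix (Fin 3) (Fin 3) F).det ≠ 0 := by
    intro h
    rw [h, zero_pow (by omega)] at hd
    exact zero_ne_one hd
  obtain ⟨t, ht, htd⟩ := exists_diag_GU hF (w := ((P : Matrix (Fin 3) (Fin 3) F).det)⁻¹) (by rw [inv_pow, hd, inv_one])
  refine ⟨P * t, ⟨mul_mem hP ht, mem_specialLinear.2 ?_⟩, fun i => ?_⟩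
  · rw [Units.val_mul, Matrix.det_mul, htd, Matrix.det_diagonal, Fin.prod_univ_three]
    simp [hd0]
  · rw [hPD i, Units.val_mul, ← Matrix.mulVec_mulVec]
    have h1 : (t : Matrix (Fin 3) (Fin 3) F) *ᵥ Pi.single i 1 =
        (![((P : Matrix (Fin 3) (Fin 3) F).det)⁻¹, 1, 1] i) • Pi.single i 1 := by
      rw [htd]
      ext j
      rw [Matrix.mulVec_diagonal, Pi.smul_apply, smul_eq_mul]
      by_cases h : j = i
      · subst h; rfl
      · rw [Pi.single_eq_of_ne h, mul_zero, mul_zero]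
    rw [h1, Matrix.mulVec_smul, Submodule.span_singleton_smul_eq]
    have : (![((P : Matrix (Fin 3) (Fin 3) F).det)⁻¹, 1, 1] i) ≠ 0 := by
      fin_cases i <;> simp [hd0]
    exact this.isUnit

theorem conj_frame {D D' : Fin 3 → Submodule F (Fin 3 → F)}
    (hD : IsNondegenerateMDecomposition (hermForm 3 F q) 1 D) (hD' : IsNondegenerateMDecomposition (hermForm 3 F q) 1 D') :
    ∃ g ∈ SUg 3 F q, ∀ x ∈ decompositionStabilizer D ⊓ SUg 3 F q,
      g * x * g⁻¹ ∈ decompositionStabilizer D' ⊓ SUg 3 F q := by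
  obtain ⟨P, hP, hPD⟩ := exists_frame_SU hF hD
  obtain ⟨P', hP', hPD'⟩ := exists_frame_SU hF hD'
  obtain ⟨g, hg⟩ : ∃ g, g = P' * P⁻¹ := ⟨_, rfl⟩
  have hgS : g ∈ SUg 3 F q := by rw [hg]; exact (SUg 3 F q).mul_mem hP' ((SUg 3 F q).inv_mem hP)
  have h1 : ∀ i, (D i).map (Matrix.toLin' (g : Matrix (Fin 3) (Fin 3) F)) = D' i := by
    intro i
    rw [hPD, hPD', Submodule.map_span, Set.image_singleton, Matrix.toLin'_apply, Matrix.mulVec_mulVec, ← Units.val_mul,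
      hg, inv_mul_cancel_right]
  refine ⟨g, hgS, fun x hx => ⟨?_, (SUg 3 F q).mul_mem ((SUg 3 F q).mul_mem hgS hx.2) ((SUg 3 F q).inv_mem hgS)⟩⟩
  obtain ⟨σ, hσ⟩ := hx.1
  refine ⟨σ, fun i => ?_⟩
  have h2 : (D' (σ i)) = ((D i).map (Matrix.toLin' (x : Matrix (Fin 3) (Fin 3) F))).map
      (Matrix.toLin' (g : Matrix (Fin 3) (Fin 3) F)) := by
    rw [← h1]
    congr 1
    exact (hσ i).symm
  have h3 : (D' i).map (Matrix.toLin' ((g * x * g⁻¹ : GL (Fin 3) F) : Matrix (Fin 3) (Fin 3) F)) = D' (σ i) := by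
    rw [h2, ← h1, ← Submodule.map_comp, ← Submodule.map_comp, ← Matrix.toLin'_mul, ← Matrix.toLin'_mul, ← Units.val_mul,
      ← Units.val_mul, inv_mul_cancel_right]
  exact h3

end conj

/-! ### The assembly -/

section main

variable {F : Type*} [Field F] [Fintype F] {q : ℕ} (hF : Fintype.card F = q ^ 2)
include hF

/-- Four classes: the stabilisers of singular points, of nonsingular points, of frames, and `E`. -/
theorem cls_four_of (hG : Geom F q) (hq3 : 3 ≤ q) (hq5 : q ≠ 5) {r : ℕ} (hr : r.Prime) (hr3 : 3 < r) {x : GL (Fin 3) F}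
    (hxS : x ∈ SUg 3 F q) (hxr : orderOf x = r)
    (hxirr : ∀ W : Submodule F (Fin 3 → F), (∀ w ∈ W, (x : Matrix (Fin 3) (Fin 3) F) *ᵥ w ∈ W) → W = ⊥ ∨ W = ⊤)
    {E : Subgroup (GL (Fin 3) F)} (hE : IsMaximalIn (SUg 3 F q) E) (hxE : x ∈ E)
    (hlist : ∀ H, IsMaximalIn (SUg 3 F q) H →
      (∃ W : Submodule F (Fin 3 → F), W ≠ ⊥ ∧ IsTotallySingularFor (hermForm 3 F q) W ∧
        H = subspaceStabilizer W ⊓ SUg 3 F q) ∨
      (∃ W : Submodule F (Fin 3 → F), W ≠ ⊥ ∧ IsNondegenerateOn (hermForm 3 F q) W ∧ 2 * Module.finrank F W < 3 ∧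
        H = subspaceStabilizer W ⊓ SUg 3 F q) ∨
      (∃ D : Fin 3 → Submodule F (Fin 3 → F), IsNondegenerateMDecomposition (hermForm 3 F q) 1 D ∧
        H = decompositionStabilizer D ⊓ SUg 3 F q) ∨
      (∃ g ∈ SUg 3 F q, ∀ y ∈ E, g * y * g⁻¹ ∈ H)) : Cls 4 (PSU 3 F q) := by
  obtain ⟨W₁, hW1, hW1', hW1s⟩ := exists_sing hF
  have hDec := frame_decomp hF (Subgroup.one_mem (Cfsg.GU 3 F q))
  obtain ⟨D, hD⟩ : ∃ D : Fin 3 → Submodule F (Fin 3 → F), D = fun i => F ∙ (((1 : GL (Fin 3) F) :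
    Matrix (Fin 3) (Fin 3) F) *ᵥ Pi.single i 1) := ⟨_, rfl⟩
  rw [← hD] at hDec
  obtain ⟨W₂, hW2d⟩ : ∃ W₂, W₂ = D 0 := ⟨_, rfl⟩
  have hW2r : Module.finrank F W₂ = 1 := by rw [hW2d]; exact hDec.decomp.finrank_eq 0
  have hW2 : W₂ ≠ ⊥ := by
    rintro rfl
    rw [finrank_bot] at hW2r
    exact zero_ne_one hW2r
  have hW2' : W₂ ≠ ⊤ := by
    rintro rfl
    rw [finrank_top] at hW2r
    simp at hW2r
  have hW2s : IsNondegenerateOn (hermForm 3 F q) W₂ := by rw [hW2d]; exact hDec.nondegenerate 0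
  have hW2f : 2 * Module.finrank F W₂ < 3 := by omega
  have hA := hG.sing W₁ hW1 hW1s
  have hB := hG.nons W₂ hW2 hW2s hW2f
  have hC := hG.frame hq5 D hDec
  -- elements of the torus
  obtain ⟨ζ, hζ⟩ := exists_orderOf_eq hF
  have hζ0 : ζ ≠ 0 := by
    rintro rfl
    rw [orderOf_zero F] at hζ
    omega
  have hζq : ζ ^ (q + 1) = 1 := by rw [← hζ]; exact pow_orderOf_eq_one ζ
  obtain ⟨t, htS, ht⟩ := exists_diag hF (a := 1) (b := ζ) (c := ζ⁻¹) (one_pow _) hζq (by rw [inv_pow, hζq, inv_one])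
    (by rw [one_mul, mul_inv_cancel₀ hζ0])
  have hζ1 : ζ ≠ 1 := by
    intro h
    rw [h, orderOf_one] at hζ
    omega
  have hζ2 : ζ ≠ ζ⁻¹ := by
    intro h
    have h1 : ζ ^ 2 = 1 := by rw [sq]; nth_rewrite 2 [h]; exact mul_inv_cancel₀ hζ0
    have h2 := Nat.le_of_dvd (by norm_num) (orderOf_dvd_of_pow_eq_one h1)
    omega
  have hinj : Function.Injective ![(1 : F), ζ, ζ⁻¹] := by
    intro i j hij
    have h1 : (1 : F) ≠ ζ⁻¹ := fun h => hζ1 (by rw [← inv_inv ζ, ← h, inv_one])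
    fin_cases i <;> fin_cases j <;> simp at hij ⊢
    · exact hζ1 hij.symm
    · exact h1 (by rw [hij]; simp)
    · exact hζ1 hij
    · exact hζ2 hij
    · exact h1 (by rw [hij]; simp)
    · exact hζ2 hij.symm
  obtain ⟨c, hcS, hc⟩ := exists_cyc hF
  -- diagonal and cyclic matrices in the groups
  have ht1 : ∀ i, (t : Matrix (Fin 3) (Fin 3) F) *ᵥ Pi.single i 1 = (![(1 : F), ζ, ζ⁻¹] i) • Pi.single i 1 := by
    intro i
    rw [ht]
    ext j
    rw [Matrix.mulVec_diagonal, Pi.smul_apply, smul_eq_mul]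
    by_cases h : j = i
    · subst h; rfl
    · rw [Pi.single_eq_of_ne h, mul_zero, mul_zero]
  have htD : ∀ i, (D i).map (Matrix.toLin' (t : Matrix (Fin 3) (Fin 3) F)) = D ((1 : Equiv.Perm (Fin 3)) i) := by
    intro i
    rw [hD, Equiv.Perm.one_apply]
    show (F ∙ (((1 : GL (Fin 3) F) : Matrix (Fin 3) (Fin 3) F) *ᵥ Pi.single i 1)).map _ =
      (F ∙ (((1 : GL (Fin 3) F) : Matrix (Fin 3) (Fin 3) F) *ᵥ Pi.single i 1))
    rw [Units.val_one, Matrix.one_mulVec, Submodule.map_span, Set.image_singleton, Matrix.toLin'_apply, ht1]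
    apply Submodule.span_singleton_smul_eq
    have : (![(1 : F), ζ, ζ⁻¹] i) ≠ 0 := by
      fin_cases i <;> simp [hζ0]
    exact this.isUnit
  have htC : t ∈ decompositionStabilizer D ⊓ SUg 3 F q := ⟨⟨1, htD⟩, htS⟩
  have htB : t ∈ subspaceStabilizer W₂ ⊓ SUg 3 F q := by
    refine ⟨fun v => ?_, htS⟩
    have h1 := htD 0
    rw [Equiv.Perm.one_apply, ← hW2d] at h1
    constructor
    · intro hv
      have : (Matrix.toLin' (t : Matrix (Fin 3) (Fin 3) F)) v ∈ W₂.map (Matrix.toLin' (t : Matrix (Fin 3) (Fin 3) F)) :=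
        ⟨v, hv, rfl⟩
      rw [h1, Matrix.toLin'_apply] at this
      exact this
    · intro hv
      have h2 : (t : Matrix (Fin 3) (Fin 3) F) *ᵥ v ∈ W₂.map (Matrix.toLin' (t : Matrix (Fin 3) (Fin 3) F)) := by
        rw [h1]; exact hv
      obtain ⟨w, hw, hwv⟩ := h2
      rw [Matrix.toLin'_apply] at hwv
      have h3 : w = v := by
        have h4 := congrArg (fun u => ((t⁻¹ : GL (Fin 3) F) : Matrix (Fin 3) (Fin 3) F) *ᵥ u) hwv
        simp only [Matrix.mulVec_mulVec, ← Units.val_mul, inv_mul_cancel, Units.val_one, Matrix.one_mulVec] at h4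
        exact h4
      rw [← h3]; exact hw
  have hcC : c ∈ decompositionStabilizer D ⊓ SUg 3 F q := by
    refine ⟨⟨finRotate 3, fun i => ?_⟩, hcS⟩
    rw [hD]
    show (F ∙ (((1 : GL (Fin 3) F) : Matrix (Fin 3) (Fin 3) F) *ᵥ Pi.single i 1)).map _ =
      (F ∙ (((1 : GL (Fin 3) F) : Matrix (Fin 3) (Fin 3) F) *ᵥ Pi.single (finRotate 3 i) 1))
    rw [Units.val_one, Matrix.one_mulVec, Matrix.one_mulVec, Submodule.map_span, Set.image_singleton,
      Matrix.toLin'_apply, hc, cyc_single, finRotate_apply]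
  have hCirr : Irr (decompositionStabilizer D ⊓ SUg 3 F q) := irr_of_diag_cyc htC hcC hinj ht hc
  have hEirr : Irr E := fun W hW => hxirr W (hW x hxE)
  have hgGU : ∀ g ∈ SUg 3 F q, g ∈ Cfsg.GU 3 F q := fun g hg => hg.1
  -- `x` is not conjugate into a proper subgroup
  have hconj : ∀ g ∈ SUg 3 F q, g * x * g⁻¹ ∈ SUg 3 F q ∧ orderOf (g * x * g⁻¹) = r ∧
      ∀ W : Submodule F (Fin 3 → F), (∀ w ∈ W, ((g * x * g⁻¹ : GL (Fin 3) F) : Matrix (Fin 3) (Fin 3) F) *ᵥ w ∈ W) →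
        W = ⊥ ∨ W = ⊤ := by
    intro g hg
    refine ⟨Subgroup.mul_mem _ (Subgroup.mul_mem _ hg hxS) (Subgroup.inv_mem _ hg), ?_, fun W hW => ?_⟩
    · rw [← hxr]
      exact orderOf_injective (MulAut.conj g).toMonoidHom (MulAut.conj g).injective x
    · rcases hxirr (pre g W) (fun w hw => by
        rw [mem_pre] at hw ⊢
        have h1 := hW _ hw
        rw [Matrix.mulVec_mulVec, ← Units.val_mul, inv_mul_cancel_right] at h1
        rwa [Matrix.mulVec_mulVec, ← Units.val_mul]) with h | h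
      · exact Or.inl (pre_bot h)
      · exact Or.inr (pre_top h)
  refine cls_psu_four hF le_rfl (fun h => by omega) (A := subspaceStabilizer W₁ ⊓ SUg 3 F q)
    (B := subspaceStabilizer W₂ ⊓ SUg 3 F q) (C := decompositionStabilizer D ⊓ SUg 3 F q) (E := E) hA hB hC hE
    ?_ ?_ ?_ ?_ ?_ ?_ ?_
  · exact apartIn_of_max hA fun g hg => exists_not_mem_of_diag hF htB hinj ht hW1 hW1s (hgGU g hg)
  · exact apartIn_of_max hA fun g hg => exists_not_mem_of_diag hF htC hinj ht hW1 hW1s (hgGU g hg)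
  · exact apartIn_of_max hA fun g hg => exists_not_mem_of_irr hEirr hW1 hW1' g
  · exact apartIn_of_max hB fun g hg => exists_not_mem_of_irr hCirr hW2 hW2' g
  · exact apartIn_of_max hB fun g hg => exists_not_mem_of_irr hEirr hW2 hW2' g
  · refine apartIn_of_max hC fun g hg => ⟨x, hxE, fun h => ?_⟩
    obtain ⟨-, h2, h3⟩ := hconj g hg
    exact not_mem_frame hDec.decomp hr hr3 h2 h3 h.1
  · intro K hK
    rcases hlist K hK with ⟨W, h0, hW, rfl⟩ | ⟨W, h0, hW, h1, rfl⟩ | ⟨D', hD', rfl⟩ | h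
    · exact Or.inl (conj_sing hF hW1 hW1s h0 hW)
    · exact Or.inr (Or.inl (conj_nons hF (by omega) hW2 hW2s hW2f h0 hW h1))
    · exact Or.inr (Or.inr (Or.inl (conj_frame hF hDec hD')))
    · exact Or.inr (Or.inr (Or.inr h))

end main

end Cfsg.Agent.H950.MC
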