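import Mathlib
import Cfsg.Agent.H950.MCCls

/-!
# The adjoint-closed cubic fields: existence and conjugacy (helper950, for S5906, S5907)
-/

set_option autoImplicit false
set_option linter.unusedSectionVars false

namespace Cfsg.Agent.H950.MC

open Cfsg Cfsg.Geo Matrix Cfsg.Agent.H918 Cfsg.Agent.LieClassical.HermBasic Cfsg.Agent.H907 Cfsg.Agent.H907.SU3
  Cfsg.Agent.H907.Mx Cfsg.Agent.H914 Cfsg.Agent.H940.MaxCls
open scoped MatrixGroups

variable {F : Type*} [Field F]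

theorem mem_subalgebraNormalizer_iff {K : Subalgebra F (Matrix (Fin 3) (Fin 3) F)} {g : GL (Fin 3) F} :
    g ∈ subalgebraNormalizer K ↔ ∀ k : Matrix (Fin 3) (Fin 3) F, k ∈ K ↔
      (g : Matrix (Fin 3) (Fin 3) F) * k * ((g⁻¹ : GL (Fin 3) F) : Matrix (Fin 3) (Fin 3) F) ∈ K := Iff.rfl

section field

variable [Fintype F] {q : ℕ} (hF : Fintype.card F = q ^ 2)
include hF

/-- the field generated by an irreducible element of the special unitary group -/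
theorem exists_field {x : GL (Fin 3) F} (hxS : x ∈ SUg 3 F q)
    (hxirr : ∀ W : Submodule F (Fin 3 → F), (∀ w ∈ W, (x : Matrix (Fin 3) (Fin 3) F) *ᵥ w ∈ W) → W = ⊥ ∨ W = ⊤) :
    ∃ K : Subalgebra F (Matrix (Fin 3) (Fin 3) F), IsFieldSubalgebra 3 K ∧ IsAdjointClosedFor (hermForm 3 F q) K ∧
      (x : Matrix (Fin 3) (Fin 3) F) ∈ K := by
  have hirr : ActsIrreducibly (matrixSet (Subgroup.zpowers x)) := by
    rw [irr_iff]
    intro W hW
    exact hxirr W (hW x (Subgroup.mem_zpowers x))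
  have hcomm : ∀ a ∈ Subgroup.zpowers x, ∀ b ∈ Subgroup.zpowers x, a * b = b * a := by
    rintro _ ⟨i, rfl⟩ _ ⟨j, rfl⟩
    exact (Commute.refl x).zpow_zpow i j
  refine ⟨_, isField_adjoin Nat.prime_three (Fintype.card_fin 3) hirr hcomm, ?_,
    Algebra.subset_adjoin (mem_matrixSet (Subgroup.mem_zpowers x))⟩
  intro k hk
  refine ⟨ct q k, ?_, fun u v => herm_ct hF k u v⟩
  have hle : Subgroup.zpowers x ≤ SUg 3 F q := Subgroup.zpowers_le.2 hxS
  induction hk using Algebra.adjoin_induction with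
  | mem k hk =>
    obtain ⟨y, hy, rfl⟩ := hk
    have h1 := (mem_GU_iff_ct hF).1 (hle hy).1
    have h2 : ct q (y : Matrix (Fin 3) (Fin 3) F) = ((y⁻¹ : GL (Fin 3) F) : Matrix (Fin 3) (Fin 3) F) := by
      calc ct q (y : Matrix (Fin 3) (Fin 3) F) = ct q (y : Matrix (Fin 3) (Fin 3) F) *
            ((y : Matrix (Fin 3) (Fin 3) F) * ((y⁻¹ : GL (Fin 3) F) : Matrix (Fin 3) (Fin 3) F)) := by
            rw [← Units.val_mul, mul_inv_cancel, Units.val_one, mul_one]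
        _ = _ := by rw [← mul_assoc, h1, one_mul]
    simp only
    rw [h2]
    exact Algebra.subset_adjoin (mem_matrixSet ((Subgroup.zpowers x).inv_mem hy))
  | algebraMap c =>
    rw [Algebra.algebraMap_eq_smul_one, ct_smul_one hF]
    exact Subalgebra.smul_mem _ (Subalgebra.one_mem _) _
  | add a b _ _ h1 h2 => rw [ct_add hF]; exact Subalgebra.add_mem _ h1 h2
  | mul a b _ _ h1 h2 => rw [ct_mul hF]; exact Subalgebra.mul_mem _ h2 h1

theorem mem_normalizer_of_mem {K : Subalgebra F (Matrix (Fin 3) (Fin 3) F)} (hK : IsFieldSubalgebra 3 K)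
    {x : GL (Fin 3) F} (hx : (x : Matrix (Fin 3) (Fin 3) F) ∈ K) : x ∈ subalgebraNormalizer K := by
  have h1 : ((x⁻¹ : GL (Fin 3) F) : Matrix (Fin 3) (Fin 3) F) ∈ K :=
    (KU hK).inv_mem (x := x) hx
  rw [mem_subalgebraNormalizer_iff]
  intro k
  constructor
  · intro hk
    exact K.mul_mem (K.mul_mem hx hk) h1
  · intro hk
    have h2 := K.mul_mem (K.mul_mem h1 hk) hx
    have h3 : ((x⁻¹ : GL (Fin 3) F) : Matrix (Fin 3) (Fin 3) F) * ((x : Matrix (Fin 3) (Fin 3) F) * k *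
        ((x⁻¹ : GL (Fin 3) F) : Matrix (Fin 3) (Fin 3) F)) * (x : Matrix (Fin 3) (Fin 3) F) =
        (((x⁻¹ : GL (Fin 3) F) : Matrix (Fin 3) (Fin 3) F) * (x : Matrix (Fin 3) (Fin 3) F)) * k *
        (((x⁻¹ : GL (Fin 3) F) : Matrix (Fin 3) (Fin 3) F) * (x : Matrix (Fin 3) (Fin 3) F)) := by
      simp only [mul_assoc]
    rw [h3, ← Units.val_mul, inv_mul_cancel, Units.val_one, one_mul, mul_one] at h2
    exact h2

/-- elements of given order -/
theorem exists_orderOf_mem {K : Subalgebra F (Matrix (Fin 3) (Fin 3) F)} (hK : IsFieldSubalgebra 3 K)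
    (hadj : IsAdjointClosedFor (hermForm 3 F q) K) {m : ℕ} (hm : m ∣ q ^ 2 - q + 1) :
    ∃ g : GL (Fin 3) F, (g : Matrix (Fin 3) (Fin 3) F) ∈ K ∧ g ∈ SUg 3 F q ∧ orderOf g = m := by
  have hq := two_le hF
  have hqq : q ≤ q ^ 2 := by nlinarith
  have hq1 : 2 ^ 2 ≤ q ^ 2 := Nat.pow_le_pow_left hq 2
  have hfin : Finite (KU hK) := inferInstance
  have hcyc : IsCyclic (KU hK) := isCyclic_KU hK
  obtain ⟨γ, hγ⟩ := IsCyclic.exists_ofOrder_eq_natCard (α := KU hK)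
  have hc3 : q ^ 2 - q + 1 ∣ q ^ 3 + 1 := ⟨q + 1, by zify [hqq]; ring⟩
  have hcard : Nat.card (KU hK) = (q ^ 3 + 1) * (q ^ 3 - 1) := by
    rw [card_KU hK, hF]
    have : (q ^ 2) ^ 3 = (q ^ 3) ^ 2 := by ring
    rw [this]
    have := Nat.sq_sub_sq (q ^ 3) 1
    simpa using this
  have hmc : m ∣ Nat.card (KU hK) := (hm.trans hc3).trans (by rw [hcard]; exact dvd_mul_right _ _)
  obtain ⟨d, hd⟩ := hmc
  have hpos : 0 < Nat.card (KU hK) := Nat.card_pos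
  have hd0 : 0 < d := by
    rcases Nat.eq_zero_or_pos d with h | h
    · rw [h, mul_zero] at hd
      omega
    · exact h
  have hord : orderOf ((γ : GL (Fin 3) F) ^ d) = m := by
    have h1 : orderOf (γ : GL (Fin 3) F) = m * d := by
      rw [Subgroup.orderOf_coe, hγ, hd]
    rw [orderOf_pow' _ hd0.ne', h1, Nat.gcd_eq_right (dvd_mul_left d m), Nat.mul_div_cancel _ hd0]
  obtain ⟨g, hg⟩ : ∃ g, g = (γ : GL (Fin 3) F) ^ d := ⟨_, rfl⟩
  rw [← hg] at hord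
  have hgK : (g : Matrix (Fin 3) (Fin 3) F) ∈ K := by
    have : g ∈ KU hK := by rw [hg]; exact (KU hK).pow_mem γ.2 d
    exact this
  have hpow : g ^ (q ^ 2 - q + 1) = 1 := orderOf_dvd_iff_pow_eq_one.1 (by rw [hord]; exact hm)
  refine ⟨g, hgK, ⟨?_, mem_specialLinear.2 ?_⟩, hord⟩
  · refine (mem_GU_iff_pow hF hK hadj hgK).2 ?_
    obtain ⟨e, he⟩ := hc3
    rw [he, pow_mul, hpow, one_pow]
  · have h2 := pow_eq_det (K := K) (by rw [Fintype.card_fin]; exact hK) hgK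
    rw [hF, Fintype.card_fin] at h2
    have h3 : ((q ^ 2) ^ 3 - 1) / (q ^ 2 - 1) = q ^ 4 + q ^ 2 + 1 := by
      apply Nat.div_eq_of_eq_mul_left
      · omega
      · obtain ⟨m, hm⟩ : ∃ m, q ^ 2 = m + 1 := ⟨q ^ 2 - 1, by omega⟩
        have h4 : q ^ 4 = (m + 1) ^ 2 := by rw [← hm]; ring
        rw [h4, hm]
        have : (m + 1) ^ 3 - 1 = ((m + 1) ^ 2 + (m + 1) + 1) * m := by
          have : (m + 1) ^ 3 = ((m + 1) ^ 2 + (m + 1) + 1) * m + 1 := by ring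
          omega
        simpa using this
    have h5 : q ^ 4 + q ^ 2 + 1 = (q ^ 2 - q + 1) * (q ^ 2 + q + 1) := by
      zify [hqq]
      ring
    rw [h3, h5, ← Units.val_pow_eq_pow_val, pow_mul, hpow, one_pow, Units.val_one] at h2
    have h6 := congrFun (congrFun h2 0) 0
    simpa using h6.symm

/-- **Conjugacy of the cubic fields** -/
theorem conj_cubic {r : ℕ} (hr : r.Prime) (hrq : ¬ r ∣ q) (hrq2 : ¬ r ∣ q ^ 2 - 1) (hr3 : r ∣ q ^ 3 + 1)
    {K K' : Subalgebra F (Matrix (Fin 3) (Fin 3) F)} (hK : IsFieldSubalgebra 3 K)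
    (hadj : IsAdjointClosedFor (hermForm 3 F q) K) (hK' : IsFieldSubalgebra 3 K')
    (hadj' : IsAdjointClosedFor (hermForm 3 F q) K') :
    ∃ g ∈ SUg 3 F q, ∀ x ∈ subalgebraNormalizer K ⊓ SUg 3 F q, g * x * g⁻¹ ∈ subalgebraNormalizer K' ⊓ SUg 3 F q := by
  have hq := two_le hF
  have hqq : q ≤ q ^ 2 := by nlinarith
  have hcS := card_SUg hF
  have hpos : Nat.card (SUg 3 F q) ≠ 0 := Nat.card_pos.ne'
  obtain ⟨k, hk⟩ : ∃ k, k = (Nat.card (SUg 3 F q)).factorization r := ⟨_, rfl⟩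
  have h1 : r ^ k ∣ Nat.card (SUg 3 F q) := by rw [hk]; exact Nat.ordProj_dvd _ _
  have h2 : ¬ r ^ (k + 1) ∣ Nat.card (SUg 3 F q) := by
    rw [hk]; exact Nat.pow_succ_factorization_not_dvd hpos hr
  have hk0 : k ≠ 0 := by
    rintro rfl
    apply h2
    rw [zero_add, pow_one, hcS]
    exact hr3.mul_left _
  have hq1 : ¬ r ∣ q + 1 := by
    intro h
    apply hrq2
    have : q ^ 2 - 1 = (q + 1) * (q - 1) := by
      have := Nat.sq_sub_sq q 1
      simpa using this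
    rw [this]
    exact h.mul_right _
  have h3 : r ^ k ∣ q ^ 2 - q + 1 := by
    have h4 : Nat.card (SUg 3 F q) = (q ^ 3 * (q ^ 2 - 1) * (q + 1)) * (q ^ 2 - q + 1) := by
      rw [hcS, mul_assoc (q ^ 3 * (q ^ 2 - 1))]
      congr 1
      zify [hqq]
      ring
    rw [h4] at h1
    refine (Nat.Coprime.pow_left k ?_).dvd_of_dvd_mul_left h1
    rw [Nat.Prime.coprime_iff_not_dvd hr, hr.dvd_mul, hr.dvd_mul]
    rintro ((h | h) | h)
    · exact hrq (hr.dvd_of_dvd_pow h)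
    · exact hrq2 h
    · exact hq1 h
  obtain ⟨a, haK, haS, hao⟩ := exists_orderOf_mem hF hK hadj h3
  obtain ⟨b, hbK, hbS, hbo⟩ := exists_orderOf_mem hF hK' hadj' h3
  obtain ⟨s, hsS, hs⟩ := exists_conj_of_card (S := SUg 3 F q) (A := Subgroup.zpowers a) (B := Subgroup.zpowers b)
    hr (Subgroup.zpowers_le.2 haS) (Subgroup.zpowers_le.2 hbS) (by rw [Nat.card_zpowers, hao])
    (by rw [Nat.card_zpowers, hbo]) h2
  obtain ⟨c, hc⟩ : ∃ c, c = s * a * s⁻¹ := ⟨_, rfl⟩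
  have hcK : (c : Matrix (Fin 3) (Fin 3) F) ∈ K' := by
    have h4 : Subgroup.zpowers b ≤ KU hK' := by
      rw [Subgroup.zpowers_le]; exact hbK
    rw [hc]
    exact h4 (hs a (Subgroup.mem_zpowers a))
  have hco : orderOf c = r ^ k := by
    rw [hc, ← hao]
    exact orderOf_injective (MulAut.conj s).toMonoidHom (MulAut.conj s).injective a
  -- elements of order `r ^ k` are not scalar
  have hns : ∀ y : GL (Fin 3) F, orderOf y = r ^ k →
      ¬ ∃ c : F, (y : Matrix (Fin 3) (Fin 3) F) = c • (1 : Matrix (Fin 3) (Fin 3) F) := by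
    rintro y hy ⟨c, hc⟩
    have hc0 : c ≠ 0 := by
      rintro rfl
      rw [zero_smul] at hc
      exact y.ne_zero hc
    have h5 : y ^ (q ^ 2 - 1) = 1 := by
      apply Units.ext
      rw [Units.val_pow_eq_pow_val, hc, smul_pow, one_pow, ← hF, FiniteField.pow_card_sub_one_eq_one c hc0, one_smul,
        Units.val_one]
    have h6 := orderOf_dvd_of_pow_eq_one h5
    rw [hy] at h6
    exact hrq2 ((dvd_pow_self r hk0).trans h6)
  have hcoe : ∀ g : GL (Fin 3) F, ((g⁻¹ : GL (Fin 3) F) : Matrix (Fin 3) (Fin 3) F) * (g : Matrix (Fin 3) (Fin 3) F) = 1 :=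
    fun g => by rw [← Units.val_mul, inv_mul_cancel, Units.val_one]
  have hcoe' : ∀ g : GL (Fin 3) F, (g : Matrix (Fin 3) (Fin 3) F) * ((g⁻¹ : GL (Fin 3) F) : Matrix (Fin 3) (Fin 3) F) = 1 :=
    fun g => by rw [← Units.val_mul, mul_inv_cancel, Units.val_one]
  have hcm : (c : Matrix (Fin 3) (Fin 3) F) = (s : Matrix (Fin 3) (Fin 3) F) * (a : Matrix (Fin 3) (Fin 3) F) *
      ((s⁻¹ : GL (Fin 3) F) : Matrix (Fin 3) (Fin 3) F) := by
    rw [hc, Units.val_mul, Units.val_mul]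
  have hKK : ∀ m : Matrix (Fin 3) (Fin 3) F, m ∈ K ↔
      (s : Matrix (Fin 3) (Fin 3) F) * m * ((s⁻¹ : GL (Fin 3) F) : Matrix (Fin 3) (Fin 3) F) ∈ K' := by
    intro m
    constructor
    · intro hm
      apply mem_of_comm hK' hcK (hns c hco)
      have h5 := hK.comm m hm _ haK
      rw [hcm]
      calc (s : Matrix (Fin 3) (Fin 3) F) * m * ((s⁻¹ : GL (Fin 3) F) : Matrix (Fin 3) (Fin 3) F) *
            ((s : Matrix (Fin 3) (Fin 3) F) * (a : Matrix (Fin 3) (Fin 3) F) *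
              ((s⁻¹ : GL (Fin 3) F) : Matrix (Fin 3) (Fin 3) F))
          = (s : Matrix (Fin 3) (Fin 3) F) * (m * ((((s⁻¹ : GL (Fin 3) F) : Matrix (Fin 3) (Fin 3) F) *
            (s : Matrix (Fin 3) (Fin 3) F)) * (a : Matrix (Fin 3) (Fin 3) F))) *
              ((s⁻¹ : GL (Fin 3) F) : Matrix (Fin 3) (Fin 3) F) := by simp only [mul_assoc]
        _ = (s : Matrix (Fin 3) (Fin 3) F) * ((a : Matrix (Fin 3) (Fin 3) F) * ((((s⁻¹ : GL (Fin 3) F) :
            Matrix (Fin 3) (Fin 3) F) * (s : Matrix (Fin 3) (Fin 3) F)) * m)) *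
              ((s⁻¹ : GL (Fin 3) F) : Matrix (Fin 3) (Fin 3) F) := by rw [hcoe, one_mul, one_mul, h5]
        _ = _ := by simp only [mul_assoc]
    · intro hm
      apply mem_of_comm hK haK (hns a hao)
      have h5 := hK'.comm _ hm _ hcK
      rw [hcm] at h5
      have h6 := congrArg (fun y => ((s⁻¹ : GL (Fin 3) F) : Matrix (Fin 3) (Fin 3) F) * y *
        (s : Matrix (Fin 3) (Fin 3) F)) h5
      have h7 : ∀ m m' : Matrix (Fin 3) (Fin 3) F, ((s⁻¹ : GL (Fin 3) F) : Matrix (Fin 3) (Fin 3) F) *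
          ((s : Matrix (Fin 3) (Fin 3) F) * m * ((s⁻¹ : GL (Fin 3) F) : Matrix (Fin 3) (Fin 3) F) *
          ((s : Matrix (Fin 3) (Fin 3) F) * m' * ((s⁻¹ : GL (Fin 3) F) : Matrix (Fin 3) (Fin 3) F))) *
          (s : Matrix (Fin 3) (Fin 3) F) = m * m' := by
        intro m m'
        calc _ = (((s⁻¹ : GL (Fin 3) F) : Matrix (Fin 3) (Fin 3) F) * (s : Matrix (Fin 3) (Fin 3) F)) * m *
            (((s⁻¹ : GL (Fin 3) F) : Matrix (Fin 3) (Fin 3) F) * (s : Matrix (Fin 3) (Fin 3) F)) * m' *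
            (((s⁻¹ : GL (Fin 3) F) : Matrix (Fin 3) (Fin 3) F) * (s : Matrix (Fin 3) (Fin 3) F)) := by
              simp only [mul_assoc]
          _ = _ := by rw [hcoe]; simp only [mul_one, one_mul]
      rwa [h7, h7] at h6
  refine ⟨s, hsS, fun x hx => ⟨mem_subalgebraNormalizer_iff.2 fun m => ?_,
    (SUg 3 F q).mul_mem ((SUg 3 F q).mul_mem hsS hx.2) ((SUg 3 F q).inv_mem hsS)⟩⟩
  obtain ⟨m', hm'⟩ : ∃ m', m' = ((s⁻¹ : GL (Fin 3) F) : Matrix (Fin 3) (Fin 3) F) * m *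
    (s : Matrix (Fin 3) (Fin 3) F) := ⟨_, rfl⟩
  have hm : m = (s : Matrix (Fin 3) (Fin 3) F) * m' * ((s⁻¹ : GL (Fin 3) F) : Matrix (Fin 3) (Fin 3) F) := by
    rw [hm']
    calc m = ((s : Matrix (Fin 3) (Fin 3) F) * ((s⁻¹ : GL (Fin 3) F) : Matrix (Fin 3) (Fin 3) F)) * m *
        ((s : Matrix (Fin 3) (Fin 3) F) * ((s⁻¹ : GL (Fin 3) F) : Matrix (Fin 3) (Fin 3) F)) := by
          rw [hcoe', one_mul, mul_one]
      _ = _ := by simp only [mul_assoc]
  have h8 : ((s * x * s⁻¹ : GL (Fin 3) F) : Matrix (Fin 3) (Fin 3) F) * m *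
      (((s * x * s⁻¹)⁻¹ : GL (Fin 3) F) : Matrix (Fin 3) (Fin 3) F) =
      (s : Matrix (Fin 3) (Fin 3) F) * ((x : Matrix (Fin 3) (Fin 3) F) * m' *
        ((x⁻¹ : GL (Fin 3) F) : Matrix (Fin 3) (Fin 3) F)) * ((s⁻¹ : GL (Fin 3) F) : Matrix (Fin 3) (Fin 3) F) := by
    have h9 : (s * x * s⁻¹)⁻¹ = s * x⁻¹ * s⁻¹ := by group
    rw [h9, hm]
    simp only [Units.val_mul]
    calc _ = (s : Matrix (Fin 3) (Fin 3) F) * (x : Matrix (Fin 3) (Fin 3) F) *
        (((s⁻¹ : GL (Fin 3) F) : Matrix (Fin 3) (Fin 3) F) * (s : Matrix (Fin 3) (Fin 3) F)) * m' *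
        (((s⁻¹ : GL (Fin 3) F) : Matrix (Fin 3) (Fin 3) F) * (s : Matrix (Fin 3) (Fin 3) F)) *
        ((x⁻¹ : GL (Fin 3) F) : Matrix (Fin 3) (Fin 3) F) * ((s⁻¹ : GL (Fin 3) F) : Matrix (Fin 3) (Fin 3) F) := by
          simp only [mul_assoc]
      _ = _ := by rw [hcoe]; simp only [mul_one, mul_assoc]
  rw [h8, ← hKK, hm, ← hKK]
  exact hx.1 m'

end field

/-! ### The list of the maximal subgroups for `q = 2 ^ (2 ^ m)` -/

theorem sub_excl {m c r : ℕ} (hr : r.Prime) (ho : Odd r) (h : (2 ^ (2 ^ m)) ^ 2 = c ^ r) : False := by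
  have h1 : c ∣ 2 ^ (2 ^ m * 2) := by
    rw [pow_mul, h]
    exact dvd_pow_self c hr.ne_zero
  obtain ⟨j, -, rfl⟩ := (Nat.dvd_prime_pow Nat.prime_two).1 h1
  rw [← pow_mul, ← pow_mul] at h
  have h2 := Nat.pow_right_injective le_rfl h
  have h3 : r ∣ 2 ^ (m + 1) := by
    rw [pow_succ, h2]
    exact dvd_mul_left r j
  have h4 := (Nat.prime_dvd_prime_iff_eq hr Nat.prime_two).1 (hr.dvd_of_dvd_pow h3)
  rw [h4] at ho
  exact absurd ho (by decide)

theorem not_prime_q {m : ℕ} (hm : 1 ≤ m) : ¬ (2 ^ (2 ^ m)).Prime := by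
  have h1 : 2 ^ m ≠ 1 := by
    have : 2 ^ 1 ≤ 2 ^ m := Nat.pow_le_pow_right (by norm_num) hm
    omega
  intro h
  exact h1 (Nat.Prime.eq_one_of_pow h)

end Cfsg.Agent.H950.MC
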