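import Mathlib
import Cfsg.Agent.H950.MCCubic

/-!
# `SU₃(3)`: elements of order `7`, elements of order `3` and the involutions inverting them
(helper950, for S5906, S5907)
-/

set_option autoImplicit false
set_option linter.unusedSectionVars false

namespace Cfsg.Agent.H950.MC

open Cfsg Cfsg.Geo Matrix Cfsg.Agent.H918 Cfsg.Agent.LieClassical.HermBasic Cfsg.Agent.H907 Cfsg.Agent.H907.SU3
  Cfsg.Agent.H907.Mx Cfsg.Agent.H914 Cfsg.Agent.H940.MaxCls
open scoped MatrixGroups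

variable {F : Type*} [Field F]

/-! ### The commutant of a regular nilpotent matrix -/

theorem eq_of_comm {N C : Matrix (Fin 3) (Fin 3) F} {y : Fin 3 → F} (hN : N * N * N = 0)
    (hy : (N * N) *ᵥ y ≠ 0) (hC : C * N = N * C) :
    ∃ α β γ : F, C = α • (1 : Matrix (Fin 3) (Fin 3) F) + β • N + γ • (N * N) := by
  have hN3 : ∀ v, N *ᵥ (N *ᵥ (N *ᵥ v)) = 0 := by
    intro v
    rw [Matrix.mulVec_mulVec, Matrix.mulVec_mulVec, hN, Matrix.zero_mulVec]
  have hy' : N *ᵥ (N *ᵥ y) ≠ 0 := by rwa [Matrix.mulVec_mulVec]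
  have hCN : ∀ v, C *ᵥ (N *ᵥ v) = N *ᵥ (C *ᵥ v) := by
    intro v
    rw [Matrix.mulVec_mulVec, Matrix.mulVec_mulVec, hC]
  let b : Fin 3 → Fin 3 → F := ![y, N *ᵥ y, N *ᵥ (N *ᵥ y)]
  have hli : LinearIndependent F b := by
    rw [Fintype.linearIndependent_iff]
    intro g hg
    rw [Fin.sum_univ_three] at hg
    have h0 : g 0 • y + g 1 • (N *ᵥ y) + g 2 • (N *ᵥ (N *ᵥ y)) = 0 := hg
    have e0 : g 0 = 0 := by
      have h1 := congrArg (fun v => N *ᵥ (N *ᵥ v)) h0
      simp only [Matrix.mulVec_add, Matrix.mulVec_smul, hN3, Matrix.mulVec_zero, smul_zero, add_zero] at h1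
      exact (smul_eq_zero.1 h1).resolve_right hy'
    rw [e0, zero_smul, zero_add] at h0
    have e1 : g 1 = 0 := by
      have h1 := congrArg (fun v => N *ᵥ v) h0
      simp only [Matrix.mulVec_add, Matrix.mulVec_smul, hN3, Matrix.mulVec_zero, smul_zero, add_zero] at h1
      exact (smul_eq_zero.1 h1).resolve_right hy'
    rw [e1, zero_smul, zero_add] at h0
    have e2 : g 2 = 0 := (smul_eq_zero.1 h0).resolve_right hy'
    intro i
    fin_cases i
    · exact e0
    · exact e1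
    · exact e2
  -- the matrix with these columns
  let B : Matrix (Fin 3) (Fin 3) F := (Matrix.of b)ᵀ
  have hB : IsUnit B := by
    rw [← Matrix.linearIndependent_cols_iff_isUnit]
    exact hli
  have hBdet : IsUnit B.det := (Matrix.isUnit_iff_isUnit_det B).1 hB
  have hcol : ∀ i, B *ᵥ Pi.single i 1 = b i := by
    intro i
    rw [Matrix.mulVec_single_one]
    rfl
  obtain ⟨k, hk⟩ : ∃ k : Fin 3 → F, B *ᵥ k = C *ᵥ y := by
    refine ⟨B⁻¹ *ᵥ (C *ᵥ y), ?_⟩
    rw [Matrix.mulVec_mulVec, Matrix.mul_nonsing_inv B hBdet, Matrix.one_mulVec]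
  have hBk : ∀ k : Fin 3 → F, B *ᵥ k = k 0 • y + k 1 • (N *ᵥ y) + k 2 • (N *ᵥ (N *ᵥ y)) := by
    intro k
    have h1 : k = k 0 • Pi.single 0 1 + k 1 • Pi.single 1 1 + k 2 • Pi.single 2 1 := by
      ext i
      fin_cases i <;> simp
    conv_lhs => rw [h1]
    rw [Matrix.mulVec_add, Matrix.mulVec_add, Matrix.mulVec_smul, Matrix.mulVec_smul, Matrix.mulVec_smul, hcol, hcol,
      hcol]
    rfl
  have hCy : C *ᵥ y = k 0 • y + k 1 • (N *ᵥ y) + k 2 • (N *ᵥ (N *ᵥ y)) := by rw [← hk, hBk]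
  have hCy1 : C *ᵥ (N *ᵥ y) = k 0 • (N *ᵥ y) + k 1 • (N *ᵥ (N *ᵥ y)) := by
    rw [hCN, hCy]
    simp only [Matrix.mulVec_add, Matrix.mulVec_smul, hN3, smul_zero, add_zero]
  have hCy2 : C *ᵥ (N *ᵥ (N *ᵥ y)) = k 0 • (N *ᵥ (N *ᵥ y)) := by
    rw [hCN, hCy1]
    simp only [Matrix.mulVec_add, Matrix.mulVec_smul, hN3, smul_zero, add_zero]
  refine ⟨k 0, k 1, k 2, ?_⟩
  obtain ⟨D, hD⟩ : ∃ D, D = k 0 • (1 : Matrix (Fin 3) (Fin 3) F) + k 1 • N + k 2 • (N * N) := ⟨_, rfl⟩
  rw [← hD]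
  have hDv : ∀ v, D *ᵥ v = k 0 • v + k 1 • (N *ᵥ v) + k 2 • (N *ᵥ (N *ᵥ v)) := by
    intro v
    rw [hD, Matrix.add_mulVec, Matrix.add_mulVec, Matrix.smul_mulVec, Matrix.smul_mulVec, Matrix.smul_mulVec,
      Matrix.one_mulVec, Matrix.mulVec_mulVec]
  have key : C * B = D * B := by
    have key : ∀ i, (C * B) *ᵥ Pi.single i 1 = (D * B) *ᵥ Pi.single i 1 := by
      intro i
      rw [← Matrix.mulVec_mulVec, ← Matrix.mulVec_mulVec, hcol]
      fin_cases i
      · show C *ᵥ y = D *ᵥ y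
        rw [hCy, hDv]
      · show C *ᵥ (N *ᵥ y) = D *ᵥ (N *ᵥ y)
        rw [hCy1, hDv, hN3, smul_zero, add_zero]
      · show C *ᵥ (N *ᵥ (N *ᵥ y)) = D *ᵥ (N *ᵥ (N *ᵥ y))
        rw [hCy2, hDv, hN3, Matrix.mulVec_zero, smul_zero, smul_zero, add_zero, add_zero]
    ext i j
    have h1 := congrFun (key j) i
    rwa [Matrix.mulVec_single_one, Matrix.mulVec_single_one] at h1
  calc C = C * B * B⁻¹ := by rw [mul_assoc, Matrix.mul_nonsing_inv B hBdet, mul_one]
    _ = D * B * B⁻¹ := by rw [key]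
    _ = D := by rw [mul_assoc, Matrix.mul_nonsing_inv B hBdet, mul_one]

/-- comparison of coefficients -/
theorem coeff_eq {N : Matrix (Fin 3) (Fin 3) F} (hN : N * N * N = 0) (hN2 : N * N ≠ 0) {a b c a' b' c' : F}
    (h : a • (1 : Matrix (Fin 3) (Fin 3) F) + b • N + c • (N * N) =
      a' • (1 : Matrix (Fin 3) (Fin 3) F) + b' • N + c' • (N * N)) : a = a' ∧ b = b' ∧ c = c' := by
  have h4 : N * N * (N * N) = 0 := by rw [← mul_assoc, hN, zero_mul]
  have h1 : a = a' := by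
    have h2 := congrArg (fun X => X * (N * N)) h
    simp only [add_mul, Matrix.smul_mul, one_mul, h4, smul_zero, add_zero, ← mul_assoc, hN] at h2
    have h3 : (a - a') • (N * N) = 0 := by rw [sub_smul, h2, sub_self]
    exact sub_eq_zero.1 ((smul_eq_zero.1 h3).resolve_right hN2)
  rw [h1, add_assoc, add_assoc] at h
  have h := add_left_cancel h
  have h5 : b = b' := by
    have h2 := congrArg (fun X => X * N) h
    simp only [add_mul, Matrix.smul_mul, hN, smul_zero, add_zero] at h2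
    have h3 : (b - b') • (N * N) = 0 := by rw [sub_smul, h2, sub_self]
    exact sub_eq_zero.1 ((smul_eq_zero.1 h3).resolve_right hN2)
  rw [h5] at h
  have h := add_left_cancel h
  have h3 : (c - c') • (N * N) = 0 := by rw [sub_smul, h, sub_self]
  exact ⟨h1, h5, sub_eq_zero.1 ((smul_eq_zero.1 h3).resolve_right hN2)⟩

theorem poly_mul {N : Matrix (Fin 3) (Fin 3) F} (hN : N * N * N = 0) (a b c a' b' c' : F) :
    (a • (1 : Matrix (Fin 3) (Fin 3) F) + b • N + c • (N * N)) *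
      (a' • (1 : Matrix (Fin 3) (Fin 3) F) + b' • N + c' • (N * N)) =
      (a * a') • (1 : Matrix (Fin 3) (Fin 3) F) + (a * b' + b * a') • N + (a * c' + b * b' + c * a') • (N * N) := by
  have hN4 : N * (N * N) = 0 := by rw [← mul_assoc, hN]
  have hN5 : N * N * (N * N) = 0 := by rw [← mul_assoc, hN, zero_mul]
  simp only [add_mul, mul_add, Matrix.smul_mul, Matrix.mul_smul, one_mul, mul_one, hN, hN4, hN5, smul_zero, add_zero,
    smul_smul]
  module

/-! ### A regular unipotent element -/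

theorem sq_ne_zero {a b : GL (Fin 3) F} (hab : b * a * b⁻¹ = a ^ 2)
    (hirr : ∀ W : Submodule F (Fin 3 → F), (∀ w ∈ W, (a : Matrix (Fin 3) (Fin 3) F) *ᵥ w ∈ W) → W = ⊥ ∨ W = ⊤) :
    ((b : Matrix (Fin 3) (Fin 3) F) - 1) * ((b : Matrix (Fin 3) (Fin 3) F) - 1) ≠ 0 := by
  intro h0
  obtain ⟨N, hN⟩ : ∃ N, N = (b : Matrix (Fin 3) (Fin 3) F) - 1 := ⟨_, rfl⟩
  rw [← hN] at h0
  let f := Matrix.toLin' N
  have hfin : Module.finrank F (Fin 3 → F) = 3 := by simp
  have h1 : LinearMap.range f ≤ LinearMap.ker f := by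
    rintro _ ⟨v, rfl⟩
    rw [LinearMap.mem_ker]
    show Matrix.toLin' N (Matrix.toLin' N v) = 0
    rw [Matrix.toLin'_apply, Matrix.toLin'_apply, Matrix.mulVec_mulVec, h0, Matrix.zero_mulVec]
  have h2 := LinearMap.finrank_range_add_finrank_ker f
  rw [hfin] at h2
  have h3 := Submodule.finrank_mono h1
  obtain ⟨U, hU⟩ : ∃ U, U = LinearMap.ker f := ⟨_, rfl⟩
  rw [← hU] at h2 h3
  obtain ⟨U', hU'⟩ : ∃ U', U' = pre a U := ⟨_, rfl⟩
  have h4 : Module.finrank F U' = Module.finrank F U := by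
    have h5 : U'.map (Matrix.toLin' (a : Matrix (Fin 3) (Fin 3) F)) = U := by
      ext v
      constructor
      · rintro ⟨w, hw, rfl⟩
        rw [hU', SetLike.mem_coe, mem_pre] at hw
        rw [Matrix.toLin'_apply]
        exact hw
      · intro hv
        refine ⟨((a⁻¹ : GL (Fin 3) F) : Matrix (Fin 3) (Fin 3) F) *ᵥ v, ?_, ?_⟩
        · rw [hU', SetLike.mem_coe, mem_pre, Matrix.mulVec_mulVec, ← Units.val_mul, mul_inv_cancel, Units.val_one,
            Matrix.one_mulVec]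
          exact hv
        · rw [Matrix.toLin'_apply, Matrix.mulVec_mulVec, ← Units.val_mul, mul_inv_cancel, Units.val_one,
            Matrix.one_mulVec]
    rw [← h5]
    refine (LinearEquiv.finrank_eq (Submodule.equivMapOfInjective _ ?_ U'))
    intro v w hvw
    rw [Matrix.toLin'_apply, Matrix.toLin'_apply] at hvw
    have h6 := congrArg (fun u => ((a⁻¹ : GL (Fin 3) F) : Matrix (Fin 3) (Fin 3) F) *ᵥ u) hvw
    simpa only [Matrix.mulVec_mulVec, ← Units.val_mul, inv_mul_cancel, Units.val_one, Matrix.one_mulVec] using h6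
  have h5 := Submodule.finrank_sup_add_finrank_inf_eq U U'
  have h6 := Submodule.finrank_le (U ⊔ U')
  rw [hfin] at h6
  have h7 : U ⊓ U' ≠ ⊥ := by
    intro h
    rw [h, finrank_bot] at h5
    omega
  obtain ⟨v, hv, hv0⟩ := Submodule.exists_mem_ne_zero_of_ne_bot h7
  have hfix : ∀ w ∈ U, (b : Matrix (Fin 3) (Fin 3) F) *ᵥ w = w := by
    intro w hw
    rw [hU, LinearMap.mem_ker] at hw
    have hw' : N *ᵥ w = 0 := hw
    rw [hN, Matrix.sub_mulVec, Matrix.one_mulVec, sub_eq_zero] at hw'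
    exact hw'
  have e1 := hfix v hv.1
  have e2 := hfix _ (mem_pre.1 (by rw [← hU']; exact hv.2))
  have hba : b * a = a * (a * b) := by
    rw [← mul_assoc, ← sq, ← hab]
    group
  have e3 : (b : Matrix (Fin 3) (Fin 3) F) *ᵥ ((a : Matrix (Fin 3) (Fin 3) F) *ᵥ v) =
      (a : Matrix (Fin 3) (Fin 3) F) *ᵥ ((a : Matrix (Fin 3) (Fin 3) F) *ᵥ v) := by
    rw [Matrix.mulVec_mulVec, ← Units.val_mul, hba, Units.val_mul, Units.val_mul, ← Matrix.mulVec_mulVec,
      ← Matrix.mulVec_mulVec, e1]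
  rw [e2] at e3
  have e4 : (a : Matrix (Fin 3) (Fin 3) F) *ᵥ v = v := by
    have h6 := congrArg (fun u => ((a⁻¹ : GL (Fin 3) F) : Matrix (Fin 3) (Fin 3) F) *ᵥ u) e3
    simp only [Matrix.mulVec_mulVec, ← Units.val_mul, inv_mul_cancel_left, inv_mul_cancel, Units.val_one,
      Matrix.one_mulVec] at h6
    exact h6.symm
  rcases hirr (F ∙ v) (fun w hw => by
    obtain ⟨c, rfl⟩ := Submodule.mem_span_singleton.1 hw
    rw [Matrix.mulVec_smul, e4]
    exact hw) with h | h
  · exact hv0 (Submodule.span_singleton_eq_bot.1 h)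
  · have h8 := finrank_span_singleton (K := F) hv0
    rw [h, finrank_top, hfin] at h8
    omega

section three

variable [Fintype F] (hF : Fintype.card F = 3 ^ 2)
include hF

theorem three_zero : (3 : F) = 0 := by
  have h1 : ((9 : ℕ) : F) = 0 := by
    have := Nat.cast_card_eq_zero F
    rwa [hF] at this
  have h2 : (3 : F) * 3 = 0 := by
    have : ((9 : ℕ) : F) = 3 * 3 := by norm_num
    rw [← this, h1]
  rcases mul_eq_zero.1 h2 with h | h <;> exact h

/-- the involutions of `SU₃(3)` inverting a regular unipotent element of order `3` -/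
theorem inv_of_inverting {b t t' : GL (Fin 3) F} (hb : b ^ 3 = 1)
    (hN2 : ((b : Matrix (Fin 3) (Fin 3) F) - 1) * ((b : Matrix (Fin 3) (Fin 3) F) - 1) ≠ 0) (hbS : b ∈ SUg 3 F 3)
    (htS : t ∈ SUg 3 F 3) (htS' : t' ∈ SUg 3 F 3) (ht2 : t * t = 1) (ht2' : t' * t' = 1)
    (ht : t * b * t⁻¹ = b⁻¹) (ht' : t' * b * t'⁻¹ = b⁻¹) : t' * t ∈ Subgroup.zpowers b := by
  have h3 := three_zero hF
  obtain ⟨N, hN⟩ : ∃ N, N = (b : Matrix (Fin 3) (Fin 3) F) - 1 := ⟨_, rfl⟩
  have hbN : (b : Matrix (Fin 3) (Fin 3) F) = 1 + N := by rw [hN]; abel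
  rw [← hN] at hN2
  have hN3 : N * N * N = 0 := by
    have h1 := congrArg Units.val hb
    rw [Units.val_pow_eq_pow_val, hbN, Units.val_one] at h1
    have h2 : (1 + N) ^ 3 = 1 + N * N * N + (3 : F) • (N + N * N) := by
      rw [pow_succ, pow_two]
      have : (3 : F) • (N + N * N) = (N + N * N) + (N + N * N) + (N + N * N) := by
        rw [show (3 : F) = 1 + 1 + 1 by norm_num, add_smul, add_smul, one_smul]
      rw [this]
      noncomm_ring
    rw [h2, h3, zero_smul, add_zero] at h1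
    exact add_eq_left.1 h1
  have hN4 : N * (N * N) = 0 := by rw [← mul_assoc, hN3]
  have hN5 : N * N * (N * N) = 0 := by rw [← mul_assoc, hN3, zero_mul]
  -- the inverse of `b`
  have hbi : ((b⁻¹ : GL (Fin 3) F) : Matrix (Fin 3) (Fin 3) F) = 1 - N + N * N := by
    have h1 : (b : Matrix (Fin 3) (Fin 3) F) * (1 - N + N * N) = 1 := by
      have : (1 + N) * (1 - N + N * N) = 1 + N * N * N := by noncomm_ring
      rw [hbN, this, hN3, add_zero]
    calc ((b⁻¹ : GL (Fin 3) F) : Matrix (Fin 3) (Fin 3) F) =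
        ((b⁻¹ : GL (Fin 3) F) : Matrix (Fin 3) (Fin 3) F) * ((b : Matrix (Fin 3) (Fin 3) F) * (1 - N + N * N)) := by
          rw [h1, mul_one]
      _ = _ := by rw [← mul_assoc, ← Units.val_mul, inv_mul_cancel, Units.val_one, one_mul]
  obtain ⟨y, hy⟩ : ∃ y : Fin 3 → F, (N * N) *ᵥ y ≠ 0 := by
    by_contra hcon
    push Not at hcon
    apply hN2
    ext i j
    have := congrFun (hcon (Pi.single j 1)) i
    rwa [Matrix.mulVec_single_one] at this
  -- the element `c`
  obtain ⟨c, hc⟩ : ∃ c, c = t' * t := ⟨_, rfl⟩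
  have htb : t * b = b⁻¹ * t := by rw [← ht]; group
  have htb' : t' * b = b⁻¹ * t' := by rw [← ht']; group
  have htb'' : t' * b⁻¹ = b * t' := by
    have h1 : b * (t' * b) = t' := by rw [htb']; group
    calc t' * b⁻¹ = b * (t' * b) * b⁻¹ := by rw [h1]
      _ = b * t' := by group
  have hcb : c * b = b * c := by
    rw [hc, mul_assoc, htb, ← mul_assoc, htb'', mul_assoc]
  have hti : t⁻¹ = t := inv_eq_of_mul_eq_one_left ht2
  have hci : c⁻¹ = t * c * t⁻¹ := by
    rw [hc, _root_.mul_inv_rev, inv_eq_of_mul_eq_one_left ht2', hti]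
    calc t * t' = t * t' * (t * t) := by rw [ht2, mul_one]
      _ = _ := by group
  have hcS : c ∈ SUg 3 F 3 := by rw [hc]; exact (SUg 3 F 3).mul_mem htS' htS
  rw [← hc]
  have hcN : (c : Matrix (Fin 3) (Fin 3) F) * N = N * (c : Matrix (Fin 3) (Fin 3) F) := by
    have h1 := congrArg Units.val hcb
    rw [Units.val_mul, Units.val_mul] at h1
    rw [hN, mul_sub, sub_mul, h1, mul_one, one_mul]
  obtain ⟨α, β, γ, hC⟩ := eq_of_comm hN3 hy hcN
  -- the inverse as the adjoint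
  have hctN : ct 3 N = (-1 : F) • N + (1 : F) • (N * N) := by
    have h1 := (mem_GU_iff_ct hF).1 hbS.1
    have h2 : ct 3 (b : Matrix (Fin 3) (Fin 3) F) = ((b⁻¹ : GL (Fin 3) F) : Matrix (Fin 3) (Fin 3) F) := by
      calc ct 3 (b : Matrix (Fin 3) (Fin 3) F) = ct 3 (b : Matrix (Fin 3) (Fin 3) F) *
            ((b : Matrix (Fin 3) (Fin 3) F) * ((b⁻¹ : GL (Fin 3) F) : Matrix (Fin 3) (Fin 3) F)) := by
            rw [← Units.val_mul, mul_inv_cancel, Units.val_one, mul_one]
        _ = _ := by rw [← mul_assoc, h1, one_mul]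
    rw [hbi, hbN, ct_add hF, ct_one hF] at h2
    have h4 : ct 3 N = -N + N * N := by
      have h5 : 1 + ct 3 N = 1 + (-N + N * N) := by rw [h2]; abel
      exact add_left_cancel h5
    rw [h4, neg_smul, one_smul, one_smul]
  have hci' : ((c⁻¹ : GL (Fin 3) F) : Matrix (Fin 3) (Fin 3) F) = ct 3 (c : Matrix (Fin 3) (Fin 3) F) := by
    have h1 := (mem_GU_iff_ct hF).1 hcS.1
    calc ((c⁻¹ : GL (Fin 3) F) : Matrix (Fin 3) (Fin 3) F) = (ct 3 (c : Matrix (Fin 3) (Fin 3) F) *
          (c : Matrix (Fin 3) (Fin 3) F)) * ((c⁻¹ : GL (Fin 3) F) : Matrix (Fin 3) (Fin 3) F) := by rw [h1, one_mul]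
      _ = _ := by rw [mul_assoc, ← Units.val_mul, mul_inv_cancel, Units.val_one, mul_one]
  have hsm : ∀ (a : F) (M : Matrix (Fin 3) (Fin 3) F), ct 3 (a • M) = a ^ 3 • ct 3 M := by
    intro a M
    ext i j
    simp [ct, mul_pow]
  have hNN : ((-1 : F) • N + (1 : F) • (N * N)) * ((-1 : F) • N + (1 : F) • (N * N)) = N * N := by
    rw [neg_smul, one_smul, one_smul]
    have : (-N + N * N) * (-N + N * N) = N * N - N * N * N - N * N * N + N * N * (N * N) := by noncomm_ring
    rw [this, hN3, hN5, sub_zero, sub_zero, add_zero]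
  have hctC : ct 3 (c : Matrix (Fin 3) (Fin 3) F) = α ^ 3 • (1 : Matrix (Fin 3) (Fin 3) F) + (-(β ^ 3)) • N +
      (β ^ 3 + γ ^ 3) • (N * N) := by
    rw [hC, ct_add hF, ct_add hF, hsm, hsm, hsm, ct_one hF, ct_mul hF, hctN, hNN, smul_add, smul_smul, smul_smul,
      add_smul, mul_neg_one, mul_one]
    abel
  -- conjugation by `t`
  have htN : (t : Matrix (Fin 3) (Fin 3) F) * N * ((t⁻¹ : GL (Fin 3) F) : Matrix (Fin 3) (Fin 3) F) =
      (-1 : F) • N + (1 : F) • (N * N) := by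
    have h1 := congrArg Units.val ht
    rw [Units.val_mul, Units.val_mul, hbN, hbi, mul_add, mul_one, add_mul, ← Units.val_mul, mul_inv_cancel,
      Units.val_one] at h1
    have h5 : (1 : Matrix (Fin 3) (Fin 3) F) + (t : Matrix (Fin 3) (Fin 3) F) * N *
        ((t⁻¹ : GL (Fin 3) F) : Matrix (Fin 3) (Fin 3) F) = 1 + (-N + N * N) := by rw [h1]; abel
    rw [add_left_cancel h5, neg_smul, one_smul, one_smul]
  have htNN : (t : Matrix (Fin 3) (Fin 3) F) * (N * N) * ((t⁻¹ : GL (Fin 3) F) : Matrix (Fin 3) (Fin 3) F) = N * N := by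
    have h1 : (t : Matrix (Fin 3) (Fin 3) F) * (N * N) * ((t⁻¹ : GL (Fin 3) F) : Matrix (Fin 3) (Fin 3) F) =
        ((t : Matrix (Fin 3) (Fin 3) F) * N * ((t⁻¹ : GL (Fin 3) F) : Matrix (Fin 3) (Fin 3) F)) *
        ((t : Matrix (Fin 3) (Fin 3) F) * N * ((t⁻¹ : GL (Fin 3) F) : Matrix (Fin 3) (Fin 3) F)) := by
      calc _ = (t : Matrix (Fin 3) (Fin 3) F) * N * (((t⁻¹ : GL (Fin 3) F) : Matrix (Fin 3) (Fin 3) F) *
            (t : Matrix (Fin 3) (Fin 3) F)) * N * ((t⁻¹ : GL (Fin 3) F) : Matrix (Fin 3) (Fin 3) F) := by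
            rw [← Units.val_mul, inv_mul_cancel, Units.val_one, mul_one]
            simp only [mul_assoc]
        _ = _ := by simp only [mul_assoc]
    rw [h1, htN, hNN]
  have hconj : ((c⁻¹ : GL (Fin 3) F) : Matrix (Fin 3) (Fin 3) F) = α • (1 : Matrix (Fin 3) (Fin 3) F) + (-β) • N +
      (β + γ) • (N * N) := by
    rw [hci, Units.val_mul, Units.val_mul, hC, mul_add, mul_add, add_mul, add_mul, Matrix.mul_smul, Matrix.mul_smul,
      Matrix.mul_smul, Matrix.smul_mul, Matrix.smul_mul, Matrix.smul_mul, htN, htNN, mul_one, ← Units.val_mul,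
      mul_inv_cancel, Units.val_one, smul_add, smul_smul, smul_smul, add_smul, mul_neg_one, mul_one]
    abel
  have hcoef := coeff_eq hN3 hN2 (hconj.symm.trans (hci'.trans hctC))
  obtain ⟨-, e2, -⟩ := hcoef
  have hβ : β ^ 3 = β := by linear_combination e2
  -- the product with the inverse
  have hprod : (α * α) • (1 : Matrix (Fin 3) (Fin 3) F) + (α * -β + β * α) • N +
      (α * (β + γ) + β * -β + γ * α) • (N * N) = (1 : F) • (1 : Matrix (Fin 3) (Fin 3) F) + (0 : F) • N +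
      (0 : F) • (N * N) := by
    rw [← poly_mul hN3, ← hconj, ← hC, ← Units.val_mul, mul_inv_cancel, Units.val_one, one_smul, zero_smul, zero_smul,
      add_zero, add_zero]
  obtain ⟨-, -, e3⟩ := coeff_eq hN3 hN2 hprod
  -- `α = 1`
  have hα : α = 1 := by
    have h1 : (c : Matrix (Fin 3) (Fin 3) F) * (c : Matrix (Fin 3) (Fin 3) F) * (c : Matrix (Fin 3) (Fin 3) F) =
        (α * α * α) • (1 : Matrix (Fin 3) (Fin 3) F) := by
      rw [hC, poly_mul hN3, poly_mul hN3]
      have h4 : α * α * β + (α * β + β * α) * α = 0 := by linear_combination (α * α * β) * h3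
      have h5 : α * α * γ + (α * β + β * α) * β + (α * γ + β * β + γ * α) * α = 0 := by
        linear_combination (α * α * γ + α * β * β) * h3
      rw [h4, h5, zero_smul, zero_smul, add_zero, add_zero]
    have h2 := congrArg Matrix.det h1
    rw [Matrix.det_mul, Matrix.det_mul, (mem_SUg.1 hcS).2, Matrix.det_smul, Matrix.det_one, Fintype.card_fin] at h2
    have h4 : α ^ 9 = α := by
      have := FiniteField.pow_card α
      rwa [hF] at this
    rw [← h4]
    have h5 : (α * α * α) ^ 3 * 1 = α ^ 9 := by ring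
    rw [← h5, ← h2]
    ring
  rw [hα] at e3 hC
  have hγ : γ = β - β ^ 2 := by linear_combination (γ * h3 - e3)
  have hβ' : β * ((β - 1) * (β + 1)) = 0 := by linear_combination hβ
  rcases mul_eq_zero.1 hβ' with h | h
  · have h1 : c = 1 := by
      apply Units.ext
      rw [hC, hγ, h, Units.val_one]
      simp
    rw [h1]
    exact Subgroup.one_mem _
  · rcases mul_eq_zero.1 h with h | h
    · have h1 : c = b := by
        apply Units.ext
        rw [hC, hγ, sub_eq_zero.1 h, hbN]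
        simp
      rw [h1]
      exact Subgroup.mem_zpowers b
    · have h1 : c = b⁻¹ := by
        apply Units.ext
        have h2 : β = -1 := eq_neg_of_add_eq_zero_left h
        have h4 : γ = 1 := by rw [hγ, h2]; linear_combination (-1 : F) * h3
        rw [hC, h4, h2, hbi, one_smul, one_smul, neg_smul, one_smul]
        abel
      rw [h1]
      exact (Subgroup.zpowers b).inv_mem (Subgroup.mem_zpowers b)

/-! ### Elements of order `7` -/

theorem irr_seven {a : GL (Fin 3) F} (ha : orderOf a = 7) :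
    ∀ W : Submodule F (Fin 3 → F), (∀ w ∈ W, (a : Matrix (Fin 3) (Fin 3) F) *ᵥ w ∈ W) → W = ⊥ ∨ W = ⊤ := by
  intro W hW
  refine Cfsg.Agent.H915.irr_of_prime_order (by norm_num) ha (by rw [hF]; norm_num) ?_ hW
  intro i hi hi3
  rw [Fintype.card_fin] at hi3
  rw [hF]
  interval_cases i <;> norm_num

/-- the centraliser in `SU₃(3)` of an element of order `7` -/
theorem cent_seven {a c : GL (Fin 3) F} (haS : a ∈ SUg 3 F 3) (ha : orderOf a = 7) (hcS : c ∈ SUg 3 F 3)
    (hca : c * a = a * c) : c ∈ Subgroup.zpowers a := by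
  have hirr := irr_seven hF ha
  obtain ⟨K, hK, hadj, haK⟩ := exists_field hF haS hirr
  have hns : ¬ ∃ c : F, (a : Matrix (Fin 3) (Fin 3) F) = c • (1 : Matrix (Fin 3) (Fin 3) F) := by
    rintro ⟨d, hd⟩
    have hv : (Pi.single 0 1 : Fin 3 → F) ≠ 0 := fun h => by
      have := congrFun h 0
      simp at this
    rcases hirr (F ∙ (Pi.single 0 1 : Fin 3 → F)) (fun w hw => by
      rw [hd, Matrix.smul_mulVec, Matrix.one_mulVec]
      exact Submodule.smul_mem _ _ hw) with h | h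
    · exact hv (Submodule.span_singleton_eq_bot.1 h)
    · have h8 := finrank_span_singleton (K := F) hv
      rw [h, finrank_top] at h8
      simp at h8
  have hcK : (c : Matrix (Fin 3) (Fin 3) F) ∈ K := by
    refine mem_of_comm hK haK hns ?_
    rw [← Units.val_mul, ← Units.val_mul, hca]
  have h1 := pow_eq_one_of_mem_SU hF hK hadj hcK hcS
  exact mem_zpowers_of_pow hK hcK haK (by rw [ha]; exact h1)

/-- an element normalising `⟨a⟩` -/
theorem order_three {a b : GL (Fin 3) F} (haS : a ∈ SUg 3 F 3) (ha : orderOf a = 7) (hbS : b ∈ SUg 3 F 3)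
    (hab : b * a * b⁻¹ = a ^ 2) : b ^ 3 = 1 ∧ b ≠ 1 := by
  have h1 : ∀ k : ℕ, b * a ^ k * b⁻¹ = a ^ (2 * k) := by
    intro k
    rw [← conj_pow, hab, ← pow_mul]
  have h2 : b ^ 3 * a = a * b ^ 3 := by
    have h3 : b ^ 3 * a * (b ^ 3)⁻¹ = a := by
      calc b ^ 3 * a * (b ^ 3)⁻¹ = b * (b * (b * a ^ 1 * b⁻¹) * b⁻¹) * b⁻¹ := by
            have e : b ^ 3 = b * b * b := by rw [pow_succ, pow_two]
            rw [e]
            simp only [_root_.mul_inv_rev, mul_assoc, pow_one]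
        _ = a ^ 8 := by rw [h1, h1, h1]
        _ = a := by
          rw [show 8 = 7 + 1 by norm_num, pow_add, ← ha, pow_orderOf_eq_one, one_mul, pow_one]
    exact mul_inv_eq_iff_eq_mul.1 h3
  have h3 := cent_seven hF haS ha ((SUg 3 F 3).pow_mem hbS 3) h2
  obtain ⟨k, hk⟩ := mem_powers_iff_mem_zpowers.2 h3
  have hk' : a ^ k = b ^ 3 := hk
  refine ⟨?_, ?_⟩
  · have h4 := h1 k
    rw [hk'] at h4
    have h5 : b * b ^ 3 * b⁻¹ = b ^ 3 := by group
    rw [h5, mul_comm 2 k, pow_mul, hk'] at h4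
    have h6 : b ^ 3 * 1 = b ^ 3 * b ^ 3 := by rw [mul_one, ← sq]; exact h4
    exact (mul_left_cancel h6).symm
  · rintro rfl
    have h4 := h1 1
    rw [one_mul, inv_one, mul_one, pow_one, mul_one] at h4
    have h5 : a * 1 = a * a := by rw [mul_one, ← sq]; exact h4
    have h6 := mul_left_cancel h5
    rw [← h6, orderOf_one] at ha
    norm_num at ha

end three

end Cfsg.Agent.H950.MC
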