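import Mathlib
import Cfsg.Agent.H950.MCFive
import Cfsg.Agent.H907.SU3FiveData
import Cfsg.Agent.H907.SU3Mono

/-!
# The subgroup `3.A₇` of `SU₃(5)` (helper950, for S5906, S5907)
-/

set_option autoImplicit false
set_option linter.unusedSectionVars false
set_option maxRecDepth 100000

namespace Cfsg.Agent.H950.MC

open Cfsg Cfsg.Geo Matrix Cfsg.Agent.H918 Cfsg.Agent.LieClassical.HermBasic Cfsg.Agent.H907 Cfsg.Agent.H907.Mdl
  Cfsg.Agent.H907.Mdl.SU35
open scoped MatrixGroups

/-! ### Subgroups given by lists of matrices -/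

section list

variable {F : Type*} [Field F] [Fintype F] {c : Par} {θ : F}

/-- the list is a group of unitary matrices of determinant one with pairwise different members, in the stabiliser of a set of lines -/
def okGrp (c : Par) (S : List V) (L : List M) : Bool :=
  L.all (fun a => isSU c a && chk c S a && L.any (fun m => meq m (star c a)) &&
    L.all (fun b => L.any (fun m => meq m (mm c a b)))) && L.any (fun m => meq m I3) &&
    decide (L.Pairwise fun a b => mne c a b = true)

theorem dvd_of_list (hg : Good c θ) (hF : Fintype.card F = c.p ^ 2) {S : List V} (hS : okS c S = true) {L : List M}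
    (hL : okGrp c S L = true) :
    L.length ∣ Nat.card ↥(stab (lineSet θ S) ⊓ SUg 3 F c.p : Subgroup (GL (Fin 3) F)) := by
  simp only [okGrp, Bool.and_eq_true, List.all_eq_true, List.any_eq_true, decide_eq_true_eq] at hL
  obtain ⟨⟨hL, h1⟩, hnd⟩ := hL
  have hex : ∀ a ∈ L, ∃ g : GL (Fin 3) F, g ∈ SUg 3 F c.p ∧ (g : Matrix (Fin 3) (Fin 3) F) = toM θ a :=
    fun a ha => exists_SU hg hF (hL a ha).1.1.1
  let H : Subgroup (GL (Fin 3) F) :=
    { carrier := {g | ∃ m ∈ L, (g : Matrix (Fin 3) (Fin 3) F) = toM θ m}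
      mul_mem' := by
        rintro x y ⟨a, ha, hxa⟩ ⟨b, hb, hyb⟩
        obtain ⟨m, hm, hmab⟩ := (hL a ha).2 b hb
        exact ⟨m, hm, by rw [Units.val_mul, hxa, hyb, ← toM_mm hg, meq_eq hmab]⟩
      one_mem' := by
        obtain ⟨m, hm, hm1⟩ := h1
        exact ⟨m, hm, by rw [Units.val_one, meq_eq hm1, toM_I3 hg]⟩
      inv_mem' := by
        rintro x ⟨a, ha, hxa⟩
        obtain ⟨m, hm, hma⟩ := (hL a ha).1.2
        refine ⟨m, hm, ?_⟩
        have h2 := (hL a ha).1.1.1
        simp only [isSU, Bool.and_eq_true] at h2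
        have h3 : mm c (star c a) a = I3 := meq_eq (by simpa [meq] using h2.1)
        have h4 : toM θ m * (x : Matrix (Fin 3) (Fin 3) F) = 1 := by
          rw [hxa, meq_eq hma, ← toM_mm hg, h3, toM_I3 hg]
        have h5 : (x : Matrix (Fin 3) (Fin 3) F) * ((x⁻¹ : GL (Fin 3) F) : Matrix (Fin 3) (Fin 3) F) = 1 := by
          rw [← Units.val_mul, mul_inv_cancel, Units.val_one]
        calc ((x⁻¹ : GL (Fin 3) F) : Matrix (Fin 3) (Fin 3) F)
            = toM θ m * (x : Matrix (Fin 3) (Fin 3) F) * ((x⁻¹ : GL (Fin 3) F) : Matrix (Fin 3) (Fin 3) F) := by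
              rw [h4, one_mul]
          _ = toM θ m := by rw [mul_assoc, h5, mul_one] }
  have hHle : H ≤ stab (lineSet θ S) ⊓ SUg 3 F c.p := by
    rintro g ⟨m, hm, hgm⟩
    obtain ⟨g', hg', hgm'⟩ := hex m hm
    have : g = g' := Units.ext (by rw [hgm, hgm'])
    subst this
    exact ⟨mem_stab_of_chk hg hS (hL m hm).1.1.2 hgm, hg'⟩
  have hcard : Nat.card H = L.length := by
    choose g hgS hgm using fun i : Fin L.length => hex (L.get i) (List.get_mem _ _)
    have hbij : Function.Bijective (fun i : Fin L.length => (⟨g i, ⟨L.get i, List.get_mem _ _, hgm i⟩⟩ : H)) := by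
      constructor
      · intro i j hij
        have h2 : toM θ (L.get i) = toM θ (L.get j) := by
          rw [← hgm i, ← hgm j]
          exact congrArg (fun x : H => ((x : GL (Fin 3) F) : Matrix (Fin 3) (Fin 3) F)) hij
        by_contra hne
        rcases lt_or_gt_of_ne hne with h | h
        · exact mne_ne hg (List.pairwise_iff_get.1 hnd i j h) h2
        · exact mne_ne hg (List.pairwise_iff_get.1 hnd j i h) h2.symm
      · rintro ⟨x, m, hm, hxm⟩
        obtain ⟨i, hi⟩ := List.get_of_mem hm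
        refine ⟨i, Subtype.ext (Units.ext ?_)⟩
        show (g i : Matrix (Fin 3) (Fin 3) F) = x
        rw [hgm i, hi, hxm]
    rw [← Nat.card_congr (Equiv.ofBijective _ hbij), Nat.card_eq_fintype_card, Fintype.card_fin]
  rw [← hcard]
  exact Subgroup.card_dvd_of_le hHle

end list

def G8 : List M := [(((0,0), (1,0), (0,0)), ((1,0), (0,0), (0,0)), ((0,0), (0,0), (4,0))),
  (((0,0), (1,0), (0,0)), ((4,0), (0,0), (0,0)), ((0,0), (0,0), (1,0))),
  (((0,0), (4,0), (0,0)), ((1,0), (0,0), (0,0)), ((0,0), (0,0), (1,0))),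
  (((0,0), (4,0), (0,0)), ((4,0), (0,0), (0,0)), ((0,0), (0,0), (4,0))),
  (((1,0), (0,0), (0,0)), ((0,0), (1,0), (0,0)), ((0,0), (0,0), (1,0))),
  (((1,0), (0,0), (0,0)), ((0,0), (4,0), (0,0)), ((0,0), (0,0), (4,0))),
  (((4,0), (0,0), (0,0)), ((0,0), (1,0), (0,0)), ((0,0), (0,0), (4,0))),
  (((4,0), (0,0), (0,0)), ((0,0), (4,0), (0,0)), ((0,0), (0,0), (1,0)))]

def G27 : List M := [(((0,0), (0,0), (0,1)), ((0,1), (0,0), (0,0)), ((0,0), (0,1), (0,0))),
  (((0,0), (0,0), (0,1)), ((1,0), (0,0), (0,0)), ((0,0), (4,4), (0,0))),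
  (((0,0), (0,0), (0,1)), ((4,4), (0,0), (0,0)), ((0,0), (1,0), (0,0))),
  (((0,0), (0,0), (1,0)), ((0,1), (0,0), (0,0)), ((0,0), (4,4), (0,0))),
  (((0,0), (0,0), (1,0)), ((1,0), (0,0), (0,0)), ((0,0), (1,0), (0,0))),
  (((0,0), (0,0), (1,0)), ((4,4), (0,0), (0,0)), ((0,0), (0,1), (0,0))),
  (((0,0), (0,0), (4,4)), ((0,1), (0,0), (0,0)), ((0,0), (1,0), (0,0))),
  (((0,0), (0,0), (4,4)), ((1,0), (0,0), (0,0)), ((0,0), (0,1), (0,0))),
  (((0,0), (0,0), (4,4)), ((4,4), (0,0), (0,0)), ((0,0), (4,4), (0,0))),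
  (((0,0), (0,1), (0,0)), ((0,0), (0,0), (0,1)), ((0,1), (0,0), (0,0))),
  (((0,0), (0,1), (0,0)), ((0,0), (0,0), (1,0)), ((4,4), (0,0), (0,0))),
  (((0,0), (0,1), (0,0)), ((0,0), (0,0), (4,4)), ((1,0), (0,0), (0,0))),
  (((0,0), (1,0), (0,0)), ((0,0), (0,0), (0,1)), ((4,4), (0,0), (0,0))),
  (((0,0), (1,0), (0,0)), ((0,0), (0,0), (1,0)), ((1,0), (0,0), (0,0))),
  (((0,0), (1,0), (0,0)), ((0,0), (0,0), (4,4)), ((0,1), (0,0), (0,0))),
  (((0,0), (4,4), (0,0)), ((0,0), (0,0), (0,1)), ((1,0), (0,0), (0,0))),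
  (((0,0), (4,4), (0,0)), ((0,0), (0,0), (1,0)), ((0,1), (0,0), (0,0))),
  (((0,0), (4,4), (0,0)), ((0,0), (0,0), (4,4)), ((4,4), (0,0), (0,0))),
  (((0,1), (0,0), (0,0)), ((0,0), (0,1), (0,0)), ((0,0), (0,0), (0,1))),
  (((0,1), (0,0), (0,0)), ((0,0), (1,0), (0,0)), ((0,0), (0,0), (4,4))),
  (((0,1), (0,0), (0,0)), ((0,0), (4,4), (0,0)), ((0,0), (0,0), (1,0))),
  (((1,0), (0,0), (0,0)), ((0,0), (0,1), (0,0)), ((0,0), (0,0), (4,4))),
  (((1,0), (0,0), (0,0)), ((0,0), (1,0), (0,0)), ((0,0), (0,0), (1,0))),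
  (((1,0), (0,0), (0,0)), ((0,0), (4,4), (0,0)), ((0,0), (0,0), (0,1))),
  (((4,4), (0,0), (0,0)), ((0,0), (0,1), (0,0)), ((0,0), (0,0), (1,0))),
  (((4,4), (0,0), (0,0)), ((0,0), (1,0), (0,0)), ((0,0), (0,0), (0,1))),
  (((4,4), (0,0), (0,0)), ((0,0), (4,4), (0,0)), ((0,0), (0,0), (4,4)))]

/-- a regular unipotent element -/
def mu : M := (((1, 2), (0, 0), (1, 2)), ((2, 0), (4, 3), (3, 0)), ((2, 0), (1, 2), (3, 0)))
/-- an element conjugating it to its square -/
def mh : M := (((1, 4), (0, 2), (3, 0)), ((3, 4), (3, 0), (3, 3)), ((0, 0), (4, 1), (2, 1)))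

theorem okG8 : okGrp c5 S105 G8 = true := by decide +kernel

/-- the conditions on one member of a list -/
def okOne (c : Par) (S : List V) (L : List M) (a : M) : Bool :=
  isSU c a && chk c S a && L.any (fun m => meq m (star c a)) &&
    L.all (fun b => L.any (fun m => meq m (mm c a b)))

theorem okG27_a : (G27.take 9).all (okOne c5 S105 G27) = true := by decide +kernel
theorem okG27_b : ((G27.drop 9).take 9).all (okOne c5 S105 G27) = true := by decide +kernel
theorem okG27_c : (G27.drop 18).all (okOne c5 S105 G27) = true := by decide +kernel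
theorem okG27_d : G27.any (fun m => meq m I3) = true := by decide +kernel
theorem okG27_e : decide (G27.Pairwise fun a b => mne c5 a b = true) = true := by decide +kernel

theorem okG27 : okGrp c5 S105 G27 = true := by
  have h : G27.all (okOne c5 S105 G27) = true := by
    rw [List.all_eq_true]
    intro a ha
    rw [← List.take_append_drop 9 G27, List.mem_append] at ha
    rcases ha with ha | ha
    · exact List.all_eq_true.1 okG27_a a ha
    · rw [← List.take_append_drop 9 (G27.drop 9), List.mem_append, List.drop_drop] at ha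
      rcases ha with ha | ha
      · exact List.all_eq_true.1 okG27_b a ha
      · exact List.all_eq_true.1 okG27_c a ha
  have h1 := okG27_d
  have h2 := okG27_e
  unfold okOne at h
  unfold okGrp
  rw [h, h1, h2]
  rfl
theorem isSU_mu : isSU c5 mu = true := by decide +kernel
theorem isSU_mh : isSU c5 mh = true := by decide +kernel
theorem isSU_my : isSU c5 my = true := by decide +kernel
theorem chk_mu : chk c5 S105 mu = true := by decide +kernel
theorem chk_mh : chk c5 S105 mh = true := by decide +kernel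
theorem mu_five : meq (mpow c5 mu 5) I3 = true := by decide +kernel
theorem mu_ne : mne c5 mu I3 = true := by decide +kernel
theorem my_seven : meq (mpow c5 my 7) I3 = true := by decide +kernel
theorem my_ne : mne c5 my I3 = true := by decide +kernel
theorem mh_mu : meq (mm c5 mh mu) (mm c5 (mm c5 mu mu) mh) = true := by decide +kernel

end Cfsg.Agent.H950.MC
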