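import Mathlib
import Cfsg.Agent.H950.MCQ5Data

/-!
# Five classes of maximal subgroups in `PSU₃(5)` (helper950, for S5906, S5907)
-/

set_option autoImplicit false
set_option linter.unusedSectionVars false
set_option linter.unusedSimpArgs false
set_option maxRecDepth 100000

namespace Cfsg.Agent.H950.MC

open Cfsg Cfsg.Geo Matrix Cfsg.Agent.H918 Cfsg.Agent.LieClassical.HermBasic Cfsg.Agent.H907 Cfsg.Agent.H907.Mdl
  Cfsg.Agent.H907.Mdl.SU35 Cfsg.Agent.H907.SU3 Cfsg.Agent.H940.MaxCls Cfsg.Agent.H907.Mx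
open scoped MatrixGroups

/-! ### Determinants of the elements commuting with a regular nilpotent one -/

theorem det_of_comm {F : Type*} [Field F] {N C : Matrix (Fin 3) (Fin 3) F} {y : Fin 3 → F} (hN : N * N * N = 0)
    (hy : (N * N) *ᵥ y ≠ 0) (hC : C * N = N * C) : ∃ a : F, C.det = a ^ 3 := by
  have hN3 : ∀ v, N *ᵥ (N *ᵥ (N *ᵥ v)) = 0 := by
    intro v
    rw [Matrix.mulVec_mulVec, Matrix.mulVec_mulVec, hN, Matrix.zero_mulVec]
  have hy' : N *ᵥ (N *ᵥ y) ≠ 0 := by rwa [Matrix.mulVec_mulVec]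
  have hCN : ∀ v, C *ᵥ (N *ᵥ v) = N *ᵥ (C *ᵥ v) := by
    intro v
    rw [Matrix.mulVec_mulVec, Matrix.mulVec_mulVec, hC]
  let b : Fin 3 → Fin 3 → F := ![y, N *ᵥ y, N *ᵥ (N *ᵥ y)]
  have hli : LinearIndependent F b := by
    rw [Fintype.linearIndependent_iff]
    intro g hg
    rw [Fin.sum_univ_three] at hg
    have h0 : g 0 • y + g 1 • (N *ᵥ y) + g 2 • (N *ᵥ (N *ᵥ y)) = 0 := hg
    have e0 : g 0 = 0 := by
      have h1 := congrArg (fun v => N *ᵥ (N *ᵥ v)) h0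
      simp only [Matrix.mulVec_add, Matrix.mulVec_smul, hN3, Matrix.mulVec_zero, smul_zero, add_zero] at h1
      exact (smul_eq_zero.1 h1).resolve_right hy'
    rw [e0, zero_smul, zero_add] at h0
    have e1 : g 1 = 0 := by
      have h1 := congrArg (fun v => N *ᵥ v) h0
      simp only [Matrix.mulVec_add, Matrix.mulVec_smul, hN3, Matrix.mulVec_zero, smul_zero, add_zero] at h1
      exact (smul_eq_zero.1 h1).resolve_right hy'
    rw [e1, zero_smul, zero_add] at h0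
    have e2 : g 2 = 0 := (smul_eq_zero.1 h0).resolve_right hy'
    intro i
    fin_cases i
    · exact e0
    · exact e1
    · exact e2
  -- the matrix with these columns
  let B : Matrix (Fin 3) (Fin 3) F := (Matrix.of b)ᵀ
  have hB : IsUnit B := by
    rw [← Matrix.linearIndependent_cols_iff_isUnit]
    exact hli
  have hBdet : B.det ≠ 0 := ((Matrix.isUnit_iff_isUnit_det B).1 hB).ne_zero
  have hcol : ∀ i, B *ᵥ Pi.single i 1 = b i := by
    intro i
    rw [Matrix.mulVec_single_one]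
    rfl
  obtain ⟨k, hk⟩ : ∃ k : Fin 3 → F, B *ᵥ k = C *ᵥ y := by
    refine ⟨B⁻¹ *ᵥ (C *ᵥ y), ?_⟩
    rw [Matrix.mulVec_mulVec, Matrix.mul_nonsing_inv B ((Matrix.isUnit_iff_isUnit_det B).1 hB), Matrix.one_mulVec]
  have hBk : ∀ k : Fin 3 → F, B *ᵥ k = k 0 • y + k 1 • (N *ᵥ y) + k 2 • (N *ᵥ (N *ᵥ y)) := by
    intro k
    have h1 : k = k 0 • Pi.single 0 1 + k 1 • Pi.single 1 1 + k 2 • Pi.single 2 1 := by
      ext i
      fin_cases i <;> simp
    conv_lhs => rw [h1]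
    rw [Matrix.mulVec_add, Matrix.mulVec_add, Matrix.mulVec_smul, Matrix.mulVec_smul, Matrix.mulVec_smul, hcol, hcol,
      hcol]
    rfl
  have hCy : C *ᵥ y = k 0 • y + k 1 • (N *ᵥ y) + k 2 • (N *ᵥ (N *ᵥ y)) := by rw [← hk, hBk]
  have hCy1 : C *ᵥ (N *ᵥ y) = k 0 • (N *ᵥ y) + k 1 • (N *ᵥ (N *ᵥ y)) := by
    rw [hCN, hCy]
    simp only [Matrix.mulVec_add, Matrix.mulVec_smul, hN3, smul_zero, add_zero]
  have hCy2 : C *ᵥ (N *ᵥ (N *ᵥ y)) = k 0 • (N *ᵥ (N *ᵥ y)) := by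
    rw [hCN, hCy1]
    simp only [Matrix.mulVec_add, Matrix.mulVec_smul, hN3, smul_zero, add_zero]
  let T : Matrix (Fin 3) (Fin 3) F := !![k 0, 0, 0; k 1, k 0, 0; k 2, k 1, k 0]
  have hT : C * B = B * T := by
    have key : ∀ i, (C * B) *ᵥ Pi.single i 1 = (B * T) *ᵥ Pi.single i 1 := by
      intro i
      rw [← Matrix.mulVec_mulVec, ← Matrix.mulVec_mulVec, hcol, hBk]
      fin_cases i
      · show C *ᵥ y = _
        rw [hCy]
        simp [T, Matrix.mulVec_single_one]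
      · show C *ᵥ (N *ᵥ y) = _
        rw [hCy1]
        simp [T, Matrix.mulVec_single_one]
      · show C *ᵥ (N *ᵥ (N *ᵥ y)) = _
        rw [hCy2]
        simp [T, Matrix.mulVec_single_one]
    ext i j
    have := congrFun (key j) i
    rwa [Matrix.mulVec_single_one, Matrix.mulVec_single_one] at this
  refine ⟨k 0, ?_⟩
  have h1 := congrArg Matrix.det hT
  rw [Matrix.det_mul, Matrix.det_mul, mul_comm B.det] at h1
  have h2 := mul_right_cancel₀ hBdet h1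
  rw [h2, Matrix.det_fin_three]
  simp [T]
  ring

/-! ### Subgroups of small index -/

theorem dvd_factorial_of_core {G : Type*} [Group G] [Finite G] (K : Subgroup G) {p k : ℕ} (hp : p.Prime)
    (hG : p ^ k ∣ Nat.card G) (hcore : ¬ p ∣ Nat.card K.normalCore) : p ^ k ∣ K.index.factorial := by
  have h2 : K.normalCore = (MulAction.toPermHom G (G ⧸ K)).ker := Subgroup.normalCore_eq_ker K
  have h3 := Subgroup.card_dvd_of_injective (QuotientGroup.kerLift (MulAction.toPermHom G (G ⧸ K)))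
    (QuotientGroup.kerLift_injective _)
  rw [Nat.card_perm, ← Subgroup.index_eq_card K, ← h2] at h3
  refine dvd_trans ?_ h3
  have h4 : Nat.card G = Nat.card (G ⧸ K.normalCore) * Nat.card K.normalCore :=
    Subgroup.card_eq_card_quotient_mul_card_subgroup K.normalCore
  rw [h4] at hG
  exact Nat.Coprime.dvd_of_dvd_mul_right
    (Nat.Coprime.pow_left k ((Nat.Prime.coprime_iff_not_dvd hp).2 hcore)) hG

section five

variable {F : Type*} [Field F] [Fintype F] (hF : Fintype.card F = 5 ^ 2)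
include hF

theorem card_S5 : Nat.card (SUg 3 F 5) = 378000 := by
  rw [card_SUg hF]; norm_num

theorem scalar_pow_three {x : GL (Fin 3) F} (hx : x ∈ SUg 3 F 5) (hs : x ∈ scalars (Fin 3) F) : x ^ 3 = 1 := by
  obtain ⟨c, hc⟩ := (mem_scalars_iff x).1 hs
  have h1 := (mem_SUg.1 hx).2
  rw [hc, Matrix.det_smul, Matrix.det_one, mul_one, Fintype.card_fin] at h1
  apply Units.ext
  rw [Units.val_pow_eq_pow_val, hc, smul_pow, h1, one_pow, one_smul, Units.val_one]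

/-- a proper subgroup of `SU₃(5)` has index at least `15` -/
theorem not_small_index {K : Subgroup (GL (Fin 3) F)} (hK : K ≤ SUg 3 F 5) (hne : K ≠ SUg 3 F 5) :
    5 ^ 3 ∣ (K.subgroupOf (SUg 3 F 5)).index.factorial := by
  apply dvd_factorial_of_core _ (by norm_num) (by rw [card_S5 hF]; norm_num)
  intro h
  -- the core consists of scalars
  have hN : (K.subgroupOf (SUg 3 F 5)).normalCore.map (SUg 3 F 5).subtype ≤ scalars (Fin 3) F := by
    have e1 : (K.subgroupOf (SUg 3 F 5)).normalCore.map (SUg 3 F 5).subtype ≤ SUg 3 F 5 := Subgroup.map_subtype_le _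
    have e2 : ∀ g ∈ SUg 3 F 5, ∀ x ∈ (K.subgroupOf (SUg 3 F 5)).normalCore.map (SUg 3 F 5).subtype,
        g * x * g⁻¹ ∈ (K.subgroupOf (SUg 3 F 5)).normalCore.map (SUg 3 F 5).subtype := by
      intro g hg y hy
      obtain ⟨x, hx, hxy⟩ := Subgroup.mem_map.1 hy
      refine Subgroup.mem_map.2 ⟨⟨g, hg⟩ * x * ⟨g, hg⟩⁻¹, ?_, ?_⟩
      · exact (Subgroup.normalCore_normal _).conj_mem x hx ⟨g, hg⟩
      · rw [← hxy]; simp
    rcases SUg_normal (n := 3) (q := 5) hF le_rfl (by norm_num) e1 e2 with h | h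
    · exact h
    · exfalso
      apply hne
      refine le_antisymm hK ?_
      rw [← h]
      rintro _ ⟨x, hx, rfl⟩
      exact (Subgroup.normalCore_le _ hx : x ∈ K.subgroupOf (SUg 3 F 5))
  have : Fact (Nat.Prime 5) := ⟨by norm_num⟩
  obtain ⟨⟨x, hx⟩, hxo⟩ := exists_prime_orderOf_dvd_card' 5 h
  have h1 : (x : GL (Fin 3) F) ^ 3 = 1 := scalar_pow_three hF x.2 (hN ⟨x, hx, rfl⟩)
  have h2 : (⟨x, hx⟩ : (K.subgroupOf (SUg 3 F 5)).normalCore) ^ 3 = 1 := Subtype.ext (Subtype.ext h1)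
  have h3 := orderOf_dvd_of_pow_eq_one h2
  rw [hxo] at h3
  norm_num at h3

/-- a proper subgroup of `SU₃(5)` of order divisible by `7560` has Sylow `5`-subgroups of order `5` -/
theorem not_25_dvd {K : Subgroup (GL (Fin 3) F)} (hK : K ≤ SUg 3 F 5) (hne : K ≠ SUg 3 F 5)
    (h : 7560 ∣ Nat.card K) : ¬ 5 ^ (1 + 1) ∣ Nat.card K := by
  have h1 := not_small_index hF hK hne
  have h2 : Nat.card K * (K.subgroupOf (SUg 3 F 5)).index = 378000 := by
    rw [← card_S5 hF, ← Subgroup.card_mul_index (K.subgroupOf (SUg 3 F 5)),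
      Nat.card_congr (Subgroup.subgroupOfEquivOfLe hK).toEquiv]
  obtain ⟨m, hm⟩ := h
  set n := (K.subgroupOf (SUg 3 F 5)).index with hn
  have h3 : m * n = 50 := by
    rw [hm] at h2
    have : 7560 * (m * n) = 7560 * 50 := by rw [← mul_assoc, h2]
    exact Nat.eq_of_mul_eq_mul_left (by norm_num) this
  intro h25
  rw [hm] at h25
  have h5 : 5 ∣ m := by
    have h4 : 5 * 5 ∣ 5 * (1512 * m) := by
      rw [← mul_assoc]
      exact h25
    have h6 : 5 ∣ 1512 * m := Nat.dvd_of_mul_dvd_mul_left (by norm_num) h4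
    exact (Nat.Coprime.dvd_of_dvd_mul_left (by norm_num) h6)
  obtain ⟨j, rfl⟩ := h5
  have h6 : j * n = 10 := by
    have : 5 * (j * n) = 5 * 10 := by rw [← mul_assoc, h3]
    exact Nat.eq_of_mul_eq_mul_left (by norm_num) this
  have h7 : n ∣ 10 := Dvd.intro_left j h6
  have h8 : n ≤ 10 := Nat.le_of_dvd (by norm_num) h7
  have h9 : n.factorial ∣ (10).factorial := Nat.factorial_dvd_factorial h8
  have h10 := h1.trans h9
  revert h10
  decide

end five

/-! ### The group `3.A₇` and its conjugates -/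

section seven

variable {F : Type*} [Field F] [Fintype F] {θ : F}

/-- the group `3.A₇` -/
def X0 (θ : F) : Subgroup (GL (Fin 3) F) := stab (lineSet θ S105) ⊓ SUg 3 F 5

variable (hg : Good c5 θ) (hF : Fintype.card F = 5 ^ 2)
include hg hF

theorem exists_mu : ∃ u ∈ X0 θ, (u : Matrix (Fin 3) (Fin 3) F) = toM θ mu ∧ orderOf u = 5 := by
  obtain ⟨u, huS, hu⟩ := exists_SU hg hF isSU_mu
  refine ⟨u, ⟨mem_stab_of_chk hg okS105 chk_mu hu, huS⟩, hu, ?_⟩
  have : Fact (Nat.Prime 5) := ⟨by norm_num⟩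
  apply orderOf_eq_prime
  · apply Units.ext
    rw [Units.val_pow_eq_pow_val, hu, ← toM_mpow hg, toM_congr mu_five, toM_I3 hg, Units.val_one]
  · intro h
    have := congrArg Units.val h
    rw [hu, Units.val_one, ← toM_I3 hg] at this
    exact mne_ne hg mu_ne this

theorem exists_my : ∃ y ∈ X0 θ, orderOf y = 7 := by
  obtain ⟨u, huS, hu⟩ := exists_SU hg hF isSU_my
  refine ⟨u, ⟨mem_stab_of_chk hg okS105 chk_my hu, huS⟩, ?_⟩
  have : Fact (Nat.Prime 7) := ⟨by norm_num⟩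
  apply orderOf_eq_prime
  · apply Units.ext
    rw [Units.val_pow_eq_pow_val, hu, ← toM_mpow hg, toM_congr my_seven, toM_I3 hg, Units.val_one]
  · intro h
    have := congrArg Units.val h
    rw [hu, Units.val_one, ← toM_I3 hg] at this
    exact mne_ne hg my_ne this

theorem exists_mh {u : GL (Fin 3) F} (hu : (u : Matrix (Fin 3) (Fin 3) F) = toM θ mu) :
    ∃ h ∈ X0 θ, h * u * h⁻¹ = u ^ 2 := by
  obtain ⟨h, hhS, hh⟩ := exists_SU hg hF isSU_mh
  refine ⟨h, ⟨mem_stab_of_chk hg okS105 chk_mh hh, hhS⟩, ?_⟩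
  rw [mul_inv_eq_iff_eq_mul]
  apply Units.ext
  rw [Units.val_mul, Units.val_mul, pow_two, Units.val_mul, hh, hu, ← toM_mm hg, ← toM_mm hg, ← toM_mm hg]
  exact toM_congr mh_mu

theorem dvd_X0 : 7560 ∣ Nat.card (X0 θ) := by
  have h8 : 8 ∣ Nat.card (X0 θ) := dvd_of_list hg hF okS105 okG8
  have h27 : 27 ∣ Nat.card (X0 θ) := dvd_of_list hg hF okS105 okG27
  have h5 : 5 ∣ Nat.card (X0 θ) := by
    obtain ⟨u, hu, -, ho⟩ := exists_mu hg hF
    rw [← ho, ← Subgroup.orderOf_mk u hu]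
    exact orderOf_dvd_natCard _
  have h7 : 7 ∣ Nat.card (X0 θ) := by
    obtain ⟨u, hu, ho⟩ := exists_my hg hF
    rw [← ho, ← Subgroup.orderOf_mk u hu]
    exact orderOf_dvd_natCard _
  have h1 : 8 * 27 ∣ Nat.card (X0 θ) := Nat.Coprime.mul_dvd_of_dvd_of_dvd (by norm_num) h8 h27
  have h2 : 8 * 27 * 5 ∣ Nat.card (X0 θ) := Nat.Coprime.mul_dvd_of_dvd_of_dvd (by norm_num) h1 h5
  have h3 : 8 * 27 * 5 * 7 ∣ Nat.card (X0 θ) := Nat.Coprime.mul_dvd_of_dvd_of_dvd (by norm_num) h2 h7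
  exact h3

omit hg in
theorem det_pow_two {C : GL (Fin 3) F} (hC : C ∈ Cfsg.GU 3 F 5) {a : F}
    (ha : (C : Matrix (Fin 3) (Fin 3) F).det = a ^ 3) : (C : Matrix (Fin 3) (Fin 3) F).det ^ 2 = 1 := by
  have h1 := congrArg Matrix.det ((mem_GU_iff_ct hF).1 hC)
  have h2 : (ct 5 (C : Matrix (Fin 3) (Fin 3) F)).det = (C : Matrix (Fin 3) (Fin 3) F).det ^ 5 := by
    rw [Matrix.det_fin_three, Matrix.det_fin_three]
    simp only [ct, Matrix.of_apply]
    have h5 : ∀ x y : F, (x - y) ^ 5 = x ^ 5 - y ^ 5 := sub_pow_q hF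
    have h6 : ∀ x y : F, (x + y) ^ 5 = x ^ 5 + y ^ 5 := add_pow_q hF
    rw [h5, h6, h6, h5, h5]
    ring
  rw [Matrix.det_mul, Matrix.det_one, h2, ha] at h1
  have h3 : a ^ 18 = 1 := by
    have : (a ^ 3) ^ 5 * a ^ 3 = a ^ 18 := by ring
    rw [← this, h1]
  have h0 : a ≠ 0 := by
    rintro rfl
    norm_num at h3
  have h4 : a ^ 24 = 1 := by
    have := FiniteField.pow_card_sub_one_eq_one a h0
    rwa [hF] at this
  rw [ha]
  calc (a ^ 3) ^ 2 = a ^ 6 * a ^ 18 := by rw [h3, mul_one]; ring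
    _ = 1 := by rw [← pow_add, h4]

theorem apart_X {d e : GL (Fin 3) F} (hd : d ∈ Cfsg.GU 3 F 5) (he : e ∈ Cfsg.GU 3 F 5)
    (hde : (d : Matrix (Fin 3) (Fin 3) F).det ^ 2 ≠ (e : Matrix (Fin 3) (Fin 3) F).det ^ 2) :
    ApartIn (SUg 3 F 5) ((X0 θ).map (MulAut.conj d).toMonoidHom) ((X0 θ).map (MulAut.conj e).toMonoidHom) := by
  intro g hgS K hK h1 h2
  by_contra hne
  have hcard : 7560 ∣ Nat.card K := by
    refine dvd_trans ?_ (Subgroup.card_dvd_of_le h1)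
    rw [card_map_conj]
    exact dvd_X0 hg hF
  have h25 := not_25_dvd hF hK hne hcard
  obtain ⟨u, huX, hu, huo⟩ := exists_mu hg hF
  obtain ⟨h, hhX, hh⟩ := exists_mh hg hF hu
  have hv : d * u * d⁻¹ ∈ K := h1 ⟨u, huX, rfl⟩
  have hv' : g * (e * u * e⁻¹) * g⁻¹ ∈ K := h2 _ ⟨u, huX, rfl⟩
  obtain ⟨v, hvdef⟩ : ∃ v, v = d * u * d⁻¹ := ⟨_, rfl⟩
  obtain ⟨v', hvdef'⟩ : ∃ v, v = g * (e * u * e⁻¹) * g⁻¹ := ⟨_, rfl⟩
  rw [← hvdef] at hv
  rw [← hvdef'] at hv'
  have hvo : orderOf v = 5 := by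
    rw [← huo, hvdef]
    exact orderOf_injective (MulAut.conj d).toMonoidHom (MulAut.conj d).injective u
  have hvo' : orderOf v' = 5 := by
    have : v' = (MulAut.conj (g * e)) u := by rw [hvdef', MulAut.conj_apply]; group
    rw [this, ← huo]
    exact orderOf_injective (MulAut.conj (g * e)).toMonoidHom (MulAut.conj (g * e)).injective u
  obtain ⟨s, hsK, hs⟩ := exists_conj_of_card (S := K) (A := Subgroup.zpowers v') (B := Subgroup.zpowers v)
    (r := 5) (k := 1) (by norm_num) (Subgroup.zpowers_le.2 hv') (Subgroup.zpowers_le.2 hv)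
    (by rw [Nat.card_zpowers, hvo', pow_one]) (by rw [Nat.card_zpowers, hvo, pow_one]) h25
  have hs1 := hs v' (Subgroup.mem_zpowers v')
  -- `s v' s⁻¹ = v ^ j`
  obtain ⟨j, hj5, hj⟩ : ∃ j : ℕ, j < 5 ∧ v ^ j = s * v' * s⁻¹ := by
    have h3 := mem_powers_iff_mem_zpowers.2 hs1
    obtain ⟨j, hj⟩ := h3
    have hj' : v ^ j = s * v' * s⁻¹ := hj
    refine ⟨j % 5, Nat.mod_lt _ (by norm_num), ?_⟩
    rw [← hj', ← hvo, pow_mod_orderOf]
  have hj0 : j ≠ 0 := by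
    rintro rfl
    rw [pow_zero] at hj
    have h3 : v' = 1 := by
      have h4 := congrArg (fun x => s⁻¹ * x * s) hj
      simp only [mul_one, inv_mul_cancel] at h4
      have h5 : s⁻¹ * (s * v' * s⁻¹) * s = v' := by group
      rw [h5] at h4
      exact h4.symm
    rw [h3, orderOf_one] at hvo'
    norm_num at hvo'
  -- the powers of `u` are conjugate in `X0`
  obtain ⟨r, hrX, hr⟩ : ∃ r ∈ X0 θ, r * u * r⁻¹ = u ^ j := by
    have hpow : ∀ n : ℕ, ∀ m : ℕ, h * u ^ n * h⁻¹ = u ^ (2 * n) := by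
      intro n _
      rw [pow_mul, ← hh]
      exact (conj_pow (i := n)).symm
    have hu5 : u ^ 5 = 1 := by rw [← huo, pow_orderOf_eq_one]
    have e2 : h * u * h⁻¹ = u ^ 2 := hh
    have e4 : (h * h) * u * (h * h)⁻¹ = u ^ 4 := by
      have := hpow 2 0
      calc (h * h) * u * (h * h)⁻¹ = h * (h * u * h⁻¹) * h⁻¹ := by group
        _ = u ^ 4 := by rw [hh, this]
    have e3 : (h * h * h) * u * (h * h * h)⁻¹ = u ^ 3 := by
      have := hpow 4 0
      calc (h * h * h) * u * (h * h * h)⁻¹ = h * ((h * h) * u * (h * h)⁻¹) * h⁻¹ := by group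
        _ = u ^ 8 := by rw [e4, this]
        _ = u ^ 3 := by rw [show 8 = 5 + 3 by norm_num, pow_add, hu5, one_mul]
    have hj' : j = 1 ∨ j = 2 ∨ j = 3 ∨ j = 4 := by omega
    rcases hj' with rfl | rfl | rfl | rfl
    · exact ⟨1, one_mem _, by simp⟩
    · exact ⟨h, hhX, e2⟩
    · exact ⟨h * h * h, mul_mem (mul_mem hhX hhX) hhX, e3⟩
    · exact ⟨h * h, mul_mem hhX hhX, e4⟩
  -- the commuting element
  obtain ⟨C, hCdef⟩ : ∃ C, C = r⁻¹ * d⁻¹ * s * g * e := ⟨_, rfl⟩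
  have hCu : C * u = u * C := by
    have h3 : s * (g * (e * u * e⁻¹) * g⁻¹) * s⁻¹ = d * (r * u * r⁻¹) * d⁻¹ := by
      rw [← hvdef', ← hj, hr, hvdef]
      exact conj_pow (i := j)
    have h4 : C * u * C⁻¹ = u := by
      calc C * u * C⁻¹ = r⁻¹ * (d⁻¹ * (s * (g * (e * u * e⁻¹) * g⁻¹) * s⁻¹) * d) * r := by rw [hCdef]; group
        _ = u := by rw [h3]; group
    rw [mul_inv_eq_iff_eq_mul] at h4
    exact h4
  have hsS : s ∈ SUg 3 F 5 := hK hsK
  have hCG : C ∈ Cfsg.GU 3 F 5 := by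
    rw [hCdef]
    exact mul_mem (mul_mem (mul_mem (mul_mem (inv_mem hrX.2.1) (inv_mem hd)) hsS.1) hgS.1) he
  have hdet : (d : Matrix (Fin 3) (Fin 3) F).det * (C : Matrix (Fin 3) (Fin 3) F).det =
      (e : Matrix (Fin 3) (Fin 3) F).det := by
    have h3 : d * C = (d * r⁻¹ * d⁻¹) * s * g * e := by rw [hCdef]; group
    have h4 := congrArg (fun x : GL (Fin 3) F => (x : Matrix (Fin 3) (Fin 3) F).det) h3
    simp only [Units.val_mul, Matrix.det_mul] at h4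
    rw [h4, (mem_SUg.1 hsS).2, (mem_SUg.1 hgS).2, mul_one, mul_one,
      (mem_SUg.1 ((SUg 3 F 5).inv_mem hrX.2)).2, mul_one, ← Matrix.det_mul, ← Units.val_mul, mul_inv_cancel,
      Units.val_one, Matrix.det_one, one_mul]
  -- the nilpotent matrix
  obtain ⟨N, hN⟩ : ∃ N : Matrix (Fin 3) (Fin 3) F, N = toM θ mu - 1 := ⟨_, rfl⟩
  have hCN : (C : Matrix (Fin 3) (Fin 3) F) * N = N * (C : Matrix (Fin 3) (Fin 3) F) := by
    have h3 := congrArg Units.val hCu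
    rw [Units.val_mul, Units.val_mul, hu] at h3
    rw [hN, mul_sub, sub_mul, h3, mul_one, one_mul]
  have hNm : N = toM θ (((0, 2), (0, 0), (1, 2)), ((2, 0), (3, 3), (3, 0)), ((2, 0), (1, 2), (2, 0))) := by
    rw [hN, sub_eq_iff_eq_add, ← toM_I3 hg]
    ext i j
    fin_cases i <;> fin_cases j <;> simp [toM, toV, mu, I3, ev] <;> ring
  have hN3 : N * N * N = 0 := by
    rw [hNm, ← toM_mm hg, ← toM_mm hg]
    have : meq (mm c5 (mm c5 (((0, 2), (0, 0), (1, 2)), ((2, 0), (3, 3), (3, 0)), ((2, 0), (1, 2), (2, 0)))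
      (((0, 2), (0, 0), (1, 2)), ((2, 0), (3, 3), (3, 0)), ((2, 0), (1, 2), (2, 0))))
      (((0, 2), (0, 0), (1, 2)), ((2, 0), (3, 3), (3, 0)), ((2, 0), (1, 2), (2, 0))))
      (((0, 0), (0, 0), (0, 0)), ((0, 0), (0, 0), (0, 0)), ((0, 0), (0, 0), (0, 0))) = true := by decide +kernel
    rw [toM_congr this]
    ext i j
    fin_cases i <;> fin_cases j <;> simp [toM, toV, ev]
  have hN2 : (N * N) *ᵥ Pi.single 0 1 ≠ 0 := by
    intro h0
    have h3 := congrFun h0 0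
    rw [hNm, ← toM_mm hg, Matrix.mulVec_single_one] at h3
    have h4 : toM θ (mm c5 (((0, 2), (0, 0), (1, 2)), ((2, 0), (3, 3), (3, 0)), ((2, 0), (1, 2), (2, 0)))
      (((0, 2), (0, 0), (1, 2)), ((2, 0), (3, 3), (3, 0)), ((2, 0), (1, 2), (2, 0)))) 0 0 = 0 := h3
    have h5 : meq (mm c5 (((0, 2), (0, 0), (1, 2)), ((2, 0), (3, 3), (3, 0)), ((2, 0), (1, 2), (2, 0)))
      (((0, 2), (0, 0), (1, 2)), ((2, 0), (3, 3), (3, 0)), ((2, 0), (1, 2), (2, 0))))
      (((3, 0), (2, 0), (3, 2)), ((2, 0), (3, 0), (2, 3)), ((1, 3), (4, 2), (4, 0))) = true := by decide +kernel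
    rw [toM_congr h5] at h4
    have h6 : ev θ ((3, 0) : Mdl.K) = 0 := h4
    rw [← ev_zero hg] at h6
    exact kne_ne hg (x := (3, 0)) (y := (0, 0)) (by decide) h6
  obtain ⟨a, ha⟩ := det_of_comm hN3 hN2 hCN
  have h3 := det_pow_two hF hCG ha
  apply hde
  rw [← hdet, mul_pow, h3, mul_one]

theorem irr_X {d : GL (Fin 3) F} : Irr ((X0 θ).map (MulAut.conj d).toMonoidHom) := by
  intro W hW
  obtain ⟨y, hy, hyo⟩ := exists_my hg hF
  have h1 : orderOf (MulAut.conj d y) = 7 := by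
    rw [← hyo]
    exact orderOf_injective (MulAut.conj d).toMonoidHom (MulAut.conj d).injective y
  refine Cfsg.Agent.H915.irr_of_prime_order (by norm_num) h1 (by rw [hF]; norm_num) ?_ (hW _ ⟨y, hy, rfl⟩)
  intro i hi hi3
  rw [Fintype.card_fin] at hi3
  rw [hF]
  interval_cases i <;> norm_num

theorem X_ne {d : GL (Fin 3) F} (hd : d ∈ Cfsg.GU 3 F 5) :
    (X0 θ).map (MulAut.conj d).toMonoidHom ≤ SUg 3 F 5 ∧ (X0 θ).map (MulAut.conj d).toMonoidHom ≠ SUg 3 F 5 := by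
  have h1 : (X0 θ).map (MulAut.conj d).toMonoidHom ≤ SUg 3 F 5 := by
    rintro _ ⟨x, hx, rfl⟩
    exact conj_mem_SUg hF (GU_le_similarityGroup hF hd) hx.2
  refine ⟨h1, fun h => ?_⟩
  have h2 : Nat.card (X0 θ) = Nat.card (SUg 3 F 5) := by rw [← h, card_map_conj]
  have h3 : X0 θ = SUg 3 F 5 := Subgroup.eq_of_le_of_card_ge inf_le_right h2.ge
  obtain ⟨g, hgS, hgX⟩ := exists_not_mem hg hF
  rw [← h3] at hgS
  exact hgX hgS.1

omit hg in
theorem exists_dg {w : F} (hw : w ^ 6 = 1) :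
    ∃ g ∈ Cfsg.GU 3 F 5, (g : Matrix (Fin 3) (Fin 3) F) = Matrix.diagonal ![w, 1, 1] := by
  have hw5 : w ^ 5 * w = 1 := by rw [← pow_succ, hw]
  have h : ct 5 (Matrix.diagonal ![w, 1, 1]) * Matrix.diagonal ![w, 1, 1] = 1 := by
    ext i j
    fin_cases i <;> fin_cases j <;> simp [ct, Matrix.diagonal_apply, hw5]
  have h' := mul_eq_one_comm.1 h
  exact ⟨⟨_, _, h', h⟩, (mem_GU_iff_ct hF).2 h, rfl⟩

end seven

/-- a singular and a nonsingular point -/
theorem exists_points {F : Type*} [Field F] [Fintype F] {q : ℕ} (hF : Fintype.card F = q ^ 2) :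
    ∃ W₁ W₂ : Submodule F (Fin 3 → F), W₁ ≠ ⊥ ∧ W₁ ≠ ⊤ ∧ IsTotallySingularFor (hermForm 3 F q) W₁ ∧ W₂ ≠ ⊥ ∧ W₂ ≠ ⊤ ∧
      IsNondegenerateOn (hermForm 3 F q) W₂ ∧ 2 * Module.finrank F W₂ < 3 ∧
      ∃ t ∈ subspaceStabilizer W₂ ⊓ SUg 3 F q, ∃ δ : Fin 3 → F, Function.Injective δ ∧
        (t : Matrix (Fin 3) (Fin 3) F) = Matrix.diagonal δ := by
  obtain ⟨W₁, hW1, hW1', hW1s⟩ := exists_sing hF
  have hq2 := two_le hF
  have hDec := frame_decomp hF (Subgroup.one_mem (Cfsg.GU 3 F q))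
  obtain ⟨D, hD⟩ : ∃ D : Fin 3 → Submodule F (Fin 3 → F), D = fun i => F ∙ (((1 : GL (Fin 3) F) :
    Matrix (Fin 3) (Fin 3) F) *ᵥ Pi.single i 1) := ⟨_, rfl⟩
  rw [← hD] at hDec
  obtain ⟨W₂, hW2d⟩ : ∃ W₂, W₂ = D 0 := ⟨_, rfl⟩
  have hW2r : Module.finrank F W₂ = 1 := by rw [hW2d]; exact hDec.decomp.finrank_eq 0
  have hW2 : W₂ ≠ ⊥ := by
    rintro rfl
    rw [finrank_bot] at hW2r
    exact zero_ne_one hW2r
  have hW2' : W₂ ≠ ⊤ := by
    rintro rfl
    rw [finrank_top] at hW2r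
    simp at hW2r
  have hW2s : IsNondegenerateOn (hermForm 3 F q) W₂ := by rw [hW2d]; exact hDec.nondegenerate 0
  have hW2f : 2 * Module.finrank F W₂ < 3 := by omega
  -- elements of the torus
  obtain ⟨ζ, hζ⟩ := exists_orderOf_eq hF
  have hζ0 : ζ ≠ 0 := by
    rintro rfl
    rw [orderOf_zero F] at hζ
    omega
  have hζq : ζ ^ (q + 1) = 1 := by rw [← hζ]; exact pow_orderOf_eq_one ζ
  obtain ⟨t, htS, ht⟩ := exists_diag hF (a := 1) (b := ζ) (c := ζ⁻¹) (one_pow _) hζq (by rw [inv_pow, hζq, inv_one])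
    (by rw [one_mul, mul_inv_cancel₀ hζ0])
  have hζ1 : ζ ≠ 1 := by
    intro h
    rw [h, orderOf_one] at hζ
    omega
  have hζ2 : ζ ≠ ζ⁻¹ := by
    intro h
    have h1 : ζ ^ 2 = 1 := by rw [sq]; nth_rewrite 2 [h]; exact mul_inv_cancel₀ hζ0
    have h2 := Nat.le_of_dvd (by norm_num) (orderOf_dvd_of_pow_eq_one h1)
    omega
  have hinj : Function.Injective ![(1 : F), ζ, ζ⁻¹] := by
    intro i j hij
    have h1 : (1 : F) ≠ ζ⁻¹ := fun h => hζ1 (by rw [← inv_inv ζ, ← h, inv_one])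
    fin_cases i <;> fin_cases j <;> simp at hij ⊢
    · exact hζ1 hij.symm
    · exact h1 (by rw [hij]; simp)
    · exact hζ1 hij
    · exact hζ2 hij
    · exact h1 (by rw [hij]; simp)
    · exact hζ2 hij.symm
  have ht1 : (t : Matrix (Fin 3) (Fin 3) F) *ᵥ Pi.single 0 1 = Pi.single 0 1 := by
    rw [ht]
    ext j
    rw [Matrix.mulVec_diagonal]
    fin_cases j <;> simp
  refine ⟨W₁, W₂, hW1, hW1', hW1s, hW2, hW2', hW2s, hW2f, t, ⟨?_, htS⟩, _, hinj, ht⟩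
  have hW : W₂ = F ∙ (Pi.single 0 1 : Fin 3 → F) := by
    rw [hW2d, hD]
    show F ∙ (((1 : GL (Fin 3) F) : Matrix (Fin 3) (Fin 3) F) *ᵥ Pi.single 0 1) = _
    rw [Units.val_one, Matrix.one_mulVec]
  have hfix : ∀ w ∈ W₂, (t : Matrix (Fin 3) (Fin 3) F) *ᵥ w = w := by
    intro w hw
    rw [hW] at hw
    obtain ⟨a, rfl⟩ := Submodule.mem_span_singleton.1 hw
    rw [Matrix.mulVec_smul, ht1]
  intro v
  constructor
  · intro hv
    have h1 : (t : Matrix (Fin 3) (Fin 3) F) *ᵥ v ∈ W₂ := by rw [hfix v hv]; exact hv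
    exact h1
  · intro hv
    have hv' : (t : Matrix (Fin 3) (Fin 3) F) *ᵥ v ∈ W₂ := hv
    have h1 := hfix _ hv'
    have h3 : (t : Matrix (Fin 3) (Fin 3) F) *ᵥ v = v := by
      have h4 := congrArg (fun u => ((t⁻¹ : GL (Fin 3) F) : Matrix (Fin 3) (Fin 3) F) *ᵥ u) h1
      simp only [Matrix.mulVec_mulVec, ← Units.val_mul, inv_mul_cancel_left, inv_mul_cancel, Units.val_one,
        Matrix.one_mulVec] at h4
      exact h4
    rw [← h3]; exact hv'

/-- **`PSU₃(5)`** -/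
theorem sep_q5 {F : Type*} [Field F] [Fintype F] (hF : Fintype.card F = 5 ^ 2) (hG : Geom F 5) :
    Sep 5 (PSU 3 F 5) := by
  obtain ⟨θ, hg⟩ := exists_good5 hF
  obtain ⟨W₁, W₂, hW1, hW1', hW1s, hW2, hW2', hW2s, hW2f, t, ht, δ, hδ, htδ⟩ := exists_points hF
  obtain ⟨w, hw⟩ := exists_orderOf_eq hF
  have hw6 : w ^ 6 = 1 := by
    have := pow_orderOf_eq_one w
    rwa [hw] at this
  have hwi : ∀ i : ℕ, (w ^ i) ^ 6 = 1 := fun i => by rw [← pow_mul, mul_comm, pow_mul, hw6, one_pow]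
  choose d hd hdw using fun i : ℕ => exists_dg hF (hwi i)
  have hdet : ∀ i, (d i : Matrix (Fin 3) (Fin 3) F).det ^ 2 = w ^ (2 * i) := by
    intro i
    rw [hdw, Matrix.det_diagonal, Fin.prod_univ_three]
    simp
    rw [← pow_mul, mul_comm]
  have hne : ∀ i j : ℕ, i < 3 → j < 3 → i ≠ j →
      (d i : Matrix (Fin 3) (Fin 3) F).det ^ 2 ≠ (d j : Matrix (Fin 3) (Fin 3) F).det ^ 2 := by
    intro i j hi hj hij h
    rw [hdet, hdet] at h
    have h1 := pow_injOn_Iio_orderOf (x := w) (by rw [Set.mem_Iio, hw]; omega) (by rw [Set.mem_Iio, hw]; omega) h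
    omega
  have hA := hG.sing W₁ hW1 hW1s
  have hB := hG.nons W₂ hW2 hW2s hW2f
  have hX : ∀ i, (X0 θ).map (MulAut.conj (d i)).toMonoidHom ≤ SUg 3 F 5 ∧
      (X0 θ).map (MulAut.conj (d i)).toMonoidHom ≠ SUg 3 F 5 := fun i => X_ne hg hF (hd i)
  have hirr : ∀ i, Irr ((X0 θ).map (MulAut.conj (d i)).toMonoidHom) := fun i => irr_X hg hF
  refine sep_psu_five hF le_rfl (fun h => by omega) (A := subspaceStabilizer W₁ ⊓ SUg 3 F 5)
    (B := subspaceStabilizer W₂ ⊓ SUg 3 F 5) (C := (X0 θ).map (MulAut.conj (d 0)).toMonoidHom)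
    (D := (X0 θ).map (MulAut.conj (d 1)).toMonoidHom) (E := (X0 θ).map (MulAut.conj (d 2)).toMonoidHom)
    inf_le_right inf_le_right (hX 0).1 (hX 1).1 (hX 2).1 hA.1.ne hB.1.ne (hX 0).2 (hX 1).2 (hX 2).2
    ?_ ?_ ?_ ?_ ?_ ?_ ?_ (apart_X hg hF (hd 0) (hd 1) (hne 0 1 (by norm_num) (by norm_num) (by norm_num)))
    (apart_X hg hF (hd 0) (hd 2) (hne 0 2 (by norm_num) (by norm_num) (by norm_num)))
    (apart_X hg hF (hd 1) (hd 2) (hne 1 2 (by norm_num) (by norm_num) (by norm_num)))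
  · exact apartIn_of_max hA fun g hg' => exists_not_mem_of_diag hF ht hδ htδ hW1 hW1s hg'.1
  · exact apartIn_of_max hA fun g _ => exists_not_mem_of_irr (hirr 0) hW1 hW1' g
  · exact apartIn_of_max hA fun g _ => exists_not_mem_of_irr (hirr 1) hW1 hW1' g
  · exact apartIn_of_max hA fun g _ => exists_not_mem_of_irr (hirr 2) hW1 hW1' g
  · exact apartIn_of_max hB fun g _ => exists_not_mem_of_irr (hirr 0) hW2 hW2' g
  · exact apartIn_of_max hB fun g _ => exists_not_mem_of_irr (hirr 1) hW2 hW2' g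
  · exact apartIn_of_max hB fun g _ => exists_not_mem_of_irr (hirr 2) hW2 hW2' g

/-- **`PSU₃(q)` has at least five classes of maximal subgroups**, from S5777. -/
theorem psu3_five_of {F : Type*} [Field F] [Fintype F] {q : ℕ} (hG : Geom F q) (hF : Fintype.card F = q ^ 2)
    (hq : 4 ≤ q) (h : ¬ ∃ m : ℕ, 1 ≤ m ∧ q = 2 ^ (2 ^ m)) : Sep 5 (PSU 3 F q) := by
  by_cases h5 : q = 5
  · subst h5
    exact sep_q5 hF hG
  · by_cases ho : Odd q
    · refine sep_odd hF hG ho ?_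
      rcases ho with ⟨k, rfl⟩
      omega
    · exact sep_even hF hG ho hq h

end Cfsg.Agent.H950.MC
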