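import Mathlib
import Cfsg.Agent.H950.MCThreeA
import Cfsg.Agent.H905.SLProper
import Cfsg.Agent.S5778
import Cfsg.Agent.S5779

/-!
# `PSU₃(3)` has exactly four classes of maximal subgroups (helper950, for S5906, S5907)
-/

set_option autoImplicit false
set_option linter.unusedSectionVars false

namespace Cfsg.Agent.H950.MC

open Cfsg Cfsg.Geo Matrix Cfsg.Agent.H918 Cfsg.Agent.LieClassical.HermBasic Cfsg.Agent.H907 Cfsg.Agent.H907.SU3
  Cfsg.Agent.H907.Mx Cfsg.Agent.H914 Cfsg.Agent.H940.MaxCls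
open scoped MatrixGroups

/-! ### The group `L = SL₃(2)` -/

section L

open Cfsg.Agent.H856.U3 (L X T C)

theorem card_top_L : Nat.card (⊤ : Subgroup L) = 168 := by
  rw [Subgroup.card_top]
  exact Cfsg.Agent.H856.U3.card_L

theorem L_seven (a : L) (ha : orderOf a = 7) : ∃ b : L, b * a * b⁻¹ = a ^ 2 := by
  obtain ⟨s, -, hs⟩ := exists_conj_of_card (S := (⊤ : Subgroup L)) (A := Subgroup.zpowers a)
    (B := Subgroup.zpowers (C * X)) (r := 7) (k := 1) (by norm_num) le_top le_top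
    (by rw [Nat.card_zpowers, ha, pow_one]) (by rw [Nat.card_zpowers, Cfsg.Agent.H856.U3.orderOf_Y, pow_one])
    (by rw [card_top_L]; norm_num)
  obtain ⟨k, hk⟩ := mem_powers_iff_mem_zpowers.2 (hs a (Subgroup.mem_zpowers a))
  have hk' : (C * X) ^ k = s * a * s⁻¹ := hk
  refine ⟨s⁻¹ * X * s, ?_⟩
  have h1 : X * (C * X) * X⁻¹ = (C * X) ^ 2 := by rw [Cfsg.Agent.H856.U3.X_Y, mul_inv_cancel_right]
  have h2 : X * (C * X) ^ k * X⁻¹ = ((C * X) ^ k) ^ 2 := by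
    rw [← conj_pow, h1, ← pow_mul, ← pow_mul, mul_comm]
  rw [hk'] at h2
  calc s⁻¹ * X * s * a * (s⁻¹ * X * s)⁻¹ = s⁻¹ * (X * (s * a * s⁻¹) * X⁻¹) * s := by group
    _ = s⁻¹ * (s * a * s⁻¹) ^ 2 * s := by rw [h2]
    _ = a ^ 2 := by rw [conj_pow]; group

theorem orderOf_C : orderOf C = 3 := by
  have : Fact (Nat.Prime 3) := ⟨by norm_num⟩
  exact orderOf_eq_prime (by rw [pow_succ, sq]; exact Cfsg.Agent.H856.U3.C_cube) Cfsg.Agent.H856.U3.C_ne

theorem L_three (b : L) (hb : orderOf b = 3) : ∃ t : L, t * t = 1 ∧ t ≠ 1 ∧ t * b * t⁻¹ = b⁻¹ := by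
  obtain ⟨s, -, hs⟩ := exists_conj_of_card (S := (⊤ : Subgroup L)) (A := Subgroup.zpowers b)
    (B := Subgroup.zpowers C) (r := 3) (k := 1) (by norm_num) le_top le_top
    (by rw [Nat.card_zpowers, hb, pow_one]) (by rw [Nat.card_zpowers, orderOf_C, pow_one])
    (by rw [card_top_L]; norm_num)
  obtain ⟨k, hk⟩ := mem_powers_iff_mem_zpowers.2 (hs b (Subgroup.mem_zpowers b))
  have hk' : C ^ k = s * b * s⁻¹ := hk
  have hT2 := Cfsg.Agent.H856.U3.T_sq
  have hTi : T⁻¹ = T := inv_eq_of_mul_eq_one_left hT2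
  have hTC : T * C * T⁻¹ = C⁻¹ := by
    rw [hTi, Cfsg.Agent.H856.U3.T_C]
    exact eq_inv_of_mul_eq_one_left Cfsg.Agent.H856.U3.C_cube
  have h2 : T * C ^ k * T⁻¹ = (C ^ k)⁻¹ := by
    rw [← conj_pow, hTC, inv_pow]
  rw [hk'] at h2
  refine ⟨s⁻¹ * T * s, ?_, ?_, ?_⟩
  · calc s⁻¹ * T * s * (s⁻¹ * T * s) = s⁻¹ * (T * T) * s := by group
      _ = 1 := by rw [hT2]; group
  · intro h
    have h3 : T = 1 := by
      calc T = s * (s⁻¹ * T * s) * s⁻¹ := by group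
        _ = 1 := by rw [h]; group
    have h4 := Cfsg.Agent.H856.U3.T_C
    rw [h3, one_mul, mul_one] at h4
    have h5 : C * 1 = C * C := by rw [mul_one]; exact h4
    exact Cfsg.Agent.H856.U3.C_ne (mul_left_cancel h5).symm
  · calc s⁻¹ * T * s * b * (s⁻¹ * T * s)⁻¹ = s⁻¹ * (T * (s * b * s⁻¹) * T⁻¹) * s := by group
      _ = s⁻¹ * (s * b * s⁻¹)⁻¹ * s := by rw [h2]
      _ = b⁻¹ := by group

theorem L_top [IsSimpleGroup L] (Q : Subgroup L) {a b t : L} (ha : a ∈ Q) (hb : b ∈ Q) (ht : t ∈ Q)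
    (hao : orderOf a = 7) (hbo : orderOf b = 3) (hto : orderOf t = 2) : Q = ⊤ := by
  by_contra hne
  have h1 := card_dvd_factorial hne
  rw [Cfsg.Agent.H856.U3.card_L] at h1
  have d7 : 7 ∣ Nat.card Q := Cfsg.Agent.H856.U3.dvd_card ha hao
  have d3 : 3 ∣ Nat.card Q := Cfsg.Agent.H856.U3.dvd_card hb hbo
  have d2 : 2 ∣ Nat.card Q := Cfsg.Agent.H856.U3.dvd_card ht hto
  have h6 : 2 * 3 ∣ Nat.card Q := Nat.Coprime.mul_dvd_of_dvd_of_dvd (by norm_num) d2 d3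
  have h42 : 2 * 3 * 7 ∣ Nat.card Q := Nat.Coprime.mul_dvd_of_dvd_of_dvd (by norm_num) h6 d7
  have hidx := Q.card_mul_index
  rw [Cfsg.Agent.H856.U3.card_L] at hidx
  obtain ⟨k, hk⟩ := h42
  rw [hk] at hidx
  have h2 : k * Q.index = 4 := by
    have : 42 * (k * Q.index) = 42 * 4 := by rw [← mul_assoc]; exact hidx
    exact Nat.eq_of_mul_eq_mul_left (by norm_num) this
  have h3 : Q.index ≤ 4 := Nat.le_of_dvd (by norm_num) (Dvd.intro_left k h2)
  have h4 : Q.index.factorial ∣ 24 := by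
    have : Q.index.factorial ∣ (4).factorial := Nat.factorial_dvd_factorial h3
    simpa [Nat.factorial] using this
  have h5 := Nat.le_of_dvd (by norm_num) (h1.trans h4)
  omega

end L

section three

open Cfsg.Agent.H856.U3 (L)

variable {F : Type*} [Field F] [Fintype F] (hF : Fintype.card F = 3 ^ 2)
include hF

theorem le_of_common [IsSimpleGroup L] {P P' : Subgroup (GL (Fin 3) F)} (e : L ≃* P) (e' : L ≃* P')
    (hP : P ≤ SUg 3 F 3) (hP' : P' ≤ SUg 3 F 3) {a : GL (Fin 3) F} (ha : a ∈ P) (ha' : a ∈ P') (hao : orderOf a = 7) :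
    P ≤ P' := by
  -- transfer of the facts on `L`
  have hseven : ∀ {P : Subgroup (GL (Fin 3) F)} (_ : L ≃* P) {a : GL (Fin 3) F}, a ∈ P → orderOf a = 7 →
      ∃ b ∈ P, b * a * b⁻¹ = a ^ 2 := by
    intro P e a ha hao
    obtain ⟨b, hb⟩ := L_seven (e.symm ⟨a, ha⟩) (by rw [e.symm.orderOf_eq, Subgroup.orderOf_mk, hao])
    refine ⟨e b, (e b).2, ?_⟩
    have h1 := congrArg (fun x => ((e x : P) : GL (Fin 3) F)) hb
    simpa using h1
  have hthree : ∀ {P : Subgroup (GL (Fin 3) F)} (_ : L ≃* P) {b : GL (Fin 3) F}, b ∈ P → orderOf b = 3 →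
      ∃ t ∈ P, t * t = 1 ∧ t ≠ 1 ∧ t * b * t⁻¹ = b⁻¹ := by
    intro P e b hb hbo
    obtain ⟨t, ht1, ht2, ht3⟩ := L_three (e.symm ⟨b, hb⟩) (by rw [e.symm.orderOf_eq, Subgroup.orderOf_mk, hbo])
    refine ⟨e t, (e t).2, ?_, ?_, ?_⟩
    · have h1 := congrArg (fun x => ((e x : P) : GL (Fin 3) F)) ht1
      simpa using h1
    · intro h
      apply ht2
      apply e.injective
      rw [map_one]
      exact Subtype.ext h
    · have h1 := congrArg (fun x => ((e x : P) : GL (Fin 3) F)) ht3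
      simpa using h1
  obtain ⟨b, hb, hab⟩ := hseven e ha hao
  obtain ⟨b', hb', hab'⟩ := hseven e' ha' hao
  have haS := hP ha
  obtain ⟨hb3, hb1⟩ := order_three hF haS hao (hP hb) hab
  have hbo : orderOf b = 3 := by
    have : Fact (Nat.Prime 3) := ⟨by norm_num⟩
    exact orderOf_eq_prime hb3 hb1
  -- `b ∈ P'`
  have hbP' : b ∈ P' := by
    have h1 : (b'⁻¹ * b) * a = a * (b'⁻¹ * b) := by
      have h2 : b * a = a ^ 2 * b := by rw [← hab]; group
      have h3 : b'⁻¹ * a ^ 2 = a * b'⁻¹ := by rw [← hab']; group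
      rw [mul_assoc, h2, ← mul_assoc, h3, mul_assoc]
    have h2 := cent_seven hF haS hao ((SUg 3 F 3).mul_mem ((SUg 3 F 3).inv_mem (hP' hb')) (hP hb)) h1
    have h3 : b'⁻¹ * b ∈ P' := (Subgroup.zpowers_le.2 ha') h2
    have h4 : b = b' * (b'⁻¹ * b) := by group
    rw [h4]
    exact P'.mul_mem hb' h3
  obtain ⟨t, htP, ht2, ht1, ht⟩ := hthree e hb hbo
  obtain ⟨t', htP', ht2', ht1', ht'⟩ := hthree e' hbP' hbo
  have hreg := sq_ne_zero hab (irr_seven hF hao)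
  have h5 := inv_of_inverting hF hb3 hreg (hP hb) (hP htP) (hP' htP') ht2 ht2' ht ht'
  have htP'' : t' ∈ P := by
    have h6 : t' * t ∈ P := (Subgroup.zpowers_le.2 hb) h5
    have h7 : t' = t' * t * t := by rw [mul_assoc, ht2, mul_one]
    rw [h7]
    exact P.mul_mem h6 htP
  -- the intersection
  have h8 : (P'.comap (P.subtype.comp e.toMonoidHom)) = ⊤ := by
    refine L_top _ (a := e.symm ⟨a, ha⟩) (b := e.symm ⟨b, hb⟩) (t := e.symm ⟨t', htP''⟩) ?_ ?_ ?_ ?_ ?_ ?_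
    · show ((e (e.symm ⟨a, ha⟩) : P) : GL (Fin 3) F) ∈ P'
      rw [MulEquiv.apply_symm_apply]
      exact ha'
    · show ((e (e.symm ⟨b, hb⟩) : P) : GL (Fin 3) F) ∈ P'
      rw [MulEquiv.apply_symm_apply]
      exact hbP'
    · show ((e (e.symm ⟨t', htP''⟩) : P) : GL (Fin 3) F) ∈ P'
      rw [MulEquiv.apply_symm_apply]
      exact htP'
    · rw [e.symm.orderOf_eq, Subgroup.orderOf_mk, hao]
    · rw [e.symm.orderOf_eq, Subgroup.orderOf_mk, hbo]
    · rw [e.symm.orderOf_eq, Subgroup.orderOf_mk]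
      exact orderOf_eq_prime (by rw [sq]; exact ht2') ht1'
  intro x hx
  have h9 : e.symm ⟨x, hx⟩ ∈ (P'.comap (P.subtype.comp e.toMonoidHom)) := by rw [h8]; exact Subgroup.mem_top _
  have h10 : ((e (e.symm ⟨x, hx⟩) : P) : GL (Fin 3) F) ∈ P' := h9
  rwa [MulEquiv.apply_symm_apply] at h10

/-- the residual groups are conjugate -/
theorem conj_resid [IsSimpleGroup L] {H H' P P' : Subgroup (GL (Fin 3) F)} (hH : IsMaximalIn (SUg 3 F 3) H)
    (hH' : IsMaximalIn (SUg 3 F 3) H') (hc : IsResidualCore H P) (hc' : IsResidualCore H' P')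
    (e : L ≃* P) (e' : L ≃* P') : ∃ g ∈ SUg 3 F 3, ∀ x ∈ H, g * x * g⁻¹ ∈ H' := by
  have hPS : P ≤ SUg 3 F 3 := hc.le.trans hH.1.le
  have hPS' : P' ≤ SUg 3 F 3 := hc'.le.trans hH'.1.le
  have hY := Cfsg.Agent.H856.U3.orderOf_Y
  obtain ⟨Y, hYdef⟩ : ∃ Y : L, orderOf Y = 7 := ⟨_, hY⟩
  have hYo : orderOf ((e Y : P) : GL (Fin 3) F) = 7 := by rw [Subgroup.orderOf_coe, e.orderOf_eq, hYdef]
  have hYo' : orderOf ((e' Y : P') : GL (Fin 3) F) = 7 := by rw [Subgroup.orderOf_coe, e'.orderOf_eq, hYdef]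
  have hcS : Nat.card (SUg 3 F 3) = 6048 := by
    rw [card_SUg hF]
    norm_num
  obtain ⟨s, hsS, hs⟩ := exists_conj_of_card (S := SUg 3 F 3) (A := Subgroup.zpowers ((e Y : P) : GL (Fin 3) F))
    (B := Subgroup.zpowers ((e' Y : P') : GL (Fin 3) F)) (r := 7) (k := 1) (by norm_num)
    (Subgroup.zpowers_le.2 (hPS (e Y).2)) (Subgroup.zpowers_le.2 (hPS' (e' Y).2))
    (by rw [Nat.card_zpowers, hYo, pow_one]) (by rw [Nat.card_zpowers, hYo', pow_one]) (by rw [hcS]; norm_num)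
  obtain ⟨a, hadef⟩ : ∃ a, a = s * ((e Y : P) : GL (Fin 3) F) * s⁻¹ := ⟨_, rfl⟩
  have hao : orderOf a = 7 := by
    rw [hadef, ← hYo]
    exact orderOf_injective (MulAut.conj s).toMonoidHom (MulAut.conj s).injective _
  have haP' : a ∈ P' := by
    have h1 := hs _ (Subgroup.mem_zpowers _)
    rw [hadef]
    exact (Subgroup.zpowers_le.2 (e' Y).2) h1
  obtain ⟨P₁, hP₁⟩ : ∃ P₁, P₁ = P.map (MulAut.conj s).toMonoidHom := ⟨_, rfl⟩
  have haP₁ : a ∈ P₁ := by rw [hP₁, hadef]; exact ⟨_, (e Y).2, rfl⟩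
  have hP₁S : P₁ ≤ SUg 3 F 3 := by
    rw [hP₁]
    rintro _ ⟨x, hx, rfl⟩
    exact (SUg 3 F 3).mul_mem ((SUg 3 F 3).mul_mem hsS (hPS hx)) ((SUg 3 F 3).inv_mem hsS)
  let e₁ : L ≃* P₁ := e.trans ((P.equivMapOfInjective (MulAut.conj s).toMonoidHom (MulAut.conj s).injective).trans
    (MulEquiv.subgroupCongr hP₁.symm))
  have h1 : P₁ = P' := le_antisymm (le_of_common hF e₁ e' hP₁S hPS' haP₁ haP' hao)
    (le_of_common hF e' e₁ hPS' hP₁S haP' haP₁ hao)
  have hmem : ∀ p ∈ P, s * p * s⁻¹ ∈ P' := by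
    intro p hp
    rw [← h1, hP₁]
    exact ⟨p, hp, rfl⟩
  have hmem' : ∀ p ∈ P', ∃ p₀ ∈ P, s * p₀ * s⁻¹ = p := by
    intro p hp
    rw [← h1, hP₁] at hp
    obtain ⟨p₀, hp₀, rfl⟩ := hp
    exact ⟨p₀, hp₀, rfl⟩
  refine ⟨s, hsS, fun x hx => ?_⟩
  -- the normaliser of `P'`
  obtain ⟨N, hN⟩ : ∃ N : Subgroup (GL (Fin 3) F), N = Subgroup.normalizer ((P' : Subgroup (GL (Fin 3) F)) : Set (GL (Fin 3) F)) ⊓
    SUg 3 F 3 := ⟨_, rfl⟩
  have hxN : ∀ (Q K : Subgroup (GL (Fin 3) F)), (∀ h ∈ K, ∀ y ∈ Q, h * y * h⁻¹ ∈ Q) →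
      K ≤ Subgroup.normalizer ((Q : Subgroup (GL (Fin 3) F)) : Set (GL (Fin 3) F)) := by
    intro Q K hQ h hh
    rw [Subgroup.mem_normalizer_iff]
    intro y
    constructor
    · exact hQ h hh y
    · intro hy
      have h2 := hQ h⁻¹ (K.inv_mem hh) _ hy
      have h3 : h⁻¹ * (h * y * h⁻¹) * h⁻¹⁻¹ = y := by group
      rw [h3] at h2
      exact h2
  have hH'N : H' ≤ N := by
    rw [hN]
    exact le_inf (hxN _ _ hc'.normal) hH'.1.le
  have hNS : N ≤ SUg 3 F 3 := by rw [hN]; exact inf_le_right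
  have hNH : N = H' := by
    rcases hH'.2 N hH'N hNS with h | h
    · exact h
    · exfalso
      rcases SUg_normal (F := F) (q := 3) (n := 3) hF (by norm_num) (by norm_num) hPS' (fun g hg y hy => by
        rw [← h, hN] at hg
        have := (Subgroup.mem_normalizer_iff.1 hg.1 y).1 hy
        exact this) with h2 | h2
      · apply hc'.nonabelian
        have htop : (scalars (Fin 3) F).subgroupOf P' = ⊤ := Subgroup.subgroupOf_eq_top.2 h2
        have : Subsingleton (P' ⧸ (scalars (Fin 3) F).subgroupOf P') := by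
          rw [htop]
          exact QuotientGroup.subsingleton_quotient_top
        exact ⟨⟨fun a b => Subsingleton.elim _ _⟩⟩
      · have h3 := hc'.le.trans_lt hH'.1
        exact h3.ne h2
  rw [← hNH, hN]
  refine ⟨?_, (SUg 3 F 3).mul_mem ((SUg 3 F 3).mul_mem hsS (hH.1.le hx)) ((SUg 3 F 3).inv_mem hsS)⟩
  have h4 : ∀ h ∈ H.map (MulAut.conj s).toMonoidHom, ∀ y ∈ P', h * y * h⁻¹ ∈ P' := by
    rintro _ ⟨h, hh, rfl⟩ y hy
    obtain ⟨p₀, hp₀, rfl⟩ := hmem' y hy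
    have h5 := hmem _ (hc.normal h hh p₀ hp₀)
    have h6 : (MulAut.conj s).toMonoidHom h * (s * p₀ * s⁻¹) * ((MulAut.conj s).toMonoidHom h)⁻¹ =
        s * (h * p₀ * h⁻¹) * s⁻¹ := by
      show (s * h * s⁻¹) * (s * p₀ * s⁻¹) * (s * h * s⁻¹)⁻¹ = _
      group
    rw [h6]
    exact h5
  exact hxN _ _ h4 ⟨x, hx, rfl⟩

/-- **`PSU₃(3)`** -/
theorem psu3_three_of (hG : Geom F 3) : Cls 4 (PSU 3 F 3) := by
  have hcS : Nat.card (SUg 3 F 3) = 6048 := by rw [card_SUg hF]; norm_num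
  have : Fact (Nat.Prime 7) := ⟨by norm_num⟩
  obtain ⟨⟨x, hxS⟩, hxo⟩ := exists_prime_orderOf_dvd_card' (G := SUg 3 F 3) 7 (by rw [hcS]; norm_num)
  rw [Subgroup.orderOf_mk] at hxo
  have hxirr := irr_seven hF hxo
  -- a maximal subgroup containing `x`
  have hlt : Subgroup.zpowers x < SUg 3 F 3 := by
    refine lt_of_le_of_ne (Subgroup.zpowers_le.2 hxS) fun h => ?_
    have h1 := Nat.card_zpowers x
    rw [h, hcS, hxo] at h1
    norm_num at h1
  obtain ⟨E, hE, hxE⟩ := Cfsg.Agent.H905.exists_isMaximalIn_of_lt hlt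
  have hxE' : x ∈ E := hxE (Subgroup.mem_zpowers x)
  -- the list of the maximal subgroups
  have hlist : ∀ H, IsMaximalIn (SUg 3 F 3) H →
      (∃ W : Submodule F (Fin 3 → F), W ≠ ⊥ ∧ IsTotallySingularFor (hermForm 3 F 3) W ∧
        H = subspaceStabilizer W ⊓ SUg 3 F 3) ∨
      (∃ W : Submodule F (Fin 3 → F), W ≠ ⊥ ∧ IsNondegenerateOn (hermForm 3 F 3) W ∧ 2 * Module.finrank F W < 3 ∧
        H = subspaceStabilizer W ⊓ SUg 3 F 3) ∨
      (∃ D : Fin 3 → Submodule F (Fin 3 → F), IsNondegenerateMDecomposition (hermForm 3 F 3) 1 D ∧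
        H = decompositionStabilizer D ⊓ SUg 3 F 3) ∨
      (∃ P : Subgroup (GL (Fin 3) F), IsResidualCore H P ∧ IsSimpleGroup L ∧ Nonempty (L ≃* P)) := by
    intro H hH
    rcases Cfsg.Agent.S5778.result 3 hF le_rfl H hH with h | h | h | h | h | h | h | h
    · exact Or.inl h
    · exact Or.inr (Or.inl h)
    · exact Or.inr (Or.inr (Or.inl h.2))
    · exact absurd rfl h.1
    · exfalso
      obtain ⟨F₀, r, P, hr, hro, hcard, -, -⟩ := h
      rw [hF] at hcard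
      have hr3 : 3 ≤ r := by
        have := hr.two_le
        rcases hro with ⟨k, rfl⟩
        omega
      have h9 : 3 ≤ Nat.card F₀ → False := by
        intro h3
        have h4 : 3 ^ 3 ≤ Nat.card F₀ ^ r := (Nat.pow_le_pow_left h3 3).trans (Nat.pow_le_pow_right (by omega) hr3)
        rw [← hcard] at h4
        norm_num at h4
      rcases Nat.lt_or_ge (Nat.card F₀) 3 with h3 | h3
      · have h5 : Nat.card F₀ = 0 ∨ Nat.card F₀ = 1 ∨ Nat.card F₀ = 2 := by omega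
        rcases h5 with h5 | h5 | h5
        · rw [h5, zero_pow hr.ne_zero] at hcard
          norm_num at hcard
        · rw [h5, one_pow] at hcard
          norm_num at hcard
        · rw [h5] at hcard
          have h6 : 2 ∣ 3 ^ 2 := by rw [hcard]; exact dvd_pow_self 2 hr.ne_zero
          norm_num at h6
      · exact h9 h3
    · exact absurd h.2.1 (by norm_num)
    · obtain ⟨p, R, hp, hqp, -, h11, -⟩ := h
      omega
    · obtain ⟨P, hcore, -, hP⟩ := Cfsg.Agent.S5779.result 3 hF le_rfl H hH h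
      rcases hP with ⟨⟨Φ⟩, -⟩ | ⟨-, h1⟩ | ⟨-, h1⟩
      · have hZ := Cfsg.Agent.H856.U3.no_scalars hcore.perfect Φ
        exact Or.inr (Or.inr (Or.inr ⟨P, hcore, Cfsg.Agent.H856.U3.simple_L hcore.simple hZ Φ,
          ⟨Cfsg.Agent.H856.U3.lift hZ Φ⟩⟩))
      · norm_num at h1
      · norm_num at h1
  have hWx : ∀ W : Submodule F (Fin 3 → F), x ∈ subspaceStabilizer W → W = ⊥ ∨ W = ⊤ := fun W h =>
    hxirr W (mulVec_mem_of_stab h)
  obtain ⟨P, hcore, hsim, ⟨e⟩⟩ : ∃ P : Subgroup (GL (Fin 3) F), IsResidualCore E P ∧ IsSimpleGroup L ∧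
      Nonempty (L ≃* P) := by
    rcases hlist E hE with ⟨W, h0, hW, rfl⟩ | ⟨W, h0, hW, h1, rfl⟩ | ⟨D', hD', rfl⟩ | h
    · exfalso
      rcases hWx W hxE'.1 with h | h
      · exact h0 h
      · obtain ⟨u, hu0, -, hu⟩ := sing_span hF h0 hW
        have h2 := finrank_span_singleton (K := F) hu0
        rw [← hu, h, finrank_top] at h2
        simp at h2
    · exfalso
      rcases hWx W hxE'.1 with h | h
      · exact h0 h
      · rw [h, finrank_top] at h1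
        simp at h1
    · exact absurd hxE'.1 (not_mem_frame hD'.decomp (by norm_num : Nat.Prime 7) (by norm_num) hxo hxirr)
    · exact h
  refine cls_four_of hF hG le_rfl (by norm_num) (by norm_num : Nat.Prime 7) (by norm_num) hxS hxo hxirr hE hxE' fun H hH => ?_
  rcases hlist H hH with h | h | h | ⟨P', hcore', -, ⟨e'⟩⟩
  · exact Or.inl h
  · exact Or.inr (Or.inl h)
  · exact Or.inr (Or.inr (Or.inl h))
  · exact Or.inr (Or.inr (Or.inr (conj_resid hF hE hH hcore hcore' e e')))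

end three

end Cfsg.Agent.H950.MC
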