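import Mathlib
import Cfsg.Agent.H950.MCCubic
import Cfsg.Agent.S5778
import Cfsg.Agent.S5779

/-!
# `PSU₃(q)`, `q = 2 ^ (2 ^ m)`, has exactly four classes of maximal subgroups (helper950, for S5906, S5907)
-/

set_option autoImplicit false
set_option linter.unusedSectionVars false

namespace Cfsg.Agent.H950.MC

open Cfsg Cfsg.Geo Matrix Cfsg.Agent.H918 Cfsg.Agent.LieClassical.HermBasic Cfsg.Agent.H907 Cfsg.Agent.H907.SU3
  Cfsg.Agent.H907.Mx Cfsg.Agent.H914 Cfsg.Agent.H940.MaxCls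
open scoped MatrixGroups

theorem psu3_two_of {F : Type*} [Field F] [Fintype F] {m : ℕ} (hm : 1 ≤ m) (hF : Fintype.card F = (2 ^ (2 ^ m)) ^ 2)
    (hG : Geom F (2 ^ (2 ^ m))) : Cls 4 (PSU 3 F (2 ^ (2 ^ m))) := by
  obtain ⟨q, hq⟩ : ∃ q, q = 2 ^ (2 ^ m) := ⟨_, rfl⟩
  rw [← hq] at hF hG ⊢
  have h2m : 2 ^ m ≠ 0 := by positivity
  have hq4 : 4 ≤ q := by
    have h1 : 2 ^ 1 ≤ 2 ^ m := Nat.pow_le_pow_right (by norm_num) hm
    have h2 : 2 ^ 2 ≤ 2 ^ (2 ^ m) := Nat.pow_le_pow_right (by norm_num) (by simpa using h1)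
    rw [hq]
    simpa using h2
  have heven : ¬ Odd q := by
    rw [Nat.not_odd_iff_even, hq]
    exact (Nat.even_pow' h2m).2 even_two
  have hnp : ¬ q.Prime := by rw [hq]; exact not_prime_q hm
  have hq5 : q ≠ 5 := fun h => heven (by rw [h]; decide)
  obtain ⟨r, hr, hr1, hr5, hrp, hr3⟩ := exists_ppd (f := 2 ^ m) Nat.prime_two h2m (by rw [← hq]; omega)
  rw [← hq] at hr3
  obtain ⟨x, hxS, hxr, hxirr⟩ := exists_elt hF hq hr hr1 hrp hr3 h2m
  obtain ⟨K, hK, hadj, hxK⟩ := exists_field hF hxS hxirr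
  have hrq : ¬ r ∣ q := by
    rw [hq]
    exact fun h => hrp (hr.dvd_of_dvd_pow h)
  have hrq2 : ¬ r ∣ q ^ 2 - 1 := by
    intro h
    rw [hq, ← pow_mul, hr1] at h
    have h1 := Nat.le_of_dvd (by positivity) h
    have h3 : 0 < 2 ^ m := by positivity
    omega
  have hE := hG.cubic (by omega) hq5 K hK hadj
  refine cls_four_of hF hG (by omega) hq5 hr (by omega) hxS hxr hxirr hE
    ⟨mem_normalizer_of_mem hF hK hxK, hxS⟩ fun H hH => ?_
  rcases Cfsg.Agent.S5778.result q hF (by omega) H hH with h | h | h | h | h | h | h | h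
  · exact Or.inl h
  · exact Or.inr (Or.inl h)
  · exact Or.inr (Or.inr (Or.inl h.2))
  · obtain ⟨-, -, K', hK', hadj', rfl⟩ := h
    exact Or.inr (Or.inr (Or.inr (conj_cubic hF hr hrq hrq2 hr3 hK hadj hK' hadj')))
  · obtain ⟨F₀, s, P, hs, hso, hcard, -, -⟩ := h
    rw [hF, hq] at hcard
    exact (sub_excl hs hso hcard).elim
  · exact absurd h.1 heven
  · obtain ⟨p, R, hp, hqp, -⟩ := h
    rw [← hqp] at hp
    exact absurd hp hnp
  · obtain ⟨P, -, hp, -⟩ := Cfsg.Agent.S5779.result q hF (by omega) H hH h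
    exact absurd hp hnp

end Cfsg.Agent.H950.MC
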