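import Mathlib
import Cfsg.Agent.H950.MCQ5
import Cfsg.Agent.H950.MCTwo
import Cfsg.Agent.H950.MCThreeB
import Cfsg.Agent.S5777

/-!
# The rows for `PSU₃(q)` (helper950, for S5906, S5907)
-/

set_option autoImplicit false

namespace Cfsg.Agent.H950.MC

open Cfsg Cfsg.Geo Cfsg.Agent.H918 Cfsg.Agent.H940.MaxCls

theorem geom_of {F : Type*} [Field F] [Fintype F] {q : ℕ} (hF : Fintype.card F = q ^ 2) (hq : 3 ≤ q) : Geom F q := by
  obtain ⟨h1, h2, h3, h4, h5, h6, -⟩ := Cfsg.Agent.S5777.result q hF hq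
  exact ⟨h1, h2, h3, h4, h5, h6⟩

theorem psu3_five {F : Type*} [Field F] [Fintype F] {q : ℕ} (hF : Fintype.card F = q ^ 2)
    (hq : 4 ≤ q) (h : ¬ ∃ m : ℕ, 1 ≤ m ∧ q = 2 ^ (2 ^ m)) : Sep 5 (PSU 3 F q) :=
  psu3_five_of (geom_of hF (by omega)) hF hq h

theorem psu3_three {F : Type*} [Field F] [Fintype F] (hF : Fintype.card F = 9) : Cls 4 (PSU 3 F 3) :=
  psu3_three_of (by rw [hF]; norm_num) (geom_of (by rw [hF]; norm_num) le_rfl)

theorem psu3_two {F : Type*} [Field F] [Fintype F] (m : ℕ) (hm : 1 ≤ m) (hF : Fintype.card F = (2 ^ (2 ^ m)) ^ 2) :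
    Cls 4 (PSU 3 F (2 ^ (2 ^ m))) := by
  refine psu3_two_of hm hF (geom_of hF ?_)
  have h1 : 2 ^ 1 ≤ 2 ^ m := Nat.pow_le_pow_right (by norm_num) hm
  have h2 : 2 ^ 2 ≤ 2 ^ (2 ^ m) := Nat.pow_le_pow_right (by norm_num) (by simpa using h1)
  omega

end Cfsg.Agent.H950.MC
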