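import Mathlib
import Cfsg.Agent.LieClassical.HermPerfect

/-!
# Subgroups of `SU n F q` containing Siegel transformations (helper950)

* `HasQ hF H x`, `HasT hF H x` : `H` contains all Siegel transformations, all transvections with centre `x`.
* `exists_hasQ` : a subgroup of index prime to `p` contains all Siegel transformations of some isotropic `x ≠ 0`.
* `top_of_sylow_irr` : an irreducible subgroup of index prime to `p` is everything.
* `top_of_hasT` : a subgroup containing all transvections is everything.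
-/

set_option autoImplicit false

namespace Cfsg.Agent.H950.Su

open Cfsg Cfsg.Agent.LieClassical.HermBasic Cfsg.Agent.LieClassical.HermSiegel
  Cfsg.Agent.LieClassical.HermGen Cfsg.Agent.LieClassical.HermSimple Cfsg.Agent.LieClassical.HermPerfect

variable {F : Type*} [Field F] [Fintype F] {q n : ℕ}

/-- `H` contains all Siegel transformations with isotropic vector `x` -/
def HasQ (hF : Fintype.card F = q ^ 2) (H : Subgroup (SU n F q)) (x : Fin n → F) : Prop :=
  ∀ (w : Fin n → F) (μ : F) (h : IsSiegel q x w μ), siegel hF x w μ h ∈ H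

/-- `H` contains all transvections with isotropic vector `x` -/
def HasT (hF : Fintype.card F = q ^ 2) (H : Subgroup (SU n F q)) (x : Fin n → F) : Prop :=
  ∀ (μ : F) (h : IsSiegel q x 0 μ), siegel hF x 0 μ h ∈ H

theorem HasQ.hasT {hF : Fintype.card F = q ^ 2} {H : Subgroup (SU n F q)} {x : Fin n → F} (h : HasQ hF H x) :
    HasT hF H x := fun μ h' => h 0 μ h'

theorem HasQ.mono {hF : Fintype.card F = q ^ 2} {H K : Subgroup (SU n F q)} {x : Fin n → F} (h : HasQ hF H x)
    (hHK : H ≤ K) : HasQ hF K x := fun w μ h' => hHK (h w μ h')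

theorem HasT.mono {hF : Fintype.card F = q ^ 2} {H K : Subgroup (SU n F q)} {x : Fin n → F} (h : HasT hF H x)
    (hHK : H ≤ K) : HasT hF K x := fun μ h' => hHK (h μ h')

theorem HasQ.conj {hF : Fintype.card F = q ^ 2} {H K : Subgroup (SU n F q)} {x : Fin n → F} (h : HasQ hF H x)
    {g : SU n F q} (hg : ∀ y ∈ H, g * y * g⁻¹ ∈ K) : HasQ hF K (act g x) := by
  intro w μ h1
  have h2 : IsSiegel q x (act g⁻¹ w) μ := by
    have := h1.map g⁻¹
    rwa [act_inv_act] at this
  have h3 := hg _ (h _ _ h2)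
  rw [conj_siegel] at h3
  have h4 := siegel_congr hF (h2.map g) h1 rfl (act_act_inv g w) rfl
  rwa [h4] at h3

theorem HasT.conj {hF : Fintype.card F = q ^ 2} {H K : Subgroup (SU n F q)} {x : Fin n → F} (h : HasT hF H x)
    {g : SU n F q} (hg : ∀ y ∈ H, g * y * g⁻¹ ∈ K) : HasT hF K (act g x) := by
  intro μ h1
  have h2 : IsSiegel q x 0 μ := by
    have := h1.map g⁻¹
    rwa [act_inv_act, act_zero] at this
  have h3 := hg _ (h _ h2)
  rw [conj_siegel] at h3
  have h4 := siegel_congr hF (h2.map g) h1 rfl (act_zero g) rfl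
  rwa [h4] at h3

theorem HasQ.move {hF : Fintype.card F = q ^ 2} {H : Subgroup (SU n F q)} {x : Fin n → F} (h : HasQ hF H x)
    {g : SU n F q} (hg : g ∈ H) : HasQ hF H (act g x) :=
  h.conj fun _ hy => H.mul_mem (H.mul_mem hg hy) (H.inv_mem hg)

theorem HasT.move {hF : Fintype.card F = q ^ 2} {H : Subgroup (SU n F q)} {x : Fin n → F} (h : HasT hF H x)
    {g : SU n F q} (hg : g ∈ H) : HasT hF H (act g x) :=
  h.conj fun _ hy => H.mul_mem (H.mul_mem hg hy) (H.inv_mem hg)

theorem siegel_zero_left (hF : Fintype.card F = q ^ 2) {w : Fin n → F} {μ : F} (h : IsSiegel q 0 w μ) :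
    siegel hF 0 w μ h = 1 := by
  apply ext_act
  intro v
  rw [act_siegel, act_one, herm_zero_right hF]
  simp

theorem hasQ_zero (hF : Fintype.card F = q ^ 2) (H : Subgroup (SU n F q)) : HasQ hF H 0 := by
  intro w μ h
  rw [siegel_zero_left]
  exact H.one_mem

theorem isSiegel_of_smul {x w : Fin n → F} {μ c : F} (hc : c ≠ 0) (h : IsSiegel q (c • x) w μ) :
    IsSiegel q x w μ := by
  refine ⟨?_, ?_, h.tr⟩
  · have := h.iso
    rw [herm_smul_left, herm_smul_right, mul_eq_zero, mul_eq_zero] at this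
    rcases this with h1 | h1 | h1
    · exact absurd h1 hc
    · exact absurd h1 (pow_ne_zero _ hc)
    · exact h1
  · have := h.orth
    rw [herm_smul_right, mul_eq_zero] at this
    rcases this with h1 | h1
    · exact absurd h1 (pow_ne_zero _ hc)
    · exact h1

theorem HasQ.smul {hF : Fintype.card F = q ^ 2} {H : Subgroup (SU n F q)} {x : Fin n → F} (h : HasQ hF H x)
    (c : F) : HasQ hF H (c • x) := by
  by_cases hc : c = 0
  · rw [hc, zero_smul]; exact hasQ_zero hF H
  intro w μ h1
  have h2 := isSiegel_of_smul hc h1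
  have h3 := siegel_smul hF (c := c) h2
  have h4 : siegel hF (c • x) w μ h1 = siegel hF (c • x) w μ h2.smul := rfl
  rw [h4, h3]
  exact h _ _ _

theorem HasT.smul {hF : Fintype.card F = q ^ 2} {H : Subgroup (SU n F q)} {x : Fin n → F} (h : HasT hF H x)
    (c : F) : HasT hF H (c • x) := by
  by_cases hc : c = 0
  · rw [hc, zero_smul]; exact (hasQ_zero hF H).hasT
  intro μ h1
  have h2 := isSiegel_of_smul hc h1
  have h3 := siegel_smul hF (c := c) h2
  have h4 : siegel hF (c • x) 0 μ h1 = siegel hF (c • x) 0 μ h2.smul := rfl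
  have h5 : IsSiegel q x 0 (c * c ^ q * μ) := by
    have := h2.smul' hF (c := c)
    rwa [smul_zero] at this
  rw [h4, h3, siegel_congr hF _ h5 rfl (smul_zero _) rfl]
  exact h _ _

/-! ### The group of the Siegel transformations of `x` -/

/-- the Siegel transformations of an isotropic vector -/
def QQ (hF : Fintype.card F = q ^ 2) (x : Fin n → F) (hx : hermForm n F q x x = 0) : Subgroup (SU n F q) where
  carrier := {g | ∃ (w : Fin n → F) (μ : F) (h : IsSiegel q x w μ), g = siegel hF x w μ h}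
  one_mem' := ⟨0, 0, IsSiegel.zero hF hx, (siegel_zero hF _).symm⟩
  mul_mem' := by
    rintro _ _ ⟨w, μ, h, rfl⟩ ⟨w', μ', h', rfl⟩
    exact ⟨_, _, _, siegel_mul hF h h'⟩
  inv_mem' := by
    rintro _ ⟨w, μ, h, rfl⟩
    exact ⟨_, _, _, siegel_inv hF h⟩

theorem siegel_pow (hF : Fintype.card F = q ^ 2) {x w : Fin n → F} {μ : F} (h : IsSiegel q x w μ) (k : ℕ) :
    ∃ (μ' : F) (h' : IsSiegel q x ((k : F) • w) μ'), siegel hF x w μ h ^ k = siegel hF x ((k : F) • w) μ' h' := by
  induction k with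
  | zero =>
    have h0 : IsSiegel q x (((0 : ℕ) : F) • w) 0 := by
      rw [Nat.cast_zero, zero_smul]
      exact IsSiegel.zero hF h.iso
    refine ⟨0, h0, ?_⟩
    rw [pow_zero, siegel_congr hF h0 (IsSiegel.zero hF h.iso) rfl (by rw [Nat.cast_zero, zero_smul]) rfl, siegel_zero]
  | succ k ih =>
    obtain ⟨μ', h', he⟩ := ih
    have e : ((k : F) • w) + w = ((k + 1 : ℕ) : F) • w := by
      rw [Nat.cast_succ, add_smul, one_smul]
    have h2 := h'.mul hF h
    rw [e] at h2
    refine ⟨_, h2, ?_⟩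
    rw [pow_succ, he, siegel_mul hF h' h]
    exact siegel_congr hF _ _ rfl e rfl

theorem siegel_zero_pow (hF : Fintype.card F = q ^ 2) {x : Fin n → F} {μ : F} (h : IsSiegel q x 0 μ) (k : ℕ) :
    ∃ h' : IsSiegel q x 0 ((k : F) * μ), siegel hF x 0 μ h ^ k = siegel hF x 0 ((k : F) * μ) h' := by
  induction k with
  | zero =>
    have h0 : IsSiegel q x 0 (((0 : ℕ) : F) * μ) := by
      rw [Nat.cast_zero, zero_mul]
      exact IsSiegel.zero hF h.iso
    refine ⟨h0, ?_⟩
    rw [pow_zero, siegel_congr hF h0 (IsSiegel.zero hF h.iso) rfl rfl (by rw [Nat.cast_zero, zero_mul]), siegel_zero]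
  | succ k ih =>
    obtain ⟨h', he⟩ := ih
    have e : (k : F) * μ + μ - hermForm n F q 0 0 = ((k + 1 : ℕ) : F) * μ := by
      rw [Nat.cast_succ, herm_zero_left]; ring
    have h2 := h'.mul hF h
    rw [e, add_zero] at h2
    refine ⟨h2, ?_⟩
    rw [pow_succ, he, siegel_mul hF h' h]
    exact siegel_congr hF _ _ rfl (add_zero _) e

theorem isPGroup_QQ (hF : Fintype.card F = q ^ 2) {p : ℕ} [CharP F p] (x : Fin n → F)
    (hx : hermForm n F q x x = 0) : IsPGroup p (QQ hF x hx) := by
  rintro ⟨_, w, μ, h, rfl⟩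
  refine ⟨2, ?_⟩
  apply Subtype.ext
  show siegel hF x w μ h ^ (p ^ 2) = 1
  obtain ⟨μ', h', he⟩ := siegel_pow hF h p
  have h0 : IsSiegel q x 0 μ' := by
    rw [CharP.cast_eq_zero, zero_smul] at h'
    exact h'
  rw [pow_two, pow_mul, he, siegel_congr hF h' h0 rfl (by rw [CharP.cast_eq_zero, zero_smul]) rfl]
  obtain ⟨h'', he'⟩ := siegel_zero_pow hF h0 p
  rw [he', siegel_congr hF h'' (IsSiegel.zero hF hx) rfl rfl (by rw [CharP.cast_eq_zero, zero_mul]), siegel_zero]

theorem hasQ_iff {hF : Fintype.card F = q ^ 2} {H : Subgroup (SU n F q)} {x : Fin n → F}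
    (hx : hermForm n F q x x = 0) : HasQ hF H x ↔ QQ hF x hx ≤ H := by
  constructor
  · rintro h _ ⟨w, μ, h', rfl⟩
    exact h w μ h'
  · intro h w μ h'
    exact h ⟨w, μ, h', rfl⟩

/-- `SU n F q` has a nonzero isotropic vector -/
theorem exists_iso_ne (hF : Fintype.card F = q ^ 2) (hn : 2 ≤ n) :
    ∃ x : Fin n → F, x ≠ 0 ∧ hermForm n F q x x = 0 := by
  obtain ⟨p, p', a, b, ha, hp, hp', h1, h2, h3⟩ := exists_hyp_pair (q := q) (n := n) hF
    (i := ⟨0, by omega⟩) (j := ⟨1, by omega⟩) (by simp)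
  refine ⟨p, ?_, h1⟩
  rintro rfl
  rw [herm_zero_left] at h3
  exact zero_ne_one h3

/-- a subgroup of index prime to `p` contains a conjugate of every `p`-subgroup -/
theorem exists_conj_le_of_not_dvd {G : Type*} [Group G] [Finite G] {p : ℕ} [Fact p.Prime] {K Q : Subgroup G}
    (hK : ¬ p ∣ K.index) (hQ : IsPGroup p Q) : ∃ g : G, ∀ y ∈ Q, g * y * g⁻¹ ∈ K := by
  obtain ⟨S⟩ : Nonempty (Sylow p K) := inferInstance
  have h1 : IsPGroup p ((S : Subgroup K).map K.subtype) := S.2.map _
  have h2 : ((S : Subgroup K).map K.subtype).index = (S : Subgroup K).index * K.index := by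
    rw [Subgroup.index_map, Subgroup.ker_subtype, sup_bot_eq, Subgroup.range_subtype]
  have h3 : ¬ p ∣ ((S : Subgroup K).map K.subtype).index := by
    rw [h2, (Fact.out : p.Prime).dvd_mul]
    rintro (h | h)
    · exact S.not_dvd_index h
    · exact hK h
  let P : Sylow p G := h1.toSylow h3
  obtain ⟨P', hP'⟩ := hQ.exists_le_sylow
  obtain ⟨g, hg⟩ := MulAction.exists_smul_eq G P' P
  refine ⟨g, fun y hy => ?_⟩
  have h4 : g * y * g⁻¹ ∈ ((g • P' : Sylow p G) : Subgroup G) := by
    rw [Sylow.coe_subgroup_smul, Subgroup.mem_pointwise_smul_iff_inv_smul_mem]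
    have : (MulAut.conj g)⁻¹ • (g * y * g⁻¹) = y := by
      rw [← map_inv]
      show g⁻¹ * (g * y * g⁻¹) * g⁻¹⁻¹ = y
      group
    rw [this]
    exact hP' hy
  rw [hg] at h4
  have h5 : g * y * g⁻¹ ∈ (S : Subgroup K).map K.subtype := h4
  exact Subgroup.map_subtype_le _ h5

/-- a subgroup of index prime to `p` contains all Siegel transformations of an isotropic vector -/
theorem exists_hasQ (hF : Fintype.card F = q ^ 2) (hn : 2 ≤ n) {p : ℕ} [Fact p.Prime] [CharP F p]
    {K : Subgroup (SU n F q)} (hK : ¬ p ∣ K.index) :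
    ∃ x : Fin n → F, x ≠ 0 ∧ hermForm n F q x x = 0 ∧ HasQ hF K x := by
  obtain ⟨x, hx0, hx⟩ := exists_iso_ne (q := q) (n := n) hF hn
  obtain ⟨g, hg⟩ := exists_conj_le_of_not_dvd hK (isPGroup_QQ hF (p := p) x hx)
  refine ⟨act g x, fun h => hx0 ((act_eq_zero g).1 h), by rw [herm_act, hx], ?_⟩
  exact ((hasQ_iff hx).2 le_rfl).conj hg

/-! ### Propagation -/

theorem mem_coordSub_self (x : Fin n → F) : x ∈ coordSub F n n := mem_coordSub_top x

/-- the Siegel transformations of `x` move `y` to all isotropic points not orthogonal to `x` -/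
theorem HasQ.step {hF : Fintype.card F = q ^ 2} {K : Subgroup (SU n F q)} {x y z : Fin n → F}
    (hx : hermForm n F q x x = 0) (hQ : HasQ hF K x) (hy : hermForm n F q y y = 0) (hyx : hermForm n F q y x ≠ 0)
    (hz : hermForm n F q z z = 0) (hzx : hermForm n F q z x ≠ 0) :
    ∃ g ∈ K, ∃ c : F, c ≠ 0 ∧ act g y = c • z := by
  obtain ⟨c, μ, h, he⟩ := exists_siegel_map hF (u := x) (v := y)
    (v' := (hermForm n F q y x / hermForm n F q z x) • z) hx
    (by rw [hy, herm_smul_left, herm_smul_right, hz]; ring)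
    (by rw [herm_smul_left, div_mul_cancel₀ _ hzx]) hyx
  exact ⟨_, hQ _ _ h, _, div_ne_zero hyx hzx, he⟩

theorem herm_ne_swap (hF : Fintype.card F = q ^ 2) {u v : Fin n → F} (h : hermForm n F q u v ≠ 0) :
    hermForm n F q v u ≠ 0 := fun h' => h (herm_eq_zero_swap hF h')

/-- two opposite root groups generate everything -/
theorem top_of_hasQ_pair (hF : Fintype.card F = q ^ 2) (hn : 3 ≤ n) {K : Subgroup (SU n F q)} {x y : Fin n → F}
    (hx : hermForm n F q x x = 0) (hy : hermForm n F q y y = 0) (hxy : hermForm n F q x y ≠ 0)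
    (hQx : HasQ hF K x) (hQy : HasQ hF K y) : K = ⊤ := by
  have key : ∀ x y z : Fin n → F, hermForm n F q x x = 0 → hermForm n F q y y = 0 → hermForm n F q x y ≠ 0 →
      HasQ hF K x → HasQ hF K y → hermForm n F q z z = 0 → hermForm n F q z x ≠ 0 → HasQ hF K z := by
    intro x y z hx hy hxy hQx hQy hz hzx
    obtain ⟨g, hg, c, hc, he⟩ := hQx.step hx hy (herm_ne_swap hF hxy) hz hzx
    have h1 := (hQy.move hg).smul c⁻¹
    rwa [he, smul_smul, inv_mul_cancel₀ hc, one_smul] at h1
  have hx0 : x ≠ 0 := by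
    rintro rfl
    exact hxy (herm_zero_left _)
  rw [eq_top_iff, ← siegelGroup_eq_top hF hn, siegelGroup, Subgroup.closure_le]
  rintro _ ⟨z, w, μ, h, rfl⟩
  by_cases hz0 : z = 0
  · subst hz0
    rw [siegel_zero_left]
    exact K.one_mem
  have hz := h.iso
  refine (?_ : HasQ hF K z) w μ h
  by_cases hzx : hermForm n F q z x = 0
  · obtain ⟨t, -, ht, hxt, hzt⟩ := exists_iso_common hF (k := n) (mem_coordSub_self x) (mem_coordSub_self z) hx0 hz0
      hx (herm_eq_zero_swap hF hzx)
    have h1 := key x y t hx hy hxy hQx hQy ht (herm_ne_swap hF hxt)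
    exact key t x z ht hx (herm_ne_swap hF hxt) h1 hQx hz hzt
  · exact key x y z hx hy hxy hQx hQy hz hzx

/-- the subgroup `K` is irreducible on the natural module -/
def Irr (K : Subgroup (SU n F q)) : Prop :=
  ∀ W : Submodule F (Fin n → F), (∀ g ∈ K, ∀ w ∈ W, act g w ∈ W) → W = ⊥ ∨ W = ⊤

theorem Irr.mono {K H : Subgroup (SU n F q)} (h : Irr K) (hKH : K ≤ H) : Irr H :=
  fun W hW => h W fun g hg w hw => hW g (hKH hg) w hw

theorem Irr.conj {K H : Subgroup (SU n F q)} (h : Irr K) (g : SU n F q) (hg : ∀ y ∈ K, g * y * g⁻¹ ∈ H) :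
    Irr H := by
  intro W hW
  let L : (Fin n → F) →ₗ[F] (Fin n → F) :=
    { toFun := act g, map_add' := act_add g, map_smul' := fun c v => act_smul g c v }
  have h1 := h (W.comap L) (by
    intro y hy w hw
    have h2 := hW _ (hg y hy) _ hw
    have h3 : act (g * y * g⁻¹) (L w) = L (act y w) := by
      show act (g * y * g⁻¹) (act g w) = act g (act y w)
      rw [act_mul, act_mul, act_inv_act]
    rw [h3] at h2
    exact h2)
  have hL : Function.Surjective L := fun v => ⟨act g⁻¹ v, act_act_inv g v⟩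
  rcases h1 with h1 | h1
  · left
    rw [eq_bot_iff]
    intro v hv
    obtain ⟨u, rfl⟩ := hL v
    have h2 : u ∈ W.comap L := hv
    rw [h1, Submodule.mem_bot] at h2
    rw [h2, map_zero]
    exact Submodule.zero_mem _
  · right
    rw [eq_top_iff]
    intro v _
    obtain ⟨u, rfl⟩ := hL v
    have h2 : u ∈ W.comap L := by rw [h1]; trivial
    exact h2

/-- an irreducible subgroup containing `QQ x` for some `x ≠ 0` is everything -/
theorem top_of_hasQ_irr (hF : Fintype.card F = q ^ 2) (hn : 3 ≤ n) {K : Subgroup (SU n F q)} {x : Fin n → F}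
    (hx0 : x ≠ 0) (hx : hermForm n F q x x = 0) (hQx : HasQ hF K x) (hirr : Irr K) : K = ⊤ := by
  by_cases h : ∃ g ∈ K, hermForm n F q x (act g x) ≠ 0
  · obtain ⟨g, hg, hgx⟩ := h
    exact top_of_hasQ_pair hF hn hx (by rw [herm_act, hx]) hgx hQx (hQx.move hg)
  exfalso
  push Not at h
  let W : Submodule F (Fin n → F) := Submodule.span F {v | ∃ g ∈ K, v = act g x}
  have hW : ∀ g ∈ K, ∀ w ∈ W, act g w ∈ W := by
    intro g hg w hw
    induction hw using Submodule.span_induction with
    | mem v hv =>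
      obtain ⟨k, hk, rfl⟩ := hv
      rw [← act_mul]
      exact Submodule.subset_span ⟨g * k, K.mul_mem hg hk, rfl⟩
    | zero => rw [act_zero]; exact W.zero_mem
    | add u v _ _ hu hv => rw [act_add]; exact W.add_mem hu hv
    | smul c v _ hv => rw [act_smul]; exact W.smul_mem c hv
  have hxW : x ∈ W := Submodule.subset_span ⟨1, K.one_mem, (act_one x).symm⟩
  have hWx : ∀ w ∈ W, hermForm n F q w x = 0 := by
    intro w hw
    induction hw using Submodule.span_induction with
    | mem v hv =>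
      obtain ⟨k, hk, rfl⟩ := hv
      exact herm_eq_zero_swap hF (h k hk)
    | zero => exact herm_zero_left _
    | add u v _ _ hu hv => rw [herm_add_left, hu, hv, add_zero]
    | smul c v _ hv => rw [herm_smul_left, hv, mul_zero]
  rcases hirr W hW with h1 | h1
  · rw [h1, Submodule.mem_bot] at hxW
    exact hx0 hxW
  · apply hx0
    apply herm_nondeg hF
    intro v
    exact herm_eq_zero_swap hF (hWx v (by rw [h1]; trivial))

/-- **an irreducible subgroup of index prime to `p` is everything** -/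
theorem top_of_sylow_irr (hF : Fintype.card F = q ^ 2) (hn : 3 ≤ n) {p : ℕ} [Fact p.Prime] [CharP F p]
    {K : Subgroup (SU n F q)} (hK : ¬ p ∣ K.index) (hirr : Irr K) : K = ⊤ := by
  obtain ⟨x, hx0, hx, hQ⟩ := exists_hasQ hF (by omega) hK
  exact top_of_hasQ_irr hF hn hx0 hx hQ hirr

/-- **a subgroup containing all transvections is everything** -/
theorem top_of_hasT (hF : Fintype.card F = q ^ 2) (hn : 3 ≤ n) (h32 : ¬ (n = 3 ∧ q = 2)) {K : Subgroup (SU n F q)}
    (hT : ∀ x : Fin n → F, hermForm n F q x x = 0 → HasT hF K x) : K = ⊤ := by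
  let N : Subgroup (SU n F q) := Subgroup.closure
    {g | ∃ (x : Fin n → F) (μ : F) (h : IsSiegel q x 0 μ), g = siegel hF x 0 μ h}
  have hNK : N ≤ K := by
    rw [Subgroup.closure_le]
    rintro _ ⟨x, μ, h, rfl⟩
    exact hT x h.iso μ h
  have : N.Normal := by
    refine ⟨fun y hy g => ?_⟩
    induction hy using Subgroup.closure_induction with
    | mem y hy =>
      obtain ⟨x, μ, h, rfl⟩ := hy
      rw [conj_siegel]
      have h2 : IsSiegel q (act g x) 0 μ := by
        have := h.map g
        rwa [act_zero] at this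
      rw [siegel_congr hF (h.map g) h2 rfl (act_zero g) rfl]
      exact Subgroup.subset_closure ⟨_, _, h2, rfl⟩
    | one => rw [mul_one, mul_inv_cancel]; exact N.one_mem
    | mul a b _ _ ha hb =>
      have : g * (a * b) * g⁻¹ = (g * a * g⁻¹) * (g * b * g⁻¹) := by group
      rw [this]
      exact N.mul_mem ha hb
    | inv a _ ha =>
      have : g * a⁻¹ * g⁻¹ = (g * a * g⁻¹)⁻¹ := by group
      rw [this]
      exact N.inv_mem ha
  have hNc : ¬ N ≤ Subgroup.center (SU n F q) := by
    intro hc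
    obtain ⟨p, p', a, b, ha, hp, hp', h1, h2, h3⟩ := exists_hyp_pair (q := q) (n := n) hF
      (i := ⟨0, by omega⟩) (j := ⟨1, by omega⟩) (by simp)
    obtain ⟨μ, hμ0, hμ⟩ := exists_trace_zero_ne hF
    have hs : IsSiegel q p 0 μ := ⟨h1, herm_zero_left _, by rw [herm_zero_left, add_zero, hμ]⟩
    have hs' : IsSiegel q p' 0 μ := ⟨h2, herm_zero_left _, by rw [herm_zero_left, add_zero, hμ]⟩
    have h4 : siegel hF p 0 μ hs ∈ Subgroup.center (SU n F q) := hc (Subgroup.subset_closure ⟨_, _, _, rfl⟩)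
    rw [Subgroup.mem_center_iff] at h4
    have h5 := congrArg (fun g => act g p) (h4 (siegel hF p' 0 μ hs'))
    simp only [act_mul] at h5
    rw [act_siegel_self, act_siegel, act_siegel] at h5
    simp only [herm_zero_right hF, smul_zero, sub_zero, add_zero, herm_add_left, herm_smul_left, h1, h3,
      mul_zero, mul_one, zero_add] at h5
    have h3' : hermForm n F q p' p = 1 := by rw [herm_swap hF, h3, one_pow]
    rw [h3', mul_one] at h5
    have h6 : (μ * μ) • p = 0 := by
      have := h5.symm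
      rwa [add_eq_left] at this
    have hp0 : p ≠ 0 := by
      rintro rfl
      rw [herm_zero_left] at h3
      exact zero_ne_one h3
    rcases smul_eq_zero.1 h6 with h | h
    · exact hμ0 (mul_self_eq_zero.1 h)
    · exact hp0 h
  have h1 := normal_eq_top hF hn h32 hNc
  exact top_le_iff.1 (h1 ▸ hNK)

end Cfsg.Agent.H950.Su
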