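import Mathlib
import Cfsg.Agent.H950.SuTools

/-!
# The subgroup `Sp_n(q)` of `SU n F q` (helper950)

`Sg q σ` : `σ` is a semilinear involution with `h(u, σ u) = 0` (the fixed vectors of `σ` form an `F_q`-space on which
the hermitian form is a multiple of a symplectic form).  `NS σ` is the subgroup of `SU n F q` commuting with `σ` up to
scalars.  `isCoatom_NS` : it is a maximal subgroup for `n ≥ 4`.
-/

set_option autoImplicit false

namespace Cfsg.Agent.H950.Su

open Cfsg Cfsg.Agent.LieClassical.HermBasic Cfsg.Agent.LieClassical.HermSiegel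
  Cfsg.Agent.LieClassical.HermGen Cfsg.Agent.LieClassical.HermSimple Cfsg.Agent.LieClassical.HermPerfect

variable {F : Type*} [Field F] [Fintype F] {q n : ℕ}

/-- a semilinear involution with `h(u, σ u) = 0` -/
structure Sg (q : ℕ) (σ : (Fin n → F) → (Fin n → F)) : Prop where
  add : ∀ u v, σ (u + v) = σ u + σ v
  smul : ∀ (c : F) u, σ (c • u) = c ^ q • σ u
  inv : ∀ u, σ (σ u) = u
  alt : ∀ u, hermForm n F q u (σ u) = 0

namespace Sg

variable {σ : (Fin n → F) → (Fin n → F)}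

omit [Fintype F] in
theorem zero (hσ : Sg q σ) : σ 0 = 0 := by
  have h := hσ.add 0 0
  rw [add_zero] at h
  exact left_eq_add.1 h

omit [Fintype F] in
theorem neg (hσ : Sg q σ) (u : Fin n → F) : σ (-u) = -σ u := by
  have h := hσ.add u (-u)
  rw [add_neg_cancel, hσ.zero] at h
  exact (neg_eq_of_add_eq_zero_right h.symm).symm

omit [Fintype F] in
theorem sub (hσ : Sg q σ) (u v : Fin n → F) : σ (u - v) = σ u - σ v := by
  rw [sub_eq_add_neg, hσ.add, hσ.neg, sub_eq_add_neg]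

omit [Fintype F] in
theorem inj (hσ : Sg q σ) {u v : Fin n → F} (h : σ u = σ v) : u = v := by
  rw [← hσ.inv u, h, hσ.inv]

theorem herm (hF : Fintype.card F = q ^ 2) (hσ : Sg q σ) (u v : Fin n → F) :
    hermForm n F q (σ u) (σ v) = -hermForm n F q v u := by
  have h := hσ.alt (σ u + v)
  rw [hσ.add, hσ.inv, herm_add_left, herm_add_right hF, herm_add_right hF] at h
  have h1 : hermForm n F q (σ u) u = 0 := herm_eq_zero_swap hF (hσ.alt u)
  rw [h1, hσ.alt v] at h
  linear_combination h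

theorem herm_fix (hF : Fintype.card F = q ^ 2) (hσ : Sg q σ) {u v : Fin n → F} (hu : σ u = u) (hv : σ v = v) :
    hermForm n F q v u = -hermForm n F q u v := by
  have := hσ.herm hF u v
  rw [hu, hv] at this
  rw [this, neg_neg]

theorem herm_pow (hF : Fintype.card F = q ^ 2) (hσ : Sg q σ) {u v : Fin n → F} (hu : σ u = u) (hv : σ v = v) :
    hermForm n F q u v ^ q = -hermForm n F q u v := by
  rw [← herm_swap hF, hσ.herm_fix hF hu hv]

omit [Fintype F] in
theorem iso_fix (hσ : Sg q σ) {u : Fin n → F} (hu : σ u = u) : hermForm n F q u u = 0 := by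
  have := hσ.alt u
  rwa [hu] at this

/-- decomposition `v = a + w b` with `a`, `b` fixed -/
theorem decomp (hF : Fintype.card F = q ^ 2) (hσ : Sg q σ) {w : F} (hw : w ^ q ≠ w) (v : Fin n → F) :
    ∃ a b : Fin n → F, σ a = a ∧ σ b = b ∧ v = a + w • b := by
  have hd : w - w ^ q ≠ 0 := sub_ne_zero.2 (Ne.symm hw)
  have hb : σ ((w - w ^ q)⁻¹ • (v - σ v)) = (w - w ^ q)⁻¹ • (v - σ v) := by
    rw [hσ.smul, hσ.sub, hσ.inv, inv_pow, sub_pow_q hF, pow_q_pow_q hF]
    have : (w ^ q - w)⁻¹ = -(w - w ^ q)⁻¹ := by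
      rw [← inv_neg, neg_sub]
    rw [this, neg_smul, ← smul_neg, neg_sub]
  refine ⟨v - w • ((w - w ^ q)⁻¹ • (v - σ v)), (w - w ^ q)⁻¹ • (v - σ v), ?_, hb, by rw [sub_add_cancel]⟩
  rw [hσ.sub, hσ.smul, hb]
  have h1 : v - σ v = (w - w ^ q) • ((w - w ^ q)⁻¹ • (v - σ v)) := by
    rw [smul_smul, mul_inv_cancel₀ hd, one_smul]
  have h2 : σ v = v - (w - w ^ q) • ((w - w ^ q)⁻¹ • (v - σ v)) := by rw [← h1, sub_sub_cancel]
  generalize (w - w ^ q)⁻¹ • (v - σ v) = b at h2 ⊢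
  rw [h2, sub_smul]
  abel

/-- two products with a fixed vector: `w` is not in the subfield -/
theorem perp_decomp (hF : Fintype.card F = q ^ 2) (hσ : Sg q σ) {w : F} (hw : w ^ q ≠ w) {c a b : Fin n → F}
    (hc : σ c = c) (ha : σ a = a) (hb : σ b = b) (h : hermForm n F q c (a + w • b) = 0) :
    hermForm n F q c a = 0 ∧ hermForm n F q c b = 0 := by
  rw [herm_add_right hF, herm_smul_right] at h
  have h1 := hσ.herm_pow hF hc ha
  have h2 := hσ.herm_pow hF hc hb
  have h3 : (hermForm n F q c a + w ^ q * hermForm n F q c b) ^ q = 0 ^ q := by rw [h]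
  rw [add_pow_q hF, mul_pow, pow_q_pow_q hF, h1, h2, zero_pow_q hF] at h3
  -- `- x - w y = 0`, `x + w^q y = 0`
  have h4 : (w ^ q - w) * hermForm n F q c b = 0 := by linear_combination h + h3
  have h5 : hermForm n F q c b = 0 := (mul_eq_zero.1 h4).resolve_left (sub_ne_zero.2 hw)
  refine ⟨?_, h5⟩
  rw [h5, mul_zero, add_zero] at h
  exact h

/-- nondegeneracy on the fixed vectors -/
theorem exists_herm_ne (hF : Fintype.card F = q ^ 2) (hσ : Sg q σ) {b : Fin n → F} (hb0 : b ≠ 0) :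
    ∃ d, σ d = d ∧ hermForm n F q b d ≠ 0 := by
  obtain ⟨w, hw⟩ := exists_not_fixed hF
  by_contra hc
  push Not at hc
  apply hb0
  apply herm_nondeg hF
  intro v
  obtain ⟨x, y, hx, hy, rfl⟩ := hσ.decomp hF hw v
  rw [herm_add_right hF, herm_smul_right, hc x hx, hc y hy, mul_zero, add_zero]

end Sg

/-- a vector `v` orthogonal to `c` and not to `b` -/
theorem exists_perp_ne (hF : Fintype.card F = q ^ 2) {c b : Fin n → F} (hc0 : c ≠ 0) (hb : ∀ μ : F, b ≠ μ • c) :
    ∃ v, hermForm n F q c v = 0 ∧ hermForm n F q b v ≠ 0 := by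
  by_contra hcon
  push Not at hcon
  obtain ⟨e, he⟩ : ∃ e, hermForm n F q c e ≠ 0 := by
    by_contra h
    push Not at h
    exact hc0 (herm_nondeg hF h)
  refine hb (hermForm n F q b e / hermForm n F q c e) ?_
  rw [← sub_eq_zero]
  apply herm_nondeg hF
  intro v
  have h1 := hcon (v - (hermForm n F q c v / hermForm n F q c e) ^ q • e) (by
    rw [herm_sub_right hF, herm_smul_right, pow_q_pow_q hF, div_mul_cancel₀ _ he, sub_self])
  rw [herm_sub_right hF, herm_smul_right, pow_q_pow_q hF] at h1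
  rw [herm_sub_left, herm_smul_left]
  field_simp
  field_simp at h1
  linear_combination h1

namespace Sg

variable {σ : (Fin n → F) → (Fin n → F)}

theorem exists_perp_ne (hF : Fintype.card F = q ^ 2) (hσ : Sg q σ) {c b : Fin n → F} (hc : σ c = c) (hc0 : c ≠ 0)
    (hb : ∀ μ : F, b ≠ μ • c) : ∃ d, σ d = d ∧ hermForm n F q c d = 0 ∧ hermForm n F q b d ≠ 0 := by
  obtain ⟨w, hw⟩ := exists_not_fixed hF
  obtain ⟨v, h1, h2⟩ := Su.exists_perp_ne hF hc0 hb
  obtain ⟨x, y, hx, hy, rfl⟩ := hσ.decomp hF hw v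
  obtain ⟨h3, h4⟩ := hσ.perp_decomp hF hw hc hx hy h1
  by_cases h5 : hermForm n F q b x = 0
  · refine ⟨y, hy, h4, fun h6 => h2 ?_⟩
    rw [herm_add_right hF, herm_smul_right, h5, h6, mul_zero, add_zero]
  · exact ⟨x, hx, h3, h5⟩

/-- two functionals at the same time -/
theorem exists_both (hF : Fintype.card F = q ^ 2) (hσ : Sg q σ) {c b b' : Fin n → F}
    (h1 : ∃ d, σ d = d ∧ hermForm n F q c d = 0 ∧ hermForm n F q b d ≠ 0)
    (h2 : ∃ d, σ d = d ∧ hermForm n F q c d = 0 ∧ hermForm n F q b' d ≠ 0) :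
    ∃ d, σ d = d ∧ hermForm n F q c d = 0 ∧ hermForm n F q b d ≠ 0 ∧ hermForm n F q b' d ≠ 0 := by
  obtain ⟨d, hd, hd1, hd2⟩ := h1
  obtain ⟨e, he, he1, he2⟩ := h2
  by_cases h3 : hermForm n F q b' d = 0
  · by_cases h4 : hermForm n F q b e = 0
    · refine ⟨d + e, by rw [hσ.add, hd, he], by rw [herm_add_right hF, hd1, he1, add_zero],
        by rwa [herm_add_right hF, h4, add_zero], by rwa [herm_add_right hF, h3, zero_add]⟩
    · exact ⟨e, he, he1, h4, he2⟩
  · exact ⟨d, hd, hd1, hd2, h3⟩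

end Sg

/-! ### The subgroups -/

/-- the elements commuting with `σ` -/
def Sp0 (σ : (Fin n → F) → (Fin n → F)) : Subgroup (SU n F q) where
  carrier := {g | ∀ v, σ (act g v) = act g (σ v)}
  one_mem' := fun v => by rw [act_one, act_one]
  mul_mem' := by
    intro a b ha hb v
    rw [act_mul, act_mul, ha, hb]
  inv_mem' := by
    intro a ha v
    apply act_injective a
    rw [← ha, act_act_inv, act_act_inv]

/-- the elements commuting with `σ` up to scalars -/
def NS (σ : (Fin n → F) → (Fin n → F)) : Subgroup (SU n F q) where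
  carrier := {g | ∃ k : F, k ≠ 0 ∧ ∀ v, σ (act g v) = k • act g (σ v)}
  one_mem' := ⟨1, one_ne_zero, fun v => by rw [act_one, act_one, one_smul]⟩
  mul_mem' := by
    rintro a b ⟨k, hk, ha⟩ ⟨l, hl, hb⟩
    refine ⟨k * l, mul_ne_zero hk hl, fun v => ?_⟩
    rw [act_mul, act_mul, ha, hb, act_smul, smul_smul]
  inv_mem' := by
    rintro a ⟨k, hk, ha⟩
    refine ⟨k⁻¹, inv_ne_zero hk, fun v => ?_⟩
    apply act_injective a
    have h1 := ha (act a⁻¹ v)
    rw [act_act_inv] at h1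
    rw [act_smul, act_act_inv, h1, smul_smul, inv_mul_cancel₀ hk, one_smul]

omit [Fintype F] in
theorem Sp0_le_NS (σ : (Fin n → F) → (Fin n → F)) : (Sp0 σ : Subgroup (SU n F q)) ≤ NS σ :=
  fun g hg => ⟨1, one_ne_zero, fun v => by rw [one_smul]; exact hg v⟩

/-- the multiples of fixed vectors -/
def FV (σ : (Fin n → F) → (Fin n → F)) (x : Fin n → F) : Prop := ∃ (c : F) (u : Fin n → F), σ u = u ∧ x = c • u

namespace Sg

variable {σ : (Fin n → F) → (Fin n → F)}

/-- transvections with a fixed vector commute with `σ` -/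
theorem hasT_fix (hF : Fintype.card F = q ^ 2) (hσ : Sg q σ) {x : Fin n → F} (hx : σ x = x) :
    HasT hF (Sp0 σ) x := by
  intro μ h v
  have hμ : μ ^ q = -μ := by
    have := h.tr
    rw [herm_zero_left, add_zero] at this
    exact (neg_eq_of_add_eq_zero_right this).symm
  rw [act_siegel, act_siegel, herm_zero_right hF, herm_zero_right hF, smul_zero, smul_zero, add_zero, add_zero,
    sub_zero, sub_zero, hσ.add, hσ.smul, hx, mul_pow, hμ]
  have h1 : hermForm n F q v x ^ q = -hermForm n F q (σ v) x := by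
    have h2 := hσ.herm hF v x
    rw [hx] at h2
    rw [← herm_swap hF, h2, neg_neg]
  rw [h1, neg_mul_neg]

theorem hasT_FV (hF : Fintype.card F = q ^ 2) (hσ : Sg q σ) {x : Fin n → F} (hx : FV σ x) :
    HasT hF (Sp0 σ) x := by
  obtain ⟨c, u, hu, rfl⟩ := hx
  exact (hσ.hasT_fix hF hu).smul c

/-- one step: `a ↦ a'` fixing all `c` with `h(c, a) = h(c, a')` -/
theorem step (hF : Fintype.card F = q ^ 2) (hσ : Sg q σ) {a a' : Fin n → F} (ha : σ a = a) (ha' : σ a' = a')
    (h : hermForm n F q a a' ≠ 0) : ∃ g ∈ (Sp0 σ : Subgroup (SU n F q)), act g a = a' ∧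
      ∀ c, hermForm n F q c a = hermForm n F q c a' → act g c = c := by
  have hd : σ (a' - a) = a' - a := by rw [hσ.sub, ha, ha']
  have hS : IsSiegel q (a' - a) 0 (hermForm n F q a a')⁻¹ := by
    refine ⟨hσ.iso_fix hd, herm_zero_left _, ?_⟩
    rw [herm_zero_left, inv_pow, hσ.herm_pow hF ha ha', inv_neg]
    ring
  refine ⟨siegel hF _ _ _ hS, hσ.hasT_fix hF hd _ hS, ?_, fun c hc => ?_⟩
  · rw [act_siegel, herm_zero_right hF, smul_zero, add_zero, sub_zero, herm_sub_right hF, hσ.iso_fix ha, sub_zero,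
      inv_mul_cancel₀ h, one_smul, add_sub_cancel]
  · rw [act_siegel, herm_zero_right hF, smul_zero, add_zero, sub_zero, herm_sub_right hF, hc, sub_self, mul_zero,
      zero_smul, add_zero]

/-- transitivity on the fixed vectors -/
theorem trans_one (hF : Fintype.card F = q ^ 2) (hσ : Sg q σ) {a a' : Fin n → F} (ha : σ a = a) (ha' : σ a' = a')
    (h0 : a ≠ 0) (h0' : a' ≠ 0) : ∃ g ∈ (Sp0 σ : Subgroup (SU n F q)), act g a = a' := by
  obtain ⟨d, hd, -, h1, h2⟩ := hσ.exists_both hF (c := 0) (b := a) (b' := a')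
    (by obtain ⟨d, hd, h⟩ := hσ.exists_herm_ne hF h0; exact ⟨d, hd, herm_zero_left _, h⟩)
    (by obtain ⟨d, hd, h⟩ := hσ.exists_herm_ne hF h0'; exact ⟨d, hd, herm_zero_left _, h⟩)
  obtain ⟨g, hg, hga, -⟩ := hσ.step hF ha hd h1
  obtain ⟨k, hk, hka, -⟩ := hσ.step hF hd ha' (herm_ne_swap hF h2)
  exact ⟨k * g, Subgroup.mul_mem _ hk hg, by rw [act_mul, hga, hka]⟩

/-- transitivity on the vectors orthogonal to a fixed vector -/
theorem trans_two (hF : Fintype.card F = q ^ 2) (hσ : Sg q σ) {c b b' : Fin n → F} (hc : σ c = c) (hb : σ b = b)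
    (hb' : σ b' = b') (hc0 : c ≠ 0) (h1 : hermForm n F q c b = 0) (h1' : hermForm n F q c b' = 0)
    (h2 : ∀ μ : F, b ≠ μ • c) (h2' : ∀ μ : F, b' ≠ μ • c) :
    ∃ g ∈ (Sp0 σ : Subgroup (SU n F q)), act g b = b' ∧ act g c = c := by
  obtain ⟨d, hd, hcd, h3, h4⟩ := hσ.exists_both hF (hσ.exists_perp_ne hF hc hc0 h2)
    (hσ.exists_perp_ne hF hc hc0 h2')
  obtain ⟨g, hg, hga, hgc⟩ := hσ.step hF hb hd h3
  obtain ⟨k, hk, hka, hkc⟩ := hσ.step hF hd hb' (herm_ne_swap hF h4)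
  refine ⟨k * g, Subgroup.mul_mem _ hk hg, by rw [act_mul, hga, hka], ?_⟩
  rw [act_mul, hgc c (by rw [h1, hcd]), hkc c (by rw [hcd, h1'])]

/-- the structure of the isotropic vectors which are not multiples of fixed vectors -/
theorem iso_decomp (hF : Fintype.card F = q ^ 2) (hσ : Sg q σ) {w : F} (hw : w ^ q ≠ w) {x : Fin n → F}
    (hx : hermForm n F q x x = 0) (hxV : ¬ FV σ x) :
    ∃ a b : Fin n → F, σ a = a ∧ σ b = b ∧ x = a + w • b ∧ a ≠ 0 ∧ (∀ μ : F, b ≠ μ • a) ∧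
      hermForm n F q a b = 0 := by
  obtain ⟨a, b, ha, hb, rfl⟩ := hσ.decomp hF hw x
  have ha0 : a ≠ 0 := by
    rintro rfl
    exact hxV ⟨w, b, hb, by rw [zero_add]⟩
  refine ⟨a, b, ha, hb, rfl, ha0, ?_, ?_⟩
  · rintro μ rfl
    exact hxV ⟨1 + w * μ, a, ha, by rw [add_smul, one_smul, mul_smul]⟩
  · rw [herm_add_left, herm_add_right hF, herm_add_right hF, herm_smul_left, herm_smul_left, herm_smul_right,
      herm_smul_right, hσ.iso_fix ha, hσ.iso_fix hb, hσ.herm_fix hF ha hb] at hx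
    have h1 : (w ^ q - w) * hermForm n F q a b = 0 := by linear_combination hx
    exact (mul_eq_zero.1 h1).resolve_left (sub_ne_zero.2 hw)

/-- **transitivity on the isotropic vectors which are not multiples of fixed vectors** -/
theorem trans_iso (hF : Fintype.card F = q ^ 2) (hσ : Sg q σ) {x y : Fin n → F}
    (hx : hermForm n F q x x = 0) (hxV : ¬ FV σ x) (hy : hermForm n F q y y = 0) (hyV : ¬ FV σ y) :
    ∃ g ∈ (Sp0 σ : Subgroup (SU n F q)), act g x = y := by
  obtain ⟨w, hw⟩ := exists_not_fixed hF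
  obtain ⟨a, b, ha, hb, rfl, ha0, hab, h1⟩ := hσ.iso_decomp hF hw hx hxV
  obtain ⟨a', b', ha', hb', rfl, ha0', hab', h1'⟩ := hσ.iso_decomp hF hw hy hyV
  obtain ⟨g, hg, hga⟩ := hσ.trans_one hF ha ha' ha0 ha0'
  obtain ⟨k, hk, hkb, hka⟩ := hσ.trans_two hF (c := a') (b := act g b) (b' := b') ha'
    (by rw [hg b, hb]) hb' ha0' (by rw [← hga, herm_act, h1]) h1' (by
      intro μ h
      apply hab μ
      apply act_injective g
      rw [h, act_smul, hga]) hab'
  refine ⟨k * g, Subgroup.mul_mem _ hk hg, ?_⟩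
  rw [act_mul, act_add, act_add, act_smul, act_smul, hga, hka, hkb]

/-- an element mapping fixed vectors to multiples of fixed vectors is in `NS σ` -/
theorem mem_NS (hF : Fintype.card F = q ^ 2) (hσ : Sg q σ) (hn : 0 < n) {g : SU n F q}
    (hg : ∀ v, σ v = v → FV σ (act g v)) : g ∈ (NS σ : Subgroup (SU n F q)) := by
  obtain ⟨w, hw⟩ := exists_not_fixed hF
  -- a fixed vector
  obtain ⟨v₀, hv₀, hv₀0⟩ : ∃ v₀ : Fin n → F, σ v₀ = v₀ ∧ v₀ ≠ 0 := by
    obtain ⟨a, b, ha, hb, h⟩ := hσ.decomp hF hw (Pi.single ⟨0, hn⟩ 1)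
    by_cases ha0 : a = 0
    · refine ⟨b, hb, ?_⟩
      rintro rfl
      rw [ha0, smul_zero, add_zero] at h
      have := congrFun h ⟨0, hn⟩
      rw [Pi.single_eq_same] at this
      exact one_ne_zero this
    · exact ⟨a, ha, ha0⟩
  have hk : ∀ v, σ v = v → v ≠ 0 → ∃ k : F, k ≠ 0 ∧ σ (act g v) = k • act g v := by
    intro v hv hv0
    obtain ⟨c, u, hu, he⟩ := hg v hv
    have hc : c ≠ 0 := by
      rintro rfl
      rw [zero_smul] at he
      exact hv0 ((act_eq_zero g).1 he)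
    refine ⟨c ^ q * c⁻¹, mul_ne_zero (pow_ne_zero _ hc) (inv_ne_zero hc), ?_⟩
    rw [he, hσ.smul, hu, smul_smul, mul_assoc, inv_mul_cancel₀ hc, mul_one]
  obtain ⟨k, hk0, hkv⟩ := hk v₀ hv₀ hv₀0
  have key : ∀ v, σ v = v → σ (act g v) = k • act g v := by
    intro v hv
    by_cases hm : ∃ μ : F, v = μ • v₀
    · obtain ⟨μ, rfl⟩ := hm
      have hμ : μ ^ q = μ := by
        rw [hσ.smul, hv₀] at hv
        exact smul_left_injective F hv₀0 hv
      rw [act_smul, hσ.smul, hμ, hkv, smul_comm]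
    · push Not at hm
      have hv0 : v ≠ 0 := fun h => hm 0 (by rw [h, zero_smul])
      obtain ⟨l, hl0, hl⟩ := hk v hv hv0
      obtain ⟨m, hm0, hm'⟩ := hk (v + v₀) (by rw [hσ.add, hv, hv₀]) (by
        intro h
        apply hm (-1)
        rw [neg_one_smul]
        exact eq_neg_of_add_eq_zero_left h)
      rw [act_add, hσ.add, hl, hkv, smul_add] at hm'
      -- `(l - m) g v = (m - k) g v₀`
      have h1 : (l - m) • act g v = (m - k) • act g v₀ := by
        rw [sub_smul, sub_smul]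
        have := hm'
        rw [← sub_eq_zero] at this ⊢
        rw [← this]
        abel
      have h2 : l = m := by
        by_contra hlm
        have h3 : l - m ≠ 0 := sub_ne_zero.2 hlm
        apply hm ((l - m)⁻¹ * (m - k))
        apply act_injective g
        rw [act_smul, mul_smul, ← h1, smul_smul, inv_mul_cancel₀ h3, one_smul]
      have h4 : m = k := by
        rw [h2, sub_self, zero_smul] at h1
        have h5 : act g v₀ ≠ 0 := fun h => hv₀0 ((act_eq_zero g).1 h)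
        exact sub_eq_zero.1 ((smul_eq_zero.1 h1.symm).resolve_right h5)
      rw [hl, h2, h4]
  refine ⟨k, hk0, fun v => ?_⟩
  obtain ⟨a, b, ha, hb, rfl⟩ := hσ.decomp hF hw v
  rw [act_add, act_smul, hσ.add, hσ.smul, key a ha, key b hb, hσ.add, hσ.smul, ha, hb, act_add, act_smul, smul_add,
    smul_comm]

/-- `x` is a multiple of a fixed vector iff `σ x` is a multiple of `x` -/
theorem FV_of_smul (hF : Fintype.card F = q ^ 2) (hσ : Sg q σ) {x : Fin n → F} {k : F} (h : σ x = k • x) : FV σ x := by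
  obtain ⟨w, hw⟩ : ∃ w : F, w + w ^ q * k ≠ 0 := by
    by_contra hc
    push Not at hc
    obtain ⟨w, hw⟩ := exists_not_fixed hF
    have h1 := hc 1
    have h2 := hc w
    rw [one_pow, one_mul] at h1
    have h3 : k = -1 := by linear_combination h1
    rw [h3] at h2
    apply hw
    linear_combination -h2
  refine ⟨(w + w ^ q * k)⁻¹, w • x + σ (w • x), by rw [hσ.add, hσ.inv, add_comm], ?_⟩
  rw [hσ.smul, h, smul_smul, ← add_smul, smul_smul, inv_mul_cancel₀ hw, one_smul]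

theorem smul_of_FV (hσ : Sg q σ) {x : Fin n → F} (h : FV σ x) : ∃ k : F, σ x = k • x := by
  obtain ⟨c, u, hu, rfl⟩ := h
  by_cases hc : c = 0
  · exact ⟨0, by rw [hc, zero_smul, zero_smul, hσ.zero]⟩
  · exact ⟨c ^ q * c⁻¹, by rw [hσ.smul, hu, smul_smul, mul_assoc, inv_mul_cancel₀ hc, mul_one]⟩

theorem FV_act (hF : Fintype.card F = q ^ 2) (hσ : Sg q σ) {g : SU n F q} (hg : g ∈ (NS σ : Subgroup (SU n F q)))
    {x : Fin n → F} (hx : FV σ x) : FV σ (act g x) := by
  obtain ⟨k, -, hk⟩ := hg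
  obtain ⟨l, hl⟩ := hσ.smul_of_FV hx
  exact hσ.FV_of_smul hF (k := k * l) (by rw [hk, hl, act_smul, smul_smul])

/-- there are isotropic vectors which are not multiples of fixed vectors, and nonzero fixed vectors -/
theorem exists_fix_and_not (hF : Fintype.card F = q ^ 2) (hσ : Sg q σ) (hn : 3 ≤ n) :
    ∃ a y : Fin n → F, σ a = a ∧ a ≠ 0 ∧ hermForm n F q y y = 0 ∧ ¬ FV σ y := by
  obtain ⟨w, hw⟩ := exists_not_fixed hF
  obtain ⟨a, ha, ha0⟩ : ∃ v₀ : Fin n → F, σ v₀ = v₀ ∧ v₀ ≠ 0 := by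
    obtain ⟨a, b, ha, hb, h⟩ := hσ.decomp hF hw (Pi.single ⟨0, by omega⟩ 1)
    by_cases ha0 : a = 0
    · refine ⟨b, hb, ?_⟩
      rintro rfl
      rw [ha0, smul_zero, add_zero] at h
      have := congrFun h ⟨0, by omega⟩
      rw [Pi.single_eq_same] at this
      exact one_ne_zero this
    · exact ⟨a, ha, ha0⟩
  -- a fixed vector `b` orthogonal to `a` and independent of it
  obtain ⟨b, hb, hab, hb2⟩ : ∃ b, σ b = b ∧ hermForm n F q a b = 0 ∧ ∀ μ : F, b ≠ μ • a := by
    obtain ⟨e, he, hae⟩ := hσ.exists_herm_ne hF ha0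
    obtain ⟨x, -, hx0, hxa, hxe⟩ := exists_ne_zero_perp (q := q) hF hn le_rfl a e
    obtain ⟨c, d, hc, hd, rfl⟩ := hσ.decomp hF hw x
    obtain ⟨h1, h2⟩ := hσ.perp_decomp hF hw ha hc hd (herm_eq_zero_swap hF hxa)
    by_cases h3 : ∃ μ : F, c = μ • a
    · by_cases h4 : ∃ μ : F, d = μ • a
      · exfalso
        obtain ⟨μ, rfl⟩ := h3
        obtain ⟨ν, rfl⟩ := h4
        apply hx0
        have h5 : (μ + w * ν) * hermForm n F q a e = 0 := by
          rw [← hxe, herm_add_left, herm_smul_left, herm_smul_left, herm_smul_left]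
          ring
        have h6 := (mul_eq_zero.1 h5).resolve_right hae
        rw [smul_smul, ← add_smul, h6, zero_smul]
      · push Not at h4
        exact ⟨d, hd, h2, h4⟩
    · push Not at h3
      exact ⟨c, hc, h1, h3⟩
  refine ⟨a, a + w • b, ha, ha0, ?_, ?_⟩
  · rw [herm_add_left, herm_add_right hF, herm_add_right hF, herm_smul_left, herm_smul_left, herm_smul_right,
      herm_smul_right, hσ.iso_fix ha, hσ.iso_fix hb, hσ.herm_fix hF ha hb, hab]
    ring
  · intro h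
    obtain ⟨k, hk⟩ := hσ.smul_of_FV h
    rw [hσ.add, hσ.smul, ha, hb, smul_add, smul_smul] at hk
    -- `(1 - k) a = (k w - w^q) b`
    have h1 : (w ^ q - k * w) • b = (k - 1) • a := by
      rw [sub_smul, sub_smul, one_smul]
      rw [← sub_eq_zero] at hk ⊢
      rw [← hk]
      abel
    by_cases h2 : w ^ q - k * w = 0
    · rw [h2, zero_smul] at h1
      have h3 : k = 1 := sub_eq_zero.1 ((smul_eq_zero.1 h1.symm).resolve_right ha0)
      rw [h3, one_mul, sub_eq_zero] at h2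
      exact hw h2
    · apply hb2 ((w ^ q - k * w)⁻¹ * (k - 1))
      rw [mul_smul, ← h1, smul_smul, inv_mul_cancel₀ h2, one_smul]

theorem NS_ne_top (hF : Fintype.card F = q ^ 2) (hσ : Sg q σ) (hn : 3 ≤ n) :
    (NS σ : Subgroup (SU n F q)) ≠ ⊤ := by
  intro htop
  obtain ⟨a, y, ha, ha0, hy, hyV⟩ := hσ.exists_fix_and_not hF hn
  have hy0 : y ≠ 0 := by
    rintro rfl
    exact hyV ⟨0, 0, hσ.zero, by rw [smul_zero]⟩
  obtain ⟨g, -, hg⟩ := exists_map_iso (q := q) hF hn le_rfl (mem_coordSub_self a) (mem_coordSub_self y) ha0 hy0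
    (hσ.iso_fix ha) hy
  apply hyV
  rw [← hg]
  exact hσ.FV_act hF (by rw [htop]; trivial) ⟨1, a, ha, by rw [one_smul]⟩

/-- overgroups of `Sp0 σ` not in `NS σ` -/
theorem top_of_not_le (hF : Fintype.card F = q ^ 2) (hσ : Sg q σ) (hn : 3 ≤ n) (h32 : ¬ (n = 3 ∧ q = 2))
    {K : Subgroup (SU n F q)} (hK : Sp0 σ ≤ K) (hK' : ¬ K ≤ NS σ) : K = ⊤ := by
  obtain ⟨g, hg, hg'⟩ := SetLike.not_le_iff_exists.1 hK'
  obtain ⟨v, hv, hgv⟩ : ∃ v, σ v = v ∧ ¬ FV σ (act g v) := by
    by_contra hc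
    push Not at hc
    exact hg' (hσ.mem_NS hF (by omega) hc)
  apply top_of_hasT hF hn h32
  intro y hy
  by_cases hyV : FV σ y
  · exact (hσ.hasT_FV hF hyV).mono hK
  · obtain ⟨k, hk, he⟩ := hσ.trans_iso hF (x := act g v) (y := y) (by rw [herm_act, hσ.iso_fix hv]) hgv hy hyV
    rw [← he]
    exact (((hσ.hasT_fix hF hv).mono hK).move hg).move (hK hk)

/-- **`NS σ` is maximal** -/
theorem isCoatom_NS (hF : Fintype.card F = q ^ 2) (hσ : Sg q σ) (hn : 3 ≤ n) (h32 : ¬ (n = 3 ∧ q = 2)) :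
    IsCoatom (NS σ : Subgroup (SU n F q)) :=
  ⟨hσ.NS_ne_top hF hn, fun _ hK => hσ.top_of_not_le hF hn h32 ((Sp0_le_NS σ).trans hK.le) (not_le_of_gt hK)⟩

/-- `Sp0 σ` is irreducible -/
theorem irr_Sp0 (hF : Fintype.card F = q ^ 2) (hσ : Sg q σ) : Irr (Sp0 σ : Subgroup (SU n F q)) := by
  intro W hW
  obtain ⟨w, hw⟩ := exists_not_fixed hF
  obtain ⟨μ, hμ0, hμ⟩ := exists_trace_zero_ne hF
  by_cases h : ∃ x ∈ W, ∃ u, σ u = u ∧ hermForm n F q x u ≠ 0
  · right
    obtain ⟨x, hx, u, hu, hxu⟩ := h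
    have hS : IsSiegel q u 0 μ := ⟨hσ.iso_fix hu, herm_zero_left _, by rw [herm_zero_left, add_zero, hμ]⟩
    have h1 := W.sub_mem (hW _ (hσ.hasT_fix hF hu _ hS) _ hx) hx
    rw [act_siegel, herm_zero_right hF, smul_zero, add_zero, sub_zero, add_sub_cancel_left] at h1
    have huW : u ∈ W := by
      have := W.smul_mem (μ * hermForm n F q x u)⁻¹ h1
      rwa [smul_smul, inv_mul_cancel₀ (mul_ne_zero hμ0 hxu), one_smul] at this
    have hu0 : u ≠ 0 := by
      rintro rfl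
      exact hxu (herm_zero_right hF _)
    have h2 : ∀ v, σ v = v → v ∈ W := by
      intro v hv
      by_cases hv0 : v = 0
      · rw [hv0]; exact W.zero_mem
      · obtain ⟨g, hg, he⟩ := hσ.trans_one hF hu hv hu0 hv0
        rw [← he]
        exact hW g hg u huW
    rw [eq_top_iff]
    intro v _
    obtain ⟨a, b, ha, hb, rfl⟩ := hσ.decomp hF hw v
    exact W.add_mem (h2 a ha) (W.smul_mem w (h2 b hb))
  · left
    push Not at h
    rw [eq_bot_iff]
    intro x hx
    rw [Submodule.mem_bot]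
    by_contra hx0
    apply hx0
    apply herm_nondeg hF
    intro v
    obtain ⟨a, b, ha, hb, rfl⟩ := hσ.decomp hF hw v
    rw [herm_add_right hF, herm_smul_right, h x hx a ha, h x hx b hb, mul_zero, add_zero]

theorem irr_NS (hF : Fintype.card F = q ^ 2) (hσ : Sg q σ) : Irr (NS σ : Subgroup (SU n F q)) :=
  (hσ.irr_Sp0 hF).mono (Sp0_le_NS σ)

omit [Fintype F] in
theorem center_le_NS (hσ : Sg q σ) {c : F} (hc : c ≠ 0) {g : SU n F q} (hg : ∀ v, act g v = c • v) :
    g ∈ (NS σ : Subgroup (SU n F q)) := by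
  refine ⟨c ^ q * c⁻¹, mul_ne_zero (pow_ne_zero _ hc) (inv_ne_zero hc), fun v => ?_⟩
  rw [hg, hg, hσ.smul, smul_smul, mul_assoc, inv_mul_cancel₀ hc, mul_one]

end Sg

end Cfsg.Agent.H950.Su
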