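import Mathlib
import Cfsg.Agent.H950.SuSg
import Cfsg.Agent.LieClassical.SUBasic

/-!
# The monomial subgroup of `SU n F q` (helper950)

`Mono` : the elements preserving the Hamming weight. It is irreducible (`n ≥ 3`), proper, and not contained in a
conjugate of `NS σ` (`n ≥ 4`).
-/

set_option autoImplicit false

namespace Cfsg.Agent.H950.Su

open Cfsg Cfsg.Agent.LieClassical.HermBasic Cfsg.Agent.LieClassical.HermSiegel
  Cfsg.Agent.LieClassical.HermGen Cfsg.Agent.LieClassical.HermSimple Cfsg.Agent.LieClassical.HermPerfect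
  Cfsg.Agent.LieClassical.SUBasic

section Basic

variable {F : Type*} [Field F] {q n : ℕ}

/-- the Hamming weight -/
noncomputable def wt (v : Fin n → F) : ℕ := Nat.card {i // v i ≠ 0}

/-- the monomial subgroup -/
def Mono (n : ℕ) (F : Type*) [Field F] (q : ℕ) : Subgroup (SU n F q) where
  carrier := {g | ∀ v, wt (act g v) = wt v}
  one_mem' := fun v => by rw [act_one]
  mul_mem' := by
    intro a b ha hb v
    rw [act_mul, ha, hb]
  inv_mem' := by
    intro a ha v
    have := ha (act a⁻¹ v)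
    rw [act_act_inv] at this
    exact this.symm

theorem act_diag (a : Fin n → F) (hd : ∏ i, a i = 1) (ha : ∀ i, a i ^ (q + 1) = 1) (v : Fin n → F) :
    act (suDiag q a hd ha) v = fun i => a i * v i := by
  funext i
  rw [act, show mat (suDiag q a hd ha) = Matrix.diagonal a from rfl, Matrix.mulVec_diagonal]

theorem act_perm (π : Equiv.Perm (Fin n)) (hπ : Equiv.Perm.sign π = 1) (v : Fin n → F) :
    act (suPerm q π hπ) v = v ∘ π := by
  rw [act, show mat (suPerm q π hπ : SU n F q) = π.permMatrix F from rfl, Matrix.permMatrix_mulVec]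

theorem diag_mem (a : Fin n → F) (hd : ∏ i, a i = 1) (ha : ∀ i, a i ^ (q + 1) = 1) :
    suDiag q a hd ha ∈ Mono n F q := by
  intro v
  rw [act_diag]
  unfold wt
  have hne : ∀ i, a i ≠ 0 := by
    intro i h
    have := ha i
    rw [h, zero_pow (Nat.succ_ne_zero q)] at this
    exact zero_ne_one this
  apply Nat.card_congr
  exact Equiv.subtypeEquivRight fun i => by simp [hne i]

theorem perm_mem (π : Equiv.Perm (Fin n)) (hπ : Equiv.Perm.sign π = 1) : suPerm q π hπ ∈ Mono n F q := by
  intro v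
  rw [act_perm]
  unfold wt
  exact Nat.card_congr (π.subtypeEquiv fun i => by simp)

/-- the diagonal element with `c` at `i`, `c⁻¹` at `j` -/
def dvec (i j : Fin n) (c : F) (m : Fin n) : F := (if m = i then c else 1) * (if m = j then c⁻¹ else 1)

theorem dvec_prod (i j : Fin n) {c : F} (hc : c ≠ 0) : ∏ m, dvec i j c m = 1 := by
  unfold dvec
  rw [Finset.prod_mul_distrib, Finset.prod_ite_eq', Finset.prod_ite_eq']
  simp [hc]

theorem dvec_pow (i j : Fin n) {c : F} (hc : c ^ (q + 1) = 1) (m : Fin n) : dvec i j c m ^ (q + 1) = 1 := by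
  unfold dvec
  rw [mul_pow]
  split_ifs <;> simp [hc]

theorem dvec_left {i j : Fin n} (hij : i ≠ j) (c : F) : dvec i j c i = c := by
  simp [dvec, hij]

theorem dvec_right {i j : Fin n} (hij : i ≠ j) (c : F) : dvec i j c j = c⁻¹ := by
  simp [dvec, hij.symm]

theorem dvec_other {i j m : Fin n} (hi : m ≠ i) (hj : m ≠ j) (c : F) : dvec i j c m = 1 := by
  simp [dvec, hi, hj]

theorem ne_zero_of_pow {c : F} (hc : c ^ (q + 1) = 1) : c ≠ 0 := by
  rintro rfl
  rw [zero_pow (Nat.succ_ne_zero q)] at hc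
  exact zero_ne_one hc

/-- the diagonal element -/
def dg (q : ℕ) (i j : Fin n) {c : F} (hc : c ^ (q + 1) = 1) : SU n F q :=
  suDiag q (dvec i j c) (dvec_prod i j (ne_zero_of_pow hc)) (dvec_pow i j hc)

theorem act_dg (i j : Fin n) {c : F} (hc : c ^ (q + 1) = 1) (v : Fin n → F) :
    act (dg q i j hc) v = fun m => dvec i j c m * v m := act_diag _ _ _ v

theorem dg_mem (i j : Fin n) {c : F} (hc : c ^ (q + 1) = 1) : dg q i j hc ∈ Mono n F q := diag_mem _ _ _

end Basic

variable {F : Type*} [Field F] [Fintype F] {q n : ℕ}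

/-- an element of norm one and order at least three -/
theorem exists_norm_one_sq (hF : Fintype.card F = q ^ 2) : ∃ c : F, c ^ (q + 1) = 1 ∧ c ≠ 1 ∧ c ^ 2 ≠ 1 := by
  classical
  by_contra hcon
  push Not at hcon
  have h1 : ∀ c : F, c * c ^ q = 1 → c ≠ 1 → c = -1 := by
    intro c hc h
    have h2 := hcon c (by rw [pow_succ', hc]) h
    have h3 : (c - 1) * (c + 1) = 0 := by linear_combination h2
    exact eq_neg_of_add_eq_zero_left ((mul_eq_zero.1 h3).resolve_left (sub_ne_zero.2 h))
  have h2 : Nat.card {x : F // x * x ^ q = 1} ≤ Nat.card Bool := by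
    apply Nat.card_le_card_of_injective (fun x => decide (x.1 = 1))
    intro x y hxy
    apply Subtype.ext
    by_cases hx : x.1 = 1
    · by_cases hy : y.1 = 1
      · rw [hx, hy]
      · simp [hx, hy] at hxy
    · by_cases hy : y.1 = 1
      · simp [hx, hy] at hxy
      · rw [h1 _ x.2 hx, h1 _ y.2 hy]
  rw [card_norm_eq_one hF, Nat.card_eq_fintype_card, Fintype.card_bool] at h2
  have := two_le hF
  omega

/-- **`Mono` is irreducible** -/
theorem irr_Mono (hF : Fintype.card F = q ^ 2) (hn : 3 ≤ n) : Irr (Mono n F q) := by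
  intro W hW
  obtain ⟨c, hc, hc1⟩ := exists_norm_one (q := q) hF
  by_cases h : ∃ w ∈ W, ∃ i, w i ≠ 0
  · right
    obtain ⟨w, hw, i, hwi⟩ := h
    obtain ⟨j, hj⟩ : ∃ j : Fin n, j ≠ i := by
      by_contra hcon
      push Not at hcon
      have h1 := hcon ⟨0, by omega⟩
      have h2 := hcon ⟨1, by omega⟩
      rw [← h2, Fin.mk.injEq] at h1
      omega
    have hthird : ∀ a b : Fin n, ∃ k : Fin n, k ≠ a ∧ k ≠ b := by
      intro a b
      by_contra hcon
      push Not at hcon
      have h0 := hcon ⟨0, by omega⟩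
      have h1 := hcon ⟨1, by omega⟩
      have h2 := hcon ⟨2, by omega⟩
      rw [Ne, Fin.ext_iff, Fin.ext_iff] at h0 h1 h2
      simp only at h0 h1 h2
      omega
    obtain ⟨k, hki, hkj⟩ := hthird i j
    have h1 := W.sub_mem (hW _ (dg_mem i j hc) _ hw) hw
    have h2 := W.sub_mem (hW _ (dg_mem i k hc) _ h1) h1
    have h3 : (act (dg q i k hc) (act (dg q i j hc) w - w) - (act (dg q i j hc) w - w)) =
        ((c - 1) * (c - 1) * w i) • (Pi.single i 1 : Fin n → F) := by
      rw [act_dg, act_dg]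
      funext m
      simp only [Pi.sub_apply, Pi.smul_apply, smul_eq_mul]
      by_cases hmi : m = i
      · subst hmi
        rw [dvec_left hki.symm, dvec_left hj.symm, Pi.single_eq_same]
        ring
      · rw [Pi.single_eq_of_ne hmi]
        by_cases hmj : m = j
        · subst hmj
          rw [dvec_other hmi (Ne.symm hkj)]
          ring
        · rw [dvec_other hmi hmj]
          ring
    rw [h3] at h2
    have hei : (Pi.single i 1 : Fin n → F) ∈ W := by
      have h4 : (c - 1) * (c - 1) * w i ≠ 0 := mul_ne_zero (mul_ne_zero (sub_ne_zero.2 hc1) (sub_ne_zero.2 hc1)) hwi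
      have := W.smul_mem ((c - 1) * (c - 1) * w i)⁻¹ h2
      rwa [smul_smul, inv_mul_cancel₀ h4, one_smul] at this
    have hall : ∀ m, (Pi.single m 1 : Fin n → F) ∈ W := by
      intro m
      by_cases hmi : m = i
      · rw [hmi]; exact hei
      obtain ⟨l, hlm, hli⟩ := hthird m i
      have hsg : Equiv.Perm.sign (Equiv.swap i l * Equiv.swap l m) = 1 := by
        rw [Equiv.Perm.sign_mul, Equiv.Perm.sign_swap (Ne.symm hli), Equiv.Perm.sign_swap hlm]
        rfl
      have h5 := hW _ (perm_mem (q := q) _ hsg) _ hei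
      rw [act_perm] at h5
      have h6 : (Equiv.swap i l * Equiv.swap l m) m = i := by
        rw [Equiv.Perm.mul_apply, Equiv.swap_apply_right, Equiv.swap_apply_right]
      have h7 : ((Pi.single i 1 : Fin n → F) ∘ (Equiv.swap i l * Equiv.swap l m)) = Pi.single m 1 := by
        funext t
        rw [Function.comp_apply]
        by_cases htm : t = m
        · rw [htm, h6, Pi.single_eq_same, Pi.single_eq_same]
        · rw [Pi.single_eq_of_ne htm, Pi.single_eq_of_ne]
          intro h8
          exact htm ((Equiv.swap i l * Equiv.swap l m).injective (h8.trans h6.symm))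
      rwa [h7] at h5
    rw [eq_top_iff]
    intro v _
    have : v = ∑ m, v m • (Pi.single m 1 : Fin n → F) := by
      funext j
      simp [Finset.sum_apply, Pi.single_apply]
    rw [this]
    exact W.sum_mem fun m _ => W.smul_mem _ (hall m)
  · left
    push Not at h
    rw [eq_bot_iff]
    intro x hx
    rw [Submodule.mem_bot]
    funext i
    exact h x hx i

/-- **`Mono` is not contained in `NS σ`**, `n ≥ 4` -/
theorem Mono_not_le (hF : Fintype.card F = q ^ 2) (hn : 4 ≤ n) {τ : (Fin n → F) → (Fin n → F)} (hτ : Sg q τ) :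
    ¬ Mono n F q ≤ NS τ := by
  intro hle
  obtain ⟨c, hc, hc1, hc2⟩ := exists_norm_one_sq (q := q) hF
  have hc0 := ne_zero_of_pow hc
  have hcq : c ^ q = c⁻¹ := by
    rw [← mul_left_inj' hc0, inv_mul_cancel₀ hc0, ← pow_succ, hc]
  let i0 : Fin n := ⟨0, by omega⟩
  have hs0 : τ (Pi.single i0 1) i0 = 0 := by
    have := hτ.alt (Pi.single i0 1)
    rw [herm_single_left, one_mul, pow_q_eq_zero hF] at this
    exact this
  have hsne : τ (Pi.single i0 1) ≠ 0 := by
    intro h
    have h1 := hτ.inv (Pi.single i0 1)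
    rw [h, hτ.zero] at h1
    have := congrFun h1 i0
    rw [Pi.single_eq_same] at this
    exact zero_ne_one this
  obtain ⟨j, hj⟩ := Function.ne_iff.1 hsne
  rw [Pi.zero_apply] at hj
  have hji : j ≠ i0 := by
    rintro rfl
    exact hj hs0
  obtain ⟨k, hk0, hkj⟩ : ∃ k : Fin n, k ≠ i0 ∧ k ≠ j := by
    by_contra hcon
    push Not at hcon
    have h1 := hcon ⟨1, by omega⟩ (by simp [i0])
    have h2 := hcon ⟨2, by omega⟩ (by simp [i0])
    rw [← h2, Fin.mk.injEq] at h1
    omega
  obtain ⟨l, hl0, hlj, hlk⟩ : ∃ l : Fin n, l ≠ i0 ∧ l ≠ j ∧ l ≠ k := by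
    by_contra hcon
    push Not at hcon
    have h1 := hcon ⟨1, by omega⟩ (by simp [i0])
    have h2 := hcon ⟨2, by omega⟩ (by simp [i0])
    have h3 := hcon ⟨3, by omega⟩ (by simp [i0])
    rw [Ne, Fin.ext_iff, Fin.ext_iff] at h1 h2 h3
    simp only at h1 h2 h3
    omega
  obtain ⟨κ, hκ0, hκ⟩ := hle (dg_mem (q := q) i0 k hc)
  have hκc : κ = c⁻¹ := by
    have h1 := hκ (Pi.single i0 1)
    have h2 : act (dg q i0 k hc) (Pi.single i0 1) = c • (Pi.single i0 1 : Fin n → F) := by
      rw [act_dg]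
      funext m
      rw [Pi.smul_apply, smul_eq_mul]
      by_cases hm : m = i0
      · rw [hm, dvec_left hk0.symm]
      · rw [Pi.single_eq_of_ne hm, mul_zero, mul_zero]
    rw [h2, hτ.smul, hcq, act_dg] at h1
    have h3 := congrFun h1 j
    simp only [Pi.smul_apply, smul_eq_mul] at h3
    rw [dvec_other hji (Ne.symm hkj), one_mul] at h3
    exact (mul_right_cancel₀ hj h3).symm
  have key : ∀ m : Fin n, m ≠ i0 → m ≠ k → ∀ t, t ≠ i0 → τ (Pi.single m 1) t = 0 := by
    intro m hm0 hmk t ht0
    have h1 := hκ (Pi.single m 1)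
    have h2 : act (dg q i0 k hc) (Pi.single m 1) = (Pi.single m 1 : Fin n → F) := by
      rw [act_dg]
      funext t
      by_cases ht : t = m
      · rw [ht, dvec_other hm0 hmk, one_mul]
      · rw [Pi.single_eq_of_ne ht, mul_zero]
    rw [h2, act_dg, hκc] at h1
    have h3 := congrFun h1 t
    simp only [Pi.smul_apply, smul_eq_mul] at h3
    by_cases htk : t = k
    · rw [htk, dvec_right hk0.symm] at h3
      rw [htk]
      have h4 : (c⁻¹ * c⁻¹ - 1) * τ (Pi.single m 1) k = 0 := by linear_combination -h3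
      refine (mul_eq_zero.1 h4).resolve_left fun h5 => hc2 ?_
      have h6 : c⁻¹ * c⁻¹ = 1 := sub_eq_zero.1 h5
      rw [← mul_inv, inv_eq_one] at h6
      rw [pow_two, h6]
    · rw [dvec_other ht0 htk, one_mul] at h3
      have h4 : (c⁻¹ - 1) * τ (Pi.single m 1) t = 0 := by linear_combination -h3
      refine (mul_eq_zero.1 h4).resolve_left fun h5 => hc1 ?_
      exact inv_eq_one.1 (sub_eq_zero.1 h5)
  have hform : ∀ m : Fin n, m ≠ i0 → m ≠ k →
      (Pi.single m 1 : Fin n → F) = (τ (Pi.single m 1) i0) ^ q • τ (Pi.single i0 1) := by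
    intro m hm0 hmk
    have h1 : τ (Pi.single m 1) = (τ (Pi.single m 1) i0) • (Pi.single i0 1 : Fin n → F) := by
      funext t
      rw [Pi.smul_apply, smul_eq_mul]
      by_cases ht : t = i0
      · rw [ht, Pi.single_eq_same, mul_one]
      · rw [Pi.single_eq_of_ne ht, mul_zero, key m hm0 hmk t ht]
    conv_lhs => rw [← hτ.inv (Pi.single m 1), h1, hτ.smul]
  have hj1 := hform j hji hkj.symm
  have hl1 := hform l hl0 hlk
  have h1 := congrFun hj1 l
  have h2 := congrFun hl1 l
  have h3 := congrFun hl1 j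
  rw [Pi.single_eq_of_ne hlj, Pi.smul_apply, smul_eq_mul] at h1
  rw [Pi.single_eq_same, Pi.smul_apply, smul_eq_mul] at h2
  rw [Pi.single_eq_of_ne hlj.symm, Pi.smul_apply, smul_eq_mul] at h3
  have h4 : τ (Pi.single l 1) i0 ^ q = 0 := (mul_eq_zero.1 h3.symm).resolve_right hj
  rw [h4, zero_mul] at h2
  exact one_ne_zero h2

/-- conjugates -/
theorem Sg.conj {σ : (Fin n → F) → (Fin n → F)} (hσ : Sg q σ) (g : SU n F q) :
    Sg q (fun v => act g⁻¹ (σ (act g v))) where
  add := fun u v => by rw [act_add, hσ.add, act_add]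
  smul := fun c v => by rw [act_smul, hσ.smul, act_smul]
  inv := fun u => by rw [act_act_inv, hσ.inv, act_inv_act]
  alt := fun u => by
    rw [← herm_act_left, hσ.alt]

theorem mem_NS_conj {σ : (Fin n → F) → (Fin n → F)} {g x : SU n F q}
    (h : g * x * g⁻¹ ∈ (NS σ : Subgroup (SU n F q))) : x ∈ NS (fun v => act g⁻¹ (σ (act g v))) := by
  obtain ⟨k, hk, hkv⟩ := h
  refine ⟨k, hk, fun v => ?_⟩
  have h1 := hkv (act g v)
  rw [act_mul, act_inv_act, act_mul, act_mul, act_mul] at h1
  show act g⁻¹ (σ (act g (act x v))) = k • act x (act g⁻¹ (σ (act g v)))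
  rw [h1, act_smul, act_inv_act]

/-- **`Mono` is not contained in a conjugate of `NS σ`** -/
theorem Mono_not_le_conj (hF : Fintype.card F = q ^ 2) (hn : 4 ≤ n) {σ : (Fin n → F) → (Fin n → F)} (hσ : Sg q σ)
    (g : SU n F q) : ∃ x ∈ Mono n F q, g * x * g⁻¹ ∉ (NS σ : Subgroup (SU n F q)) := by
  by_contra hcon
  push Not at hcon
  exact Mono_not_le hF hn (hσ.conj g) fun x hx => mem_NS_conj (hcon x hx)

/-- **`Mono` is proper**, `n ≥ 4` -/
theorem Mono_ne_top (hF : Fintype.card F = q ^ 2) (hn : 4 ≤ n) : Mono n F q ≠ ⊤ := by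
  intro htop
  obtain ⟨a, ha0, ha⟩ := exists_norm_eq_ne hF (c := (-1 : F)) (by rw [neg_pow_q hF, one_pow])
    (neg_ne_zero.2 one_ne_zero)
  let i : Fin 4 → Fin n := fun j => ⟨j.val, by omega⟩
  have hi : Function.Injective i := by
    intro x y h
    rw [Fin.mk.injEq] at h
    exact Fin.ext h
  let x : Fin n → F := Pi.single (i 0) 1 + a • Pi.single (i 1) 1
  let y : Fin n → F := (Pi.single (i 0) 1 + a • Pi.single (i 1) 1) + (Pi.single (i 2) 1 + a • Pi.single (i 3) 1)
  have h01 : i 0 ≠ i 1 := hi.ne (by decide)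
  have h02 : i 0 ≠ i 2 := hi.ne (by decide)
  have h03 : i 0 ≠ i 3 := hi.ne (by decide)
  have h12 : i 1 ≠ i 2 := hi.ne (by decide)
  have h13 : i 1 ≠ i 3 := hi.ne (by decide)
  have h23 : i 2 ≠ i 3 := hi.ne (by decide)
  have hss : ∀ s t : Fin n, s ≠ t → hermForm n F q (Pi.single s 1) (Pi.single t 1) = 0 := by
    intro s t hst
    rw [herm_single_right hF, Pi.single_eq_of_ne hst.symm, zero_mul]
  have hs1 : ∀ s : Fin n, hermForm n F q (Pi.single s 1) (Pi.single s 1) = 1 := by
    intro s
    rw [herm_single_right hF, Pi.single_eq_same, one_pow, mul_one]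
  have hx : hermForm n F q x x = 0 := by
    simp only [x, herm_add_left, herm_add_right hF, herm_smul_left, herm_smul_right, hs1, hss _ _ h01,
      hss _ _ h01.symm]
    linear_combination ha
  have hy : hermForm n F q y y = 0 := by
    simp only [y, herm_add_left, herm_add_right hF, herm_smul_left, herm_smul_right, hs1, hss _ _ h01,
      hss _ _ h01.symm, hss _ _ h02, hss _ _ h02.symm, hss _ _ h03, hss _ _ h03.symm, hss _ _ h12, hss _ _ h12.symm,
      hss _ _ h13, hss _ _ h13.symm, hss _ _ h23, hss _ _ h23.symm]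
    linear_combination 2 * ha
  have hyi : ∀ j : Fin 4, y (i j) ≠ 0 := by
    intro j
    fin_cases j
    · simp [y, h01, h02, h03]
    · simp [y, h01.symm, h12, h13, ha0]
    · simp [y, h02.symm, h12.symm, h23]
    · simp [y, h03.symm, h13.symm, h23.symm, ha0]
  have hx0 : x ≠ 0 := by
    intro h
    have := congrFun h (i 0)
    simp [x, h01] at this
  have hy0 : y ≠ 0 := fun h => hyi 0 (by rw [h]; rfl)
  obtain ⟨g, -, hg⟩ := exists_map_iso (q := q) hF (by omega : 3 ≤ n) le_rfl (mem_coordSub_self x)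
    (mem_coordSub_self y) hx0 hy0 hx hy
  have h1 : g ∈ Mono n F q := by rw [htop]; trivial
  have h2 := h1 x
  rw [hg] at h2
  have h3 : 4 ≤ wt y := by
    unfold wt
    have := Nat.card_le_card_of_injective (fun j : Fin 4 => (⟨i j, hyi j⟩ : {m // y m ≠ 0})) (by
      intro s t h
      exact hi (congrArg Subtype.val h))
    rwa [Nat.card_eq_fintype_card, Fintype.card_fin] at this
  have h4 : wt x ≤ 2 := by
    unfold wt
    have h5 : ∀ m, x m ≠ 0 → m = i 0 ∨ m = i 1 := by
      intro m hm
      by_contra hc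
      push Not at hc
      apply hm
      simp [x, hc.1, hc.2]
    have := Nat.card_le_card_of_injective (β := Bool) (fun m : {m // x m ≠ 0} => decide (m.1 = i 0)) (by
      intro s t h
      apply Subtype.ext
      rcases h5 s.1 s.2 with h6 | h6 <;> rcases h5 t.1 t.2 with h7 | h7
      · rw [h6, h7]
      · simp [h6, h7, h01.symm] at h
      · simp [h6, h7, h01.symm] at h
      · rw [h6, h7])
    rwa [Nat.card_eq_fintype_card (α := Bool), Fintype.card_bool] at this
  omega

end Cfsg.Agent.H950.Su
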