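import Mathlib
import Cfsg.Agent.H950.SuTools
import Cfsg.Agent.H940.MaxCls

/-!
# From subgroups of `SU n F q` to subgroups of `PSU n F q` (helper950)
-/

set_option autoImplicit false

namespace Cfsg.Agent.H950.Su

open Cfsg Cfsg.Agent.LieClassical.HermBasic Cfsg.Agent.LieClassical.HermSiegel
  Cfsg.Agent.LieClassical.HermGen Cfsg.Agent.LieClassical.HermSimple Cfsg.Agent.LieClassical.HermPerfect
  Cfsg.Agent.H940.MaxCls

section General

variable {G : Type*} [Group G] {H : Type*} [Group H]

theorem map_ne_top {f : G →* H} {A : Subgroup G} (hk : f.ker ≤ A) (hA : A ≠ ⊤) (hf : Function.Surjective f) :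
    A.map f ≠ ⊤ := by
  intro h
  apply hA
  have h1 : (A.map f).comap f = A := by
    rw [Subgroup.comap_map_eq, sup_eq_left.2 hk]
  rw [← h1, h, Subgroup.comap_top]

theorem isCoatom_map {f : G →* H} (hf : Function.Surjective f) {A : Subgroup G} (hk : f.ker ≤ A) (hA : IsCoatom A) :
    IsCoatom (A.map f) := by
  refine ⟨map_ne_top hk hA.1 hf, fun K hK => ?_⟩
  have h1 : A ≤ K.comap f := Subgroup.map_le_iff_le_comap.1 hK.le
  have h2 : A < K.comap f := by
    refine lt_of_le_of_ne h1 fun h => ?_
    apply hK.ne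
    rw [h, Subgroup.map_comap_eq_self_of_surjective hf]
  have h3 := hA.2 _ h2
  rw [← Subgroup.map_comap_eq_self_of_surjective hf K, h3, Subgroup.map_top_of_surjective f hf]

theorem index_map_of_ker_le {f : G →* H} (hf : Function.Surjective f) {A : Subgroup G} (hk : f.ker ≤ A) :
    (A.map f).index = A.index := by
  have h1 : (A.map f).comap f = A := by
    rw [Subgroup.comap_map_eq, sup_eq_left.2 hk]
  rw [← Subgroup.index_comap_of_surjective (A.map f) hf, h1]

/-- not conjugate upstairs, not conjugate downstairs -/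
theorem not_conj_map {f : G →* H} (hf : Function.Surjective f) {A B : Subgroup G} (hkA : f.ker ≤ A) (hkB : f.ker ≤ B)
    (h : ∀ g : G, Subgroup.map (MulAut.conj g).toMonoidHom A ≠ B) (g : H) :
    Subgroup.map (MulAut.conj g).toMonoidHom (A.map f) ≠ B.map f := by
  obtain ⟨g, rfl⟩ := hf g
  rw [map_conj_map]
  intro he
  apply h g
  have h1 : ((Subgroup.map (MulAut.conj g).toMonoidHom A).map f).comap f =
      Subgroup.map (MulAut.conj g).toMonoidHom A := by
    rw [Subgroup.comap_map_eq, sup_eq_left]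
    intro x hx
    rw [mem_map_conj]
    apply hkA
    rw [MonoidHom.mem_ker] at hx ⊢
    rw [map_mul, map_mul, hx, mul_one, ← map_mul, inv_mul_cancel, map_one]
  have h2 : (B.map f).comap f = B := by
    rw [Subgroup.comap_map_eq, sup_eq_left.2 hkB]
  rw [← h1, he, h2]

/-- `Apart` goes down if the first subgroup contains the kernel and ... -/
theorem exists_conj_not_mem_map {f : G →* H} (hf : Function.Surjective f) {A B : Subgroup G} (hkA : f.ker ≤ A)
    (h : ∀ g : G, ∃ x ∈ B, g * x * g⁻¹ ∉ A) (g : H) : ∃ x ∈ B.map f, g * x * g⁻¹ ∉ A.map f := by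
  obtain ⟨g, rfl⟩ := hf g
  obtain ⟨x, hx, hx'⟩ := h g
  refine ⟨f x, Subgroup.mem_map_of_mem f hx, fun h1 => hx' ?_⟩
  rw [← map_inv, ← map_mul, ← map_mul] at h1
  have h2 : g * x * g⁻¹ ∈ (A.map f).comap f := h1
  rwa [Subgroup.comap_map_eq, sup_eq_left.2 hkA] at h2

end General

section PSU

variable {F : Type*} [Field F] [Fintype F] {q n : ℕ}

/-- the projection `SU → PSU` -/
abbrev pr (n : ℕ) (F : Type*) [Field F] (q : ℕ) : SU n F q →* PSU n F q :=
  QuotientGroup.mk' (Subgroup.center (SU n F q))

omit [Fintype F] in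
theorem pr_surjective : Function.Surjective (pr n F q) := QuotientGroup.mk'_surjective _

omit [Fintype F] in
theorem ker_pr : (pr n F q).ker = Subgroup.center (SU n F q) := QuotientGroup.ker_mk' _

/-- **an irreducible subgroup is apart from a Borel subgroup** -/
theorem apart_borel_of_irr (hF : Fintype.card F = q ^ 2) (hn : 3 ≤ n) {p : ℕ} [Fact p.Prime] [CharP F p]
    (S : Sylow p (PSU n F q)) {E : Subgroup (SU n F q)} (hE : Irr E) :
    Apart (Subgroup.normalizer ((S : Subgroup (PSU n F q)) : Set (PSU n F q))) (E.map (pr n F q)) := by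
  intro g K h1 h2
  obtain ⟨g, rfl⟩ := pr_surjective g
  have h3 : ¬ p ∣ (K.comap (pr n F q)).index := by
    rw [Subgroup.index_comap_of_surjective K pr_surjective]
    intro h
    have h4 : (S : Subgroup (PSU n F q)) ≤ K := Subgroup.le_normalizer.trans h1
    exact S.not_dvd_index (h.trans (Subgroup.index_dvd_of_le h4))
  have h4 : Irr (K.comap (pr n F q)) := by
    refine hE.conj g fun y hy => ?_
    have h5 := h2 _ (Subgroup.mem_map_of_mem (pr n F q) hy)
    rw [← map_inv, ← map_mul, ← map_mul] at h5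
    exact h5
  have h5 := top_of_sylow_irr hF hn h3 h4
  rw [← Subgroup.map_comap_eq_self_of_surjective pr_surjective K, h5,
    Subgroup.map_top_of_surjective _ pr_surjective]

/-- the index of an irreducible proper subgroup is divisible by `p` -/
theorem dvd_index_of_irr (hF : Fintype.card F = q ^ 2) (hn : 3 ≤ n) {p : ℕ} [Fact p.Prime] [CharP F p]
    {E : Subgroup (SU n F q)} (hE : Irr E) (hE1 : E ≠ ⊤) : p ∣ E.index := by
  by_contra h
  exact hE1 (top_of_sylow_irr hF hn h hE)

end PSU

end Cfsg.Agent.H950.Su
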