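import Mathlib
import Cfsg.Agent.H837.MCU
import Cfsg.Agent.H950.SuProj
import Cfsg.Agent.H950.SuMono

/-!
# `PSU₄(q)` has at least five classes of maximal subgroups (helper950, for S5906, S5907)

Two classes of parabolics, the stabiliser of a nonisotropic point, `NS σ` (the normaliser of `Sp₄(q)`) and an overgroup
of the monomial group.
-/

set_option autoImplicit false

namespace Cfsg.Agent.H950.Su

open Cfsg Cfsg.Agent.LieClassical.HermBasic Cfsg.Agent.LieClassical.HermSiegel
  Cfsg.Agent.H940.MaxCls Cfsg.Agent.H837.MCU Cfsg.Agent.H940.SepTyp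

variable {F : Type*} [Field F] [Fintype F] {q n : ℕ}

/-- a symplectic structure for `n = 4` -/
theorem exists_Sg_four (hF : Fintype.card F = q ^ 2) : ∃ σ : (Fin 4 → F) → (Fin 4 → F), Sg q σ := by
  obtain ⟨c, hc0, hc⟩ := exists_norm_eq_ne hF (c := (-1 : F)) (by rw [neg_pow_q hF, one_pow])
    (neg_ne_zero.2 one_ne_zero)
  refine ⟨fun v => ![-(c * v 1 ^ q), c * v 0 ^ q, -(c * v 3 ^ q), c * v 2 ^ q], ?_, ?_, ?_, ?_⟩
  · intro u v
    funext i
    fin_cases i <;> simp [add_pow_q hF] <;> ring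
  · intro a v
    funext i
    fin_cases i <;> simp [mul_pow] <;> ring
  · intro v
    have h : ∀ x : F, c * (c * x ^ q) ^ q = -x := by
      intro x
      rw [mul_pow, pow_q_pow_q hF]
      linear_combination x * hc
    funext i
    fin_cases i <;> simp [neg_pow_q hF, h]
  · intro v
    rw [herm_def, Fin.sum_univ_four]
    simp only [Matrix.cons_val_zero, Matrix.cons_val_one, Matrix.cons_val, neg_pow_q hF, mul_pow, pow_q_pow_q hF]
    ring

/-- an irreducible subgroup is in no stabiliser -/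
theorem not_irr_stU {W : Submodule F (Fin n → F)} (h0 : W ≠ ⊥) (h1 : W ≠ ⊤) : ¬ Irr (stU q W) := by
  intro h
  rcases h W (fun g hg w hw => ((mem_stU.1 hg) w).1 hw) with h | h
  · exact h0 h
  · exact h1 h

theorem psu_five_four (hF : Fintype.card F = q ^ 2) : Sep 5 (PSU 4 F q) := by
  obtain ⟨p, hpc⟩ := CharP.exists F
  have hp : Fact p.Prime := ⟨CharP.char_is_prime F p⟩
  obtain ⟨m, hm, hK⟩ := Cfsg.Agent.Omega.ML.Ex.Typ.typ_PSU hF (by norm_num : 3 ≤ 4) (p := p)
  obtain rfl : m = 2 := by omega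
  obtain ⟨σ, hσ⟩ := exists_Sg_four (q := q) hF
  have h32 : ¬ (4 = 3 ∧ q = 2) := by omega
  have h14 : 1 ≤ 4 := by norm_num
  have hW0 := co_ne_bot (F := F) h14 one_pos
  have hW1 := co_ne_top (F := F) (n := 4) (k := 1) (by norm_num)
  have hWn := nondeg_co (q := q) hF (F := F) h14
  have hdim : 2 * Module.finrank F (co F h14) < 4 := by rw [finrank_co]; norm_num
  have hker : (pr 4 F q).ker = Subgroup.center (SU 4 F q) := Su.ker_pr
  have hscal : ∀ z ∈ (pr 4 F q).ker, ∃ c : F, c ≠ 0 ∧ ∀ v, act z v = c • v := by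
    intro z hz
    rw [hker] at hz
    obtain ⟨c, hc0, -, hc⟩ := ClassicalGeometry.PSUAutBasic.exists_scalar_of_mem_center hF (by norm_num) hz
    exact ⟨c, hc0, hc⟩
  have hkN : (pr 4 F q).ker ≤ NS σ := by
    intro z hz
    obtain ⟨c, hc0, hc⟩ := hscal z hz
    exact hσ.center_le_NS hc0 hc
  have hkM : (pr 4 F q).ker ≤ Mono 4 F q := by
    intro z hz v
    obtain ⟨c, hc0, hc⟩ := hscal z hz
    rw [hc]
    unfold wt
    exact Nat.card_congr (Equiv.subtypeEquivRight fun i => by simp [hc0])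
  have hkS := ker_le_stU (n := 4) hF (by norm_num) (co F h14)
  obtain ⟨S⟩ : Nonempty (Sylow p (PSU 4 F q)) := inferInstance
  have hnotconj : ∀ E : Subgroup (SU 4 F q), Irr E → ∀ g : PSU 4 F q,
      ∃ x ∈ E.map (pr 4 F q), g * x * g⁻¹ ∉ (stU q (co F h14)).map (pr 4 F q) := by
    intro E hE g
    refine exists_conj_not_mem_map pr_surjective hkS (fun g => ?_) g
    by_contra hcon
    push Not at hcon
    exact not_irr_stU hW0 hW1 (hE.conj g hcon)
  refine sep_typ_coatoms_succ (k := 2) hK S ![stP q (co F h14), (NS σ).map (pr 4 F q)] ?_ ?_ ?_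
    (E := (Mono 4 F q).map (pr 4 F q)) ?_ ?_ ?_
  · intro i
    fin_cases i
    · exact coatom_stP hF (by norm_num) h32 hW0 hWn hdim
    · exact isCoatom_map pr_surjective hkN (hσ.isCoatom_NS hF (by norm_num) h32)
  · intro i j hij g
    have hi : i = 0 := by omega
    have hj : j = 1 := by omega
    subst hi hj
    show Subgroup.map (MulAut.conj g).toMonoidHom ((stU q (co F h14)).map (pr 4 F q)) ≠ (NS σ).map (pr 4 F q)
    intro he
    obtain ⟨x, hx, hx'⟩ := hnotconj (NS σ) (hσ.irr_NS hF) g⁻¹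
    rw [← he, mem_map_conj] at hx
    exact hx' (by rwa [inv_inv])
  · intro i
    fin_cases i
    · exact dvd_index_stP hF (by norm_num) hW0 hW1 hWn
    · show p ∣ ((NS σ).map (pr 4 F q)).index
      rw [Su.index_map_of_ker_le pr_surjective hkN]
      exact dvd_index_of_irr hF (by norm_num) (hσ.irr_NS hF) (hσ.NS_ne_top hF (by norm_num))
  · exact map_ne_top hkM (Mono_ne_top hF le_rfl) pr_surjective
  · intro i g
    fin_cases i
    · exact hnotconj _ (irr_Mono hF (by norm_num)) g
    · exact exists_conj_not_mem_map pr_surjective hkN (fun g => Mono_not_le_conj hF le_rfl hσ g) g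
  · exact apart_borel_of_irr hF (by norm_num) S (irr_Mono hF (by norm_num))

end Cfsg.Agent.H950.Su
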