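import Cfsg.Agent.H950.Exist
/-!
# Elements of prime order `r ≠ p` of `PSL_n(q)`: the two kinds of elements
-/

set_option autoImplicit false

namespace Cfsg.Agent.H950

open Module Polynomial Cfsg.Agent.H951

section Scale

variable {F V : Type*} [Field F] [AddCommGroup V] [Module F V]

lemma inv_smul_iff {x : Module.End F V} {W : Submodule F V} {d : F} (hd : d ≠ 0) : Inv (d • x) W ↔ Inv x W := by
  constructor
  · intro h w hw
    have h1 := W.smul_mem d⁻¹ (h w hw)
    rwa [LinearMap.smul_apply, smul_smul, inv_mul_cancel₀ hd, one_smul] at h1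
  · intro h w hw
    exact W.smul_mem d (h w hw)

lemma rescale_pow {x : Module.End F V} {c d : F} {r : ℕ} (hx : x ^ r = c • 1) (hd : d ^ r = c) (hd0 : d ≠ 0) :
    (d⁻¹ • x) ^ r = 1 := by
  rw [_root_.smul_pow, hx, smul_smul, inv_pow, hd, inv_mul_cancel₀, one_smul]
  rw [← hd]; exact pow_ne_zero _ hd0

end Scale

section Arith

variable {F : Type*} [Field F] [Fintype F]

lemma card_mod_four {h2 : 2 ∣ Fintype.card F - 1} : Fintype.card F % 4 = 1 ∨ Fintype.card F % 4 = 3 := by
  have : 1 < Fintype.card F := Fintype.one_lt_card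
  omega

/-- A non-`r`-th power `c` with `((-1)^{r+1} c)^{n/r} = 1` and `r ∣ n` exists iff the stated condition fails. -/
lemma exists_c_iff {r n : ℕ} [Fact r.Prime] (h : r ∣ Fintype.card F - 1) (hn : n ≠ 0) :
    (r ∣ n ∧ ∃ c : F, (∀ d : F, d ^ r ≠ c) ∧ ((-1) ^ (r + 1) * c) ^ (n / r) = 1) ↔
      ¬ (padicValNat r n ≤ padicValNat r (Fintype.card F - 1) ∧ (r = 2 → Even n → Fintype.card F % 4 = 1)) := by
  have hrp : r.Prime := Fact.out
  have hdvd : 0 < padicValNat r n → r ∣ n := fun h => dvd_of_one_le_padicValNat h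
  by_cases hε : ∃ u : F, u ^ r = (-1) ^ (r + 1)
  · obtain ⟨u, hu⟩ := hε
    have hu0 : u ≠ 0 := by
      rintro rfl
      rw [zero_pow hrp.ne_zero] at hu
      exact pow_ne_zero _ (neg_ne_zero.2 one_ne_zero) hu.symm
    have key : (∃ c : F, (∀ d : F, d ^ r ≠ c) ∧ ((-1) ^ (r + 1) * c) ^ (n / r) = 1) ↔
        ∃ a : F, (∀ d : F, d ^ r ≠ a) ∧ a ^ (n / r) = 1 := by
      constructor
      · rintro ⟨c, hc, h1⟩
        refine ⟨(-1) ^ (r + 1) * c, fun d hd => hc (u⁻¹ * d) ?_, h1⟩
        rw [mul_pow, hd, inv_pow, hu, ← mul_assoc, inv_mul_cancel₀, one_mul]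
        exact pow_ne_zero _ (neg_ne_zero.2 one_ne_zero)
      · rintro ⟨a, ha, h1⟩
        refine ⟨((-1) ^ (r + 1))⁻¹ * a, fun d hd => ha (u * d) ?_, ?_⟩
        · rw [mul_pow, hd, hu, ← mul_assoc, mul_inv_cancel₀, one_mul]
          exact pow_ne_zero _ (neg_ne_zero.2 one_ne_zero)
        · rw [← mul_assoc, mul_inv_cancel₀, one_mul]
          · exact h1
          · exact pow_ne_zero _ (neg_ne_zero.2 one_ne_zero)
    rw [key]
    have h4 : r = 2 → Fintype.card F % 4 = 1 := by
      rintro rfl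
      have h5 : IsSquare (-1 : F) := ⟨u, by rw [← sq, hu]; norm_num⟩
      have h6 := FiniteField.isSquare_neg_one_iff.1 h5
      exact (card_mod_four (h2 := h)).resolve_right h6
    constructor
    · rintro ⟨h1, h2⟩
      have := (exists_nonpower_iff h hn h1).1 h2
      omega
    · intro h1
      have h2 : padicValNat r (Fintype.card F - 1) < padicValNat r n := by
        by_contra h2
        exact h1 ⟨by omega, fun h3 _ => h4 h3⟩
      have h3 : r ∣ n := hdvd (by omega)
      exact ⟨h3, (exists_nonpower_iff h hn h3).2 h2⟩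
  · have hr2 : r = 2 := by
      by_contra hr2
      have hodd : Odd r := hrp.odd_of_ne_two hr2
      exact hε ⟨1, by rw [one_pow, (hodd.add_one).neg_one_pow]⟩
    subst hr2
    have h3 : Fintype.card F % 4 = 3 := by
      refine (card_mod_four (h2 := h)).resolve_left fun h4 => hε ?_
      obtain ⟨u, hu⟩ := FiniteField.isSquare_neg_one_iff.2 (show Fintype.card F % 4 ≠ 3 by omega)
      exact ⟨u, by rw [sq, ← hu]; norm_num⟩
    have hns : ¬ IsSquare (-1 : F) := fun h4 => FiniteField.isSquare_neg_one_iff.1 h4 h3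
    constructor
    · rintro ⟨h1, -⟩ h2
      have := h2.2 rfl (even_iff_two_dvd.2 h1)
      omega
    · intro h1
      have h2 : 2 ∣ n := by
        by_contra h2
        refine h1 ⟨?_, fun _ h4 => absurd (even_iff_two_dvd.1 h4) h2⟩
        rw [padicValNat.eq_zero_of_not_dvd h2]
        exact Nat.zero_le _
      refine ⟨h2, -1, fun d hd => hns ⟨d, by rw [← sq, hd]⟩, ?_⟩
      norm_num

end Arith

section Main

variable {F : Type*} [Field F] [Fintype F]

omit [Fintype F] in
lemma toLin'_pow_eq {n r : ℕ} {c : F} {x : Matrix (Fin n) (Fin n) F} (hx : x ^ r = c • (1 : Matrix (Fin n) (Fin n) F)) :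
    (Matrix.toLin' x) ^ r = c • (1 : Module.End F (Fin n → F)) := by
  rw [← Matrix.toLin'_pow, hx, map_smul, Matrix.toLin'_one]
  rfl

omit [Fintype F] in
lemma aeval_toLin'_eq {n r : ℕ} {c : F} {x : Matrix (Fin n) (Fin n) F}
    (hx : x ^ r = c • (1 : Matrix (Fin n) (Fin n) F)) :
    aeval (Matrix.toLin' x : Module.End F (Fin n → F)) (X ^ r - C c : F[X]) = 0 := by
  rw [map_sub, map_pow, aeval_X, aeval_C, toLin'_pow_eq hx, Algebra.algebraMap_eq_smul_one, sub_self]

/-- Under the arithmetic condition every `x` of determinant 1 with `x ^ r = c` has `c` an `r`-th power. -/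
lemma exists_root_of_cond {r n : ℕ} [Fact r.Prime] (h : r ∣ Fintype.card F - 1) (hn : n ≠ 0)
    (hcond : padicValNat r n ≤ padicValNat r (Fintype.card F - 1) ∧ (r = 2 → Even n → Fintype.card F % 4 = 1))
    {x : Matrix (Fin n) (Fin n) F} (hdet : x.det = 1) {c : F} (hx : x ^ r = c • (1 : Matrix (Fin n) (Fin n) F)) :
    ∃ d : F, d ^ r = c := by
  by_contra hc
  push Not at hc
  have hP : Irreducible (X ^ r - C c : F[X]) := X_pow_sub_C_irreducible_of_prime Fact.out hc
  obtain ⟨h1, h2⟩ := det_of_irred x hx hP (Fact.out : r.Prime).pos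
  exact (exists_c_iff h hn).1 ⟨h1, c, hc, by rw [← h2, hdet]⟩ hcond

/-- If the arithmetic condition fails there is an `x ∈ SL_n(F)` with `x ^ r = c`, `X ^ r - c` irreducible. -/
lemma exists_SL_of_not_cond {r n : ℕ} [Fact r.Prime] (h : r ∣ Fintype.card F - 1) (hn : n ≠ 0)
    (hcond : ¬ (padicValNat r n ≤ padicValNat r (Fintype.card F - 1) ∧
      (r = 2 → Even n → Fintype.card F % 4 = 1))) :
    ∃ (x : Matrix.SpecialLinearGroup (Fin n) F) (c : F), Irreducible (X ^ r - C c : F[X]) ∧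
      (x : Matrix (Fin n) (Fin n) F) ^ r = c • (1 : Matrix (Fin n) (Fin n) F) := by
  obtain ⟨hrn, c, hc, h1⟩ := (exists_c_iff h hn).2 hcond
  have hP : Irreducible (X ^ r - C c : F[X]) := X_pow_sub_C_irreducible_of_prime Fact.out hc
  obtain ⟨x, hx⟩ := exists_root_operator hP hrn
  exact ⟨⟨x, by rw [(det_of_irred x hx hP (Fact.out : r.Prime).pos).2, h1]⟩, c, hP, hx⟩

/-- When `r ∤ q - 1` and `i ≤ n` there is `x ∈ SL_n(F)` with `x ^ r = 1` and `dim C_V(x) = n mod i`. -/
lemma exists_SL_fx {r n : ℕ} [Fact r.Prime] (hr : (r : F) ≠ 0) (h : ¬ r ∣ Fintype.card F - 1)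
    (hin : orderOf (Fintype.card F : ZMod r) ≤ n) :
    ∃ x : Matrix.SpecialLinearGroup (Fin n) F, (x : Matrix (Fin n) (Fin n) F) ^ r = 1 ∧
      finrank F ↥(fx (Matrix.toLin' (x : Matrix (Fin n) (Fin n) F))) = n % orderOf (Fintype.card F : ZMod r) := by
  set i := orderOf (Fintype.card F : ZMod r) with hi
  have hi0 : 0 < i := ord_pos hr
  have hnu : ¬ IsUnit (cyclotomic r F) := by
    intro hu
    have := natDegree_eq_zero_of_isUnit hu
    rw [natDegree_cyclotomic, Nat.totient_prime Fact.out] at this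
    have h2 : r = 2 := by have := (Fact.out : r.Prime).two_le; omega
    subst h2
    exfalso
    -- r = 2: then `2 ∤ q - 1` contradicts `2 ≠ 0` in `F`
    omega
  obtain ⟨g, hg, hgd⟩ := WfDvdMonoid.exists_irreducible_factor hnu (cyclotomic_ne_zero r F)
  have hdeg : g.natDegree = i := natDegree_factor hr hg hgd
  have hg1 : g.eval 1 ≠ 0 := by
    intro h1
    obtain ⟨k, hk⟩ := hgd
    have h2 : (cyclotomic r F).eval 1 = 0 := by rw [hk, eval_mul, h1, zero_mul]
    rw [eval_one_cyclotomic_prime] at h2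
    exact hr h2
  have hgr : g ∣ X ^ r - 1 := hgd.trans (cyclotomic.dvd_X_pow_sub_one r F)
  obtain ⟨T, hT, hTfx⟩ := exists_operator hg (n := n) (t := n / i)
    (by rw [hdeg]; exact Nat.mul_div_le n i) hgr hg1
  set x := LinearMap.toMatrix' T with hx
  have hxr : x ^ r = 1 := by
    have h3 := congrArg (LinearMap.toMatrixAlgEquiv' (R := F) (n := Fin n)) hT
    rw [map_pow, map_one] at h3
    exact h3
  have hdet : x.det = 1 := by
    apply eq_one_of_pow h (r := r)
    rw [← Matrix.det_pow, hxr, Matrix.det_one]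
  refine ⟨⟨x, hdet⟩, hxr, ?_⟩
  change finrank F ↥(fx (Matrix.toLin' x)) = _
  rw [hx, Matrix.toLin'_toMatrix', hTfx, hdeg]
  have := Nat.div_add_mod n i
  omega

end Main

end Cfsg.Agent.H950
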