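import Cfsg.Agent.H951.Block
import Cfsg.Agent.H950.Quad
/-!
# Invariant totally isotropic subspaces of isometries: the invariant Witt decomposition

For a semisimple isometry (or similarity) `x` and a nondegenerate invariant `W`: a maximal totally isotropic
invariant subspace `T` of `W` and a nondegenerate invariant `W₁ ≤ W` without totally isotropic invariant
subspaces, `dim W = 2 dim T + dim W₁`; bounds for `dim W₁`.
-/

set_option autoImplicit false
set_option linter.unusedSectionVars false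

namespace Cfsg.Agent.H950

open Module Polynomial Cfsg.Agent.H951

variable {F V : Type*} [Field F] [AddCommGroup V] [Module F V] [FiniteDimensional F V]
variable {σ : F →+* F} {ε : F} {B : V → V → F} {x : Module.End F V} {r : ℕ}

/-- A totally isotropic invariant `Z` in a nondegenerate invariant `W` lies in a nondegenerate invariant `Y ≤ W` of
dimension `2 dim Z`. -/
lemma exists_hull (hB : Frm σ ε B) (hperp : ∀ W : Submodule F V, Inv x W → Inv x (hB.perp W))
    (hss : x.IsSemisimple) {W Z : Submodule F V} (hW : Inv x W) (hWn : Nd B W) (hZ : Inv x Z) (hZW : Z ≤ W)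
    (hti : TI B Z) : ∃ Y ≤ W, Inv x Y ∧ Nd B Y ∧ Z ≤ Y ∧ finrank F Y = 2 * finrank F Z := by
  obtain ⟨T, hT, hTW, hT1, hT2⟩ := exists_rel_compl hss ((hperp Z hZ).inf hW) hW (inf_le_right : hB.perp Z ⊓ W ≤ W)
  have hZT : Z ⊓ T = ⊥ := by
    rw [eq_bot_iff, ← hT1]
    exact inf_le_inf_right _ (le_inf hti hZW)
  have h1 := hB.finrank_perp_inf' hWn hZW
  have h2 := finrank_sup_of_disj hT1
  rw [hT2] at h2
  refine ⟨Z ⊔ T, sup_le hZW hTW, hZ.sup hT, ?_, le_sup_left, ?_⟩
  · rw [hB.nd_iff, eq_bot_iff]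
    intro v hv
    obtain ⟨a, ha, b, hb, rfl⟩ := Submodule.mem_sup.1 hv.1
    have hb0 : b ∈ hB.perp Z ⊓ W ⊓ T := by
      refine ⟨⟨fun w hw => ?_, hTW hb⟩, hb⟩
      have h3 := hv.2 w (Submodule.mem_sup_left hw)
      rwa [hB.add_left, hti a ha w hw, zero_add] at h3
    rw [hT1, Submodule.mem_bot] at hb0
    subst hb0
    rw [add_zero] at hv ⊢
    rw [Submodule.mem_bot]
    by_contra hne
    obtain ⟨w, hw, haw⟩ := hWn a (hZW ha) hne
    rw [← hT2] at hw
    obtain ⟨c, hc, d, hd, rfl⟩ := Submodule.mem_sup.1 hw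
    apply haw
    rw [hB.add_right, hB.eq_zero_comm.1 (hc.1 a ha), zero_add]
    exact hv.2 d (Submodule.mem_sup_right hd)
  · rw [finrank_sup_of_disj hZT]
    omega

/-- The invariant Witt decomposition. -/
theorem exists_witt (hB : Frm σ ε B) (hperp : ∀ W : Submodule F V, Inv x W → Inv x (hB.perp W))
    (hss : x.IsSemisimple) {W : Submodule F V} (hW : Inv x W) (hWn : Nd B W) :
    ∃ T W₁ : Submodule F V, T ≤ W ∧ W₁ ≤ W ∧ Inv x T ∧ TI B T ∧ Inv x W₁ ∧ Nd B W₁ ∧
      finrank F W = 2 * finrank F T + finrank F W₁ ∧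
      ∀ Z ≤ W₁, Inv x Z → TI B Z → Z = ⊥ := by
  classical
  let S : Set ℕ := {d | ∃ T : Submodule F V, T ≤ W ∧ Inv x T ∧ TI B T ∧ finrank F T = d}
  have hS0 : (0 : ℕ) ∈ S := ⟨⊥, bot_le, inv_bot, fun u hu v _ => by
    rw [(Submodule.mem_bot F).1 hu]; exact hB.zero_left v, finrank_bot F V⟩
  have hSb : BddAbove S := ⟨finrank F W, by
    rintro d ⟨T, hTW, -, -, rfl⟩
    exact Submodule.finrank_mono hTW⟩
  obtain ⟨T, hTW, hT, hTti, hTd⟩ := Nat.sSup_mem ⟨0, hS0⟩ hSb
  obtain ⟨Y, hYW, hY, hYn, hTY, hYd⟩ := exists_hull hB hperp hss hW hWn hT hTW hTti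
  have h1 := hB.finrank_perp_inf hYn hYW
  refine ⟨T, hB.perp Y ⊓ W, hTW, inf_le_right, hT, hTti, (hperp Y hY).inf hW, hB.nd_perp_inf hWn hYn hYW,
    by omega, ?_⟩
  intro Z hZ hZi hZti
  have hdis : T ⊓ Z = ⊥ := by
    rw [eq_bot_iff, ← hB.nd_iff.1 hYn]
    exact inf_le_inf hTY (hZ.trans inf_le_left)
  have hperpTZ : ∀ u ∈ T, ∀ v ∈ Z, B u v = 0 := fun u hu v hv =>
    hB.eq_zero_comm.1 ((hZ hv).1 u (hTY hu))
  have hmem : finrank F ↥(T ⊔ Z) ∈ S := by
    refine ⟨T ⊔ Z, sup_le hTW (hZ.trans inf_le_right), hT.sup hZi, ?_, rfl⟩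
    intro u hu v hv
    obtain ⟨a, ha, b, hb, rfl⟩ := Submodule.mem_sup.1 hu
    obtain ⟨c, hc, d, hd, rfl⟩ := Submodule.mem_sup.1 hv
    rw [hB.add_left, hB.add_right, hB.add_right, hTti a ha c hc, hperpTZ a ha d hd,
      hB.eq_zero_comm.1 (hperpTZ c hc b hb), hZti b hb d hd]
    simp
  have h2 := le_csSup hSb hmem
  rw [← hTd, finrank_sup_of_disj hdis] at h2
  exact Submodule.finrank_eq_zero.1 (by omega)

lemma injective_of_pow (hx : x ^ r = 1) (hr : 0 < r) : Function.Injective x := by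
  obtain ⟨s, rfl⟩ : ∃ s, r = s + 1 := ⟨r - 1, by omega⟩
  intro u v huv
  have h : ∀ w : V, (x ^ s) (x w) = w := by
    intro w
    rw [← Module.End.mul_apply, ← pow_succ, hx]
    rfl
  rw [← h u, ← h v, huv]

/-- When `c = 2 i₀` the anisotropic part of `[V, x]` is trivial. -/
theorem exists_ti_half [Fintype F] [Fact r.Prime] (hr : (r : F) ≠ 0) (hB : Frm σ ε B) (hx : Isom B x)
    (hxr : x ^ r = 1)
    (hdiv : ∀ W' : Submodule F V, Inv x W' → Nd B W' → W' ≤ cm x →
      2 * orderOf (Fintype.card F : ZMod r) ∣ finrank F W')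
    {W : Submodule F V} (hW : Inv x W) (hWn : Nd B W) (hWc : W ≤ cm x) :
    ∃ T ≤ W, Inv x T ∧ TI B T ∧ finrank F W = 2 * finrank F T := by
  have hinj := injective_of_pow hxr (Fact.out : r.Prime).pos
  obtain ⟨T, W₁, hTW, hW₁, hT, hTti, hW₁i, hW₁n, hd, han⟩ :=
    exists_witt hB (fun W hW => hx.inv_perp hB hinj hW) (semisimple_of_pow hr hxr) hW hWn
  refine ⟨T, hTW, hT, hTti, ?_⟩
  have h0 : W₁ = ⊥ := by
    by_contra hne
    obtain ⟨U, hU, hUi⟩ := exists_irr hW₁i hne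
    rcases hUi.nd_or_ti hB hx hinj with h | h
    · have h1 := hdiv U hUi.2.1 h ((hU.trans hW₁).trans hWc)
      rw [hUi.finrank_eq hr hxr ((hU.trans hW₁).trans hWc)] at h1
      have h2 := Nat.le_of_dvd (ord_pos hr) h1
      have := ord_pos (F := F) hr
      omega
    · exact hUi.1 (han U hU hUi.2.1 h)
  rw [hd, h0, finrank_bot, add_zero]

/-- The span of `v, x v, …` is totally isotropic and invariant. -/
lemma exists_ti_of_vector (hB : Frm σ ε B) (hx : Isom B x) {z : F} (hxr : x ^ r = z • 1) (hr : 0 < r)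
    {W : Submodule F V} (hW : Inv x W) {v : V} (hv : v ∈ W) (hv0 : v ≠ 0)
    (h : ∀ d < r, B v ((x ^ d) v) = 0) : ∃ Z ≤ W, Inv x Z ∧ TI B Z ∧ Z ≠ ⊥ := by
  have hab : ∀ a < r, ∀ b < r, B ((x ^ a) v) ((x ^ b) v) = 0 := by
    intro a ha b hb
    rcases le_total a b with hab | hab
    · have h1 : (x ^ b) v = (x ^ a) ((x ^ (b - a)) v) := by
        rw [← Module.End.mul_apply, ← pow_add]; congr 2; omega
      rw [h1, hx.pow a]
      exact h _ (by omega)
    · have h1 : (x ^ a) v = (x ^ b) ((x ^ (a - b)) v) := by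
        rw [← Module.End.mul_apply, ← pow_add]; congr 2; omega
      rw [h1, hx.pow b]
      exact hB.eq_zero_comm.1 (h _ (by omega))
  refine ⟨Submodule.span F (Set.range fun j : Fin r => (x ^ (j : ℕ)) v), ?_, ?_, ?_, ?_⟩
  · rw [Submodule.span_le]
    rintro _ ⟨j, rfl⟩
    exact hW.pow _ v hv
  · rw [inv_iff_map, Submodule.map_span_le]
    rintro _ ⟨j, rfl⟩
    have e : x ((x ^ (j : ℕ)) v) = (x ^ ((j : ℕ) + 1)) v := by rw [pow_succ', Module.End.mul_apply]
    simp only [e]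
    rcases Nat.lt_or_ge ((j : ℕ) + 1) r with h1 | h1
    · exact Submodule.subset_span ⟨⟨_, h1⟩, rfl⟩
    · have h2 : (j : ℕ) + 1 = r := le_antisymm j.2 h1
      rw [h2, hxr, LinearMap.smul_apply, Module.End.one_apply]
      exact Submodule.smul_mem _ _ (Submodule.subset_span ⟨⟨0, hr⟩, by simp⟩)
  · intro u hu w hw
    induction hu using Submodule.span_induction with
    | mem a ha =>
      obtain ⟨i, rfl⟩ := ha
      induction hw using Submodule.span_induction with
      | mem b hb =>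
        obtain ⟨j, rfl⟩ := hb
        exact hab i i.2 j j.2
      | zero => exact hB.zero_right _
      | add a b _ _ ha hb => rw [hB.add_right, ha, hb, add_zero]
      | smul c a _ ha => rw [hB.smul_right, ha, mul_zero]
    | zero => exact hB.zero_left _
    | add a b _ _ ha hb => rw [hB.add_left, ha, hb, add_zero]
    | smul c a _ ha => rw [hB.smul_left, ha, mul_zero]
  · intro h0
    apply hv0
    rw [← Submodule.mem_bot F, ← h0]
    exact Submodule.subset_span ⟨⟨0, hr⟩, by simp⟩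

/-- Half of the conditions suffice. -/
lemma all_of_half (hB : Frm σ ε B) (hx : Isom B x) {z : F} (hxr : x ^ r = z • 1) (hodd : Odd r) {v : V}
    (h0 : B v v = 0) (h : ∀ d, 1 ≤ d → d ≤ (r - 1) / 2 → B v ((x ^ d) v) = 0) : ∀ d < r, B v ((x ^ d) v) = 0 := by
  intro d hd
  obtain ⟨k, hk⟩ := hodd
  rcases Nat.eq_zero_or_pos d with h1 | h1
  · rw [h1, pow_zero]; exact h0
  · rcases Nat.lt_or_ge ((r - 1) / 2) d with h2 | h2
    · -- B v (x^d v) ~ B (x^{r-d} v) (x^r v)
      have h3 := hx.pow (r - d) v ((x ^ d) v)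
      rw [← Module.End.mul_apply, ← pow_add, Nat.sub_add_cancel hd.le, hxr, LinearMap.smul_apply,
        Module.End.one_apply, hB.smul_right] at h3
      rw [← h3, hB.eq_zero_comm.1 (h (r - d) (by omega) (by omega)), mul_zero]
    · exact h d h1 h2

/-- For `x ^ r = 1` and `v ∈ [V, x]` the condition `B v v = 0` is automatic. -/
lemma self_of_half (hB : Frm σ ε B) (hx : Isom B x) (hxr : x ^ r = 1) (hodd : Odd r) {v : V}
    (hv : v ∈ cm x) (h : ∀ d, 1 ≤ d → d ≤ (r - 1) / 2 → B v ((x ^ d) v) = 0) : B v v = 0 := by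
  obtain ⟨k, hk⟩ := hodd
  have h1 : ∀ d, 1 ≤ d → d < r → B v ((x ^ d) v) = 0 := by
    intro d hd1 hd
    rcases Nat.lt_or_ge ((r - 1) / 2) d with h2 | h2
    · have h3 := hx.pow (r - d) v ((x ^ d) v)
      rw [← Module.End.mul_apply, ← pow_add, Nat.sub_add_cancel hd.le, hxr, Module.End.one_apply] at h3
      rw [← h3, hB.eq_zero_comm.1 (h (r - d) (by omega) (by omega))]
    · exact h d hd1 h2
  have h2 : avg x r v = 0 := by
    obtain ⟨w, rfl⟩ := mem_cm.1 hv
    have := LinearMap.congr_fun (avg_mul_sub_one hxr) w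
    simpa [Module.End.mul_apply] using this
  have h3 : B v (avg x r v) = 0 := by rw [h2]; exact hB.zero_right _
  rw [avg, LinearMap.sum_apply, hB.sum_right, hk, Finset.sum_range_succ'] at h3
  rw [Finset.sum_eq_zero (fun i hi => h1 (i + 1) (by omega) (by rw [Finset.mem_range] at hi; omega)), zero_add,
    pow_zero, Module.End.one_apply] at h3
  exact h3

section bilinear

/-- For `σ = id`: more than `2 |J|` dimensions give a common zero of `v ↦ B v (x^j v)`, `j ∈ J`. -/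
lemma exists_vector_id [Finite F] (hB : Frm (RingHom.id F) ε B) (W : Submodule F V) (J : Finset ℕ)
    (h : 2 * J.card < finrank F W) : ∃ v ∈ W, v ≠ 0 ∧ ∀ j ∈ J, B v ((x ^ j) v) = 0 := by
  let β : J → W →ₗ[F] W →ₗ[F] F := fun j => LinearMap.mk₂ F (fun u v => B u.1 ((x ^ (j : ℕ)) v.1))
    (fun u u' v => hB.add_left _ _ _) (fun c u v => hB.smul_left _ _ _)
    (fun u v v' => by
      change B u.1 ((x ^ (j : ℕ)) (v.1 + v'.1)) = _
      rw [map_add, hB.add_right])
    (fun c u v => by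
      change B u.1 ((x ^ (j : ℕ)) (c • v.1)) = _
      rw [map_smul, hB.smul_right]; rfl)
  obtain ⟨v, hv0, hv⟩ := exists_common_isotropic β (by rwa [Fintype.card_coe])
  exact ⟨v.1, v.2, fun h0 => hv0 (Subtype.ext h0), fun j hj => hv ⟨j, hj⟩⟩

/-- The anisotropic part of `[V, x]` has dimension at most `r - 1` (`σ = id`). -/
lemma finrank_le_id [Finite F] (hodd : Odd r) (hB : Frm (RingHom.id F) ε B) (hx : Isom B x)
    (hxr : x ^ r = 1) {W : Submodule F V} (hW : Inv x W) (hWc : W ≤ cm x)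
    (han : ∀ Z ≤ W, Inv x Z → TI B Z → Z = ⊥) : finrank F W ≤ r - 1 := by
  by_contra hlt
  obtain ⟨v, hv, hv0, hJ⟩ := exists_vector_id (x := x) hB W (Finset.Icc 1 ((r - 1) / 2)) (by
    rw [Nat.card_Icc]; omega)
  have h1 : ∀ d, 1 ≤ d → d ≤ (r - 1) / 2 → B v ((x ^ d) v) = 0 := fun d h1 h2 => hJ d (Finset.mem_Icc.2 ⟨h1, h2⟩)
  have hxr' : x ^ r = (1 : F) • 1 := by rw [hxr, one_smul]
  obtain ⟨Z, hZ, hZi, hZti, hZ0⟩ := exists_ti_of_vector hB hx hxr' hodd.pos hW hv hv0
    (all_of_half hB hx hxr' hodd (self_of_half hB hx hxr hodd (hWc hv) h1) h1)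
  exact hZ0 (han Z hZ hZi hZti)

end bilinear

end Cfsg.Agent.H950
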