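import Cfsg.Agent.H951.Lin
import Cfsg.Agent.H952.JordanReal
/-!
# Splitting off cyclic blocks of a nilpotent operator; which dimensions have complemented invariant subspaces
-/

set_option autoImplicit false

namespace Cfsg.Agent.H950

open Module Polynomial Cfsg.Agent.H951

variable {F V : Type*} [Field F] [AddCommGroup V] [Module F V] [FiniteDimensional F V]

/-- A cyclic block of maximal length splits off. -/
lemma split_block {N : Module.End F V} {U : Submodule F V} (hU : Inv N U) {k : ℕ}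
    (hk : ∀ u ∈ U, (N ^ (k + 1)) u = 0) {v : V} (hvU : v ∈ U) (hv : (N ^ k) v ≠ 0) :
    ∃ C W : Submodule F V, Inv N C ∧ Inv N W ∧ C ⊓ W = ⊥ ∧ C ⊔ W = U ∧ finrank F C = k + 1 := by
  classical
  obtain ⟨φ, hφ⟩ : ∃ φ : V →ₗ[F] F, φ ((N ^ k) v) ≠ 0 := by
    by_contra h
    push Not at h
    exact hv ((Module.forall_dual_apply_eq_zero_iff F _).1 h)
  -- large powers vanish
  have hbig : ∀ j, k < j → ∀ u ∈ U, (N ^ j) u = 0 := by
    intro j hj u hu
    obtain ⟨t, rfl⟩ := Nat.exists_eq_add_of_lt hj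
    rw [show k + t + 1 = t + (k + 1) by ring, pow_add, Module.End.mul_apply, hk u hu, map_zero]
  let Φ : V →ₗ[F] (Fin (k + 1) → F) := LinearMap.pi fun l => φ ∘ₗ (N ^ (l : ℕ))
  let Ψ : (Fin (k + 1) → F) →ₗ[F] V := (Fintype.linearCombination F (fun i : Fin (k + 1) => (N ^ (i : ℕ)) v))
  have hΨ : ∀ a, Ψ a = ∑ i, a i • (N ^ (i : ℕ)) v := fun a => Fintype.linearCombination_apply _ _ _
  have hΨU : ∀ a, Ψ a ∈ U := fun a => by
    rw [hΨ]; exact Submodule.sum_mem _ fun i _ => U.smul_mem _ (hU.pow _ v hvU)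
  have hinj : Function.Injective (Φ ∘ₗ Ψ) := by
    rw [injective_iff_map_eq_zero]
    intro a ha
    by_contra hne
    obtain ⟨i, hi⟩ : ∃ i, a i ≠ 0 := by
      by_contra h
      push Not at h
      exact hne (funext h)
    -- minimal index
    obtain ⟨i₀, hi₀, hmin⟩ : ∃ i₀ : Fin (k + 1), a i₀ ≠ 0 ∧ ∀ j : Fin (k + 1), j < i₀ → a j = 0 := by
      have hs : (Finset.univ.filter (fun i => a i ≠ 0)).Nonempty := ⟨i, by simpa using hi⟩
      refine ⟨Finset.min' _ hs, ?_, ?_⟩
      · have := Finset.min'_mem _ hs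
        simpa using this
      · intro j hj
        by_contra h
        exact absurd (Finset.min'_le _ j (by simpa using h)) (not_le.2 hj)
    have h1 := congrFun ha ⟨k - i₀, by omega⟩
    change φ ((N ^ (k - (i₀ : ℕ))) (Ψ a)) = 0 at h1
    rw [hΨ, map_sum, map_sum, Finset.sum_eq_single i₀] at h1
    · rw [map_smul, map_smul, ← Module.End.mul_apply, ← pow_add, Nat.sub_add_cancel (Nat.le_of_lt_succ i₀.2)] at h1
      exact (smul_ne_zero hi₀ hφ) h1
    · intro j _ hj
      rcases lt_or_gt_of_ne hj with hlt | hlt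
      · rw [hmin j hlt, zero_smul, map_zero, map_zero]
      · rw [map_smul, ← Module.End.mul_apply, ← pow_add, hbig _ (by
          have : (i₀ : ℕ) < j := hlt
          have := i₀.2
          omega) v hvU, smul_zero, map_zero]
    · intro h; exact absurd (Finset.mem_univ _) h
  have hsurj : Function.Surjective (Φ ∘ₗ Ψ) := LinearMap.injective_iff_surjective.1 hinj
  refine ⟨LinearMap.range Ψ, LinearMap.ker Φ ⊓ U, ?_, ?_, ?_, ?_, ?_⟩
  · rintro _ ⟨a, rfl⟩
    rw [hΨ, map_sum]
    refine Submodule.sum_mem _ fun i _ => ?_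
    rw [map_smul]
    refine Submodule.smul_mem _ _ ?_
    rw [← Module.End.mul_apply, ← pow_succ']
    rcases Nat.lt_or_ge ((i : ℕ) + 1) (k + 1) with h | h
    · refine ⟨Pi.single ⟨(i : ℕ) + 1, h⟩ 1, ?_⟩
      rw [hΨ, Finset.sum_eq_single ⟨(i : ℕ) + 1, h⟩]
      · simp
      · intro j _ hj; rw [Pi.single_eq_of_ne hj, zero_smul]
      · intro h; exact absurd (Finset.mem_univ _) h
    · rw [hbig _ (by omega) v hvU]; exact Submodule.zero_mem _
  · rintro w ⟨hw, hwU⟩
    refine ⟨?_, hU w hwU⟩
    change N w ∈ LinearMap.ker Φ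
    rw [LinearMap.mem_ker]
    funext l
    change φ ((N ^ (l : ℕ)) (N w)) = 0
    rw [← Module.End.mul_apply, ← pow_succ]
    rcases Nat.lt_or_ge ((l : ℕ) + 1) (k + 1) with h | h
    · exact congrFun (LinearMap.mem_ker.1 hw) ⟨(l : ℕ) + 1, h⟩
    · rw [hbig _ (by omega) w hwU, map_zero]
  · rw [eq_bot_iff]
    rintro _ ⟨⟨a, rfl⟩, hw, -⟩
    have : a = 0 := hinj (by rw [map_zero]; exact LinearMap.mem_ker.1 hw)
    rw [this, map_zero]; exact Submodule.zero_mem _
  · apply le_antisymm
    · refine sup_le ?_ inf_le_right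
      rintro _ ⟨a, rfl⟩; exact hΨU a
    · intro u hu
      obtain ⟨a, ha⟩ := hsurj (Φ u)
      rw [Submodule.mem_sup]
      refine ⟨Ψ a, ⟨a, rfl⟩, u - Ψ a, ⟨?_, U.sub_mem hu (hΨU a)⟩, by abel⟩
      change u - Ψ a ∈ LinearMap.ker Φ
      rw [LinearMap.mem_ker, map_sub, sub_eq_zero]
      exact ha.symm
  · rw [LinearMap.finrank_range_of_inj]
    · exact Module.finrank_fin_fun F
    · exact Function.Injective.of_comp (f := Φ) (by exact hinj)

/-- A decomposition of an invariant subspace into cyclic blocks, in a form convenient for applications. -/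
lemma exists_dec {N : Module.End F V} {p : ℕ} (hN : ∀ v, (N ^ p) v = 0) (U : Submodule F V) (hU : Inv N U) :
    ∃ μ : Multiset ℕ, (∀ a ∈ μ, 0 < a ∧ a ≤ p) ∧ μ.sum = finrank F U ∧
      ∀ ν ≤ μ, ∃ A B : Submodule F V, Inv N A ∧ Inv N B ∧ A ⊓ B = ⊥ ∧ A ⊔ B = U ∧ finrank F A = ν.sum := by
  classical
  induction hn : finrank F U using Nat.strong_induction_on generalizing U with
  | _ n ih =>
    by_cases h0 : U = ⊥
    · subst h0
      refine ⟨0, by simp, by rw [← hn]; simp, ?_⟩
      intro ν hν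
      rw [Multiset.le_zero] at hν
      subst hν
      exact ⟨⊥, ⊥, inv_bot, inv_bot, by simp, by simp, by simp⟩
    · -- the length of the longest block
      obtain ⟨u, hu, hu0⟩ := (Submodule.ne_bot_iff _).1 h0
      have hex : ∃ j, ∀ w ∈ U, (N ^ j) w = 0 := ⟨p, fun w _ => hN w⟩
      have hj0 : Nat.find hex ≠ 0 := by
        intro h
        have := Nat.find_spec hex u hu
        rw [h, pow_zero, Module.End.one_apply] at this
        exact hu0 this
      obtain ⟨k, hk⟩ := Nat.exists_eq_succ_of_ne_zero hj0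
      have hkp : k + 1 ≤ p := by
        rw [← Nat.succ_eq_add_one, ← hk]
        exact Nat.find_min' hex fun w _ => hN w
      have h1 : ∀ w ∈ U, (N ^ (k + 1)) w = 0 := by
        have := Nat.find_spec hex
        rwa [hk] at this
      obtain ⟨v, hvU, hv⟩ : ∃ v ∈ U, (N ^ k) v ≠ 0 := by
        have := Nat.find_min hex (show k < Nat.find hex by omega)
        push Not at this
        exact this
      obtain ⟨C, W, hC, hW, hCW, hCW', hCd⟩ := split_block hU h1 hvU hv
      have hd := finrank_sup_of_disj hCW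
      rw [hCW', hn, hCd] at hd
      obtain ⟨μ, hμ1, hμ2, hμ3⟩ := ih (finrank F W) (by omega) W hW rfl
      refine ⟨(k + 1) ::ₘ μ, ?_, ?_, ?_⟩
      · intro a ha
        rcases Multiset.mem_cons.1 ha with rfl | ha
        · exact ⟨Nat.succ_pos _, hkp⟩
        · exact hμ1 a ha
      · rw [Multiset.sum_cons, hμ2]; omega
      · intro ν hν
        by_cases hkν : (k + 1) ∈ ν
        · obtain ⟨ν', rfl⟩ := Multiset.exists_cons_of_mem hkν
          have hν' : ν' ≤ μ := (Multiset.cons_le_cons_iff _).1 hν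
          obtain ⟨A, B, hA, hB, hAB, hAB', hAd⟩ := hμ3 ν' hν'
          have hCA : C ⊓ A = ⊥ := by
            rw [eq_bot_iff, ← hCW]
            exact inf_le_inf_left _ (by rw [← hAB']; exact le_sup_left)
          have hd2 := finrank_sup_of_disj hAB
          have hd3 := finrank_sup_of_disj hCA
          rw [hAB'] at hd2
          have hsup : (C ⊔ A) ⊔ B = U := by rw [sup_assoc, hAB', hCW']
          have hd4 := Submodule.finrank_sup_add_finrank_inf_eq (C ⊔ A) B
          rw [hsup] at hd4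
          refine ⟨C ⊔ A, B, hC.sup hA, hB, ?_, hsup, ?_⟩
          · apply Submodule.finrank_eq_zero.1; omega
          · rw [hd3, hCd, hAd, Multiset.sum_cons]
        · have hν' : ν ≤ μ := (Multiset.le_cons_of_notMem hkν).1 hν
          obtain ⟨A, B, hA, hB, hAB, hAB', hAd⟩ := hμ3 ν hν'
          have hCB : C ⊓ B = ⊥ := by
            rw [eq_bot_iff, ← hCW]
            exact inf_le_inf_left _ (by rw [← hAB']; exact le_sup_right)
          have hd2 := finrank_sup_of_disj hAB
          have hd3 := finrank_sup_of_disj hCB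
          rw [hAB'] at hd2
          have hsup : A ⊔ (C ⊔ B) = U := by rw [sup_left_comm, hAB', hCW']
          have hd4 := Submodule.finrank_sup_add_finrank_inf_eq A (C ⊔ B)
          rw [hsup] at hd4
          refine ⟨A, C ⊔ B, hA, hC.sup hB, ?_, hsup, hAd⟩
          apply Submodule.finrank_eq_zero.1; omega

/-- The type of a direct sum: if `V = U ⊕ W` is an invariant decomposition for a nilpotent `N` whose powers have the
ranks of the multiset `μ`, then the type of `U` is a sub-multiset of `μ`. -/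
lemma exists_sub_type {N : Module.End F V} {p : ℕ} (hN : N ^ p = 0) {U W : Submodule F V} (hU : Inv N U)
    (hW : Inv N W) (hUW : IsCompl U W) (μ : Multiset ℕ) (hμ : ∀ a ∈ μ, 0 < a)
    (hr : ∀ k, finrank F (LinearMap.range (N ^ k)) = (μ.map (fun b => b - k)).sum) :
    ∃ ν ≤ μ, ν.sum = finrank F U := by
  obtain ⟨s, hs, hs'⟩ := H952.Jordan.exists_type N p hN U (inv_iff_map.1 hU)
  obtain ⟨t, ht, ht'⟩ := H952.Jordan.exists_type N p hN W (inv_iff_map.1 hW)
  have key : s + t = μ := by
    refine H952.Jordan.eq_of_sum_sub _ _ ?_ hμ fun k => ?_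
    · intro b hb
      rcases Multiset.mem_add.1 hb with h | h
      · exact hs b h
      · exact ht b h
    · rw [Multiset.map_add, Multiset.sum_add, hs', ht', ← hr]
      have hinf : U.map (N ^ k) ⊓ W.map (N ^ k) = ⊥ := by
        rw [eq_bot_iff, ← hUW.inf_eq_bot]
        exact inf_le_inf (inv_iff_map.1 (hU.pow k)) (inv_iff_map.1 (hW.pow k))
      rw [← finrank_sup_of_disj hinf, ← Submodule.map_sup, hUW.sup_eq_top, Submodule.map_top]
  refine ⟨s, ?_, ?_⟩
  · rw [← key]; exact Multiset.le_add_right _ _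
  · have h1 := hs' 0
    rw [pow_zero, Module.End.one_eq_id, Submodule.map_id] at h1
    rw [← h1]
    simp

end Cfsg.Agent.H950
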