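import Cfsg.Agent.H950.UHerm
import Cfsg.Agent.S0277
/-!
# Orthogonal direct sums of isometries of the standard Hermitian form; elements of prime order of `GU_c(q)`
-/

set_option autoImplicit false
set_option linter.unusedSectionVars false

namespace Cfsg.Agent.H950

open Cfsg Module Polynomial Cfsg.Agent.H951 Cfsg.Agent.LieClassical.HermBasic Cfsg.Agent.ClassicalGeometry

section DSum

variable {F : Type*} [Field F] {k l q : ℕ}

/-- Splitting off the first `k` coordinates. -/
def spl (F : Type*) [Field F] (k l : ℕ) : (Fin (k + l) → F) ≃ₗ[F] (Fin k → F) × (Fin l → F) :=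
  (LinearEquiv.funCongrLeft F F finSumFinEquiv).trans (LinearEquiv.sumArrowLequivProdArrow (Fin k) (Fin l) F F)

lemma spl_fst (v : Fin (k + l) → F) (i : Fin k) : (spl F k l v).1 i = v (Fin.castAdd l i) := rfl

lemma spl_snd (v : Fin (k + l) → F) (i : Fin l) : (spl F k l v).2 i = v (Fin.natAdd k i) := rfl

/-- The direct sum of two operators. -/
def dsum (y : Module.End F (Fin k → F)) (z : Module.End F (Fin l → F)) : Module.End F (Fin (k + l) → F) :=
  (spl F k l).symm.conj (LinearMap.prodMap y z)

variable {y : Module.End F (Fin k → F)} {z : Module.End F (Fin l → F)}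

lemma spl_dsum (v : Fin (k + l) → F) : spl F k l (dsum y z v) = (y (spl F k l v).1, z (spl F k l v).2) := by
  rw [dsum, LinearEquiv.conj_apply_apply, LinearEquiv.apply_symm_apply]
  rfl

lemma dsum_eq_iff {w : Module.End F (Fin (k + l) → F)} :
    w = dsum y z ↔ ∀ v, spl F k l (w v) = (y (spl F k l v).1, z (spl F k l v).2) := by
  constructor
  · rintro rfl v; exact spl_dsum v
  · intro h
    apply LinearMap.ext
    intro v
    apply (spl F k l).injective
    rw [h, spl_dsum]

lemma dsum_pow (j : ℕ) : dsum y z ^ j = dsum (y ^ j) (z ^ j) := by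
  induction j with
  | zero => rw [pow_zero, dsum_eq_iff]; intro v; simp
  | succ j ih =>
    rw [pow_succ, ih, dsum_eq_iff]
    intro v
    rw [Module.End.mul_apply, spl_dsum, spl_dsum, pow_succ, pow_succ, Module.End.mul_apply, Module.End.mul_apply]

lemma dsum_smul_one (c : F) : dsum (c • (1 : Module.End F (Fin k → F))) (c • (1 : Module.End F (Fin l → F))) = c • 1 := by
  symm
  rw [dsum_eq_iff]
  intro v
  rw [LinearMap.smul_apply, map_smul]
  rfl

lemma dsum_zero : dsum (0 : Module.End F (Fin k → F)) (0 : Module.End F (Fin l → F)) = 0 := by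
  symm
  rw [dsum_eq_iff]
  intro v
  rw [LinearMap.zero_apply, map_zero]
  rfl

lemma aeval_dsum (P : F[X]) : aeval (dsum y z) P = dsum (aeval y P) (aeval z P) := by
  rw [dsum_eq_iff]
  intro v
  induction P using Polynomial.induction_on' with
  | add p q hp hq => simp only [map_add, LinearMap.add_apply, hp, hq]; rfl
  | monomial n a =>
    rw [aeval_monomial, aeval_monomial, aeval_monomial, Module.End.mul_apply, Module.End.mul_apply,
      Module.End.mul_apply, Module.algebraMap_end_apply, Module.algebraMap_end_apply, Module.algebraMap_end_apply,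
      dsum_pow, map_smul, spl_dsum]
    rfl

lemma det_dsum : LinearMap.det (dsum y z) = LinearMap.det y * LinearMap.det z := by
  rw [← LinearMap.det_prodMap, ← LinearMap.det_conj (LinearMap.prodMap y z) (spl F k l).symm]
  rfl

lemma herm_spl (u v : Fin (k + l) → F) : hermForm (k + l) F q u v =
    hermForm k F q (spl F k l u).1 (spl F k l v).1 + hermForm l F q (spl F k l u).2 (spl F k l v).2 := by
  rw [herm_def, herm_def, herm_def, Fin.sum_univ_add]
  rfl

lemma isom_dsum (hy : Isom (hermForm k F q) y) (hz : Isom (hermForm l F q) z) :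
    Isom (hermForm (k + l) F q) (dsum y z) := by
  intro u v
  rw [herm_spl, spl_dsum, spl_dsum, hy, hz, ← herm_spl]

lemma mem_fx_dsum {v : Fin (k + l) → F} :
    v ∈ fx (dsum y z) ↔ (spl F k l v).1 ∈ fx y ∧ (spl F k l v).2 ∈ fx z := by
  rw [mem_fx, mem_fx, mem_fx, ← (spl F k l).injective.eq_iff, spl_dsum, Prod.ext_iff]

lemma finrank_fx_dsum : finrank F (fx (dsum y z)) = finrank F (fx y) + finrank F (fx z) := by
  have e : fx (dsum y z) ≃ₗ[F] fx y × fx z :=
    { toFun := fun v => (⟨(spl F k l v.1).1, (mem_fx_dsum.1 v.2).1⟩, ⟨(spl F k l v.1).2, (mem_fx_dsum.1 v.2).2⟩)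
      map_add' := fun u v => by
        refine Prod.ext (Subtype.ext ?_) (Subtype.ext ?_) <;> rfl
      map_smul' := fun c v => by
        refine Prod.ext (Subtype.ext ?_) (Subtype.ext ?_) <;> rfl
      invFun := fun a => ⟨(spl F k l).symm (a.1.1, a.2.1), mem_fx_dsum.2 (by
        rw [LinearEquiv.apply_symm_apply]; exact ⟨a.1.2, a.2.2⟩)⟩
      left_inv := fun v => Subtype.ext ((spl F k l).symm_apply_apply v.1)
      right_inv := fun a => by
        refine Prod.ext (Subtype.ext ?_) (Subtype.ext ?_)
        · exact congrArg Prod.fst ((spl F k l).apply_symm_apply (a.1.1, a.2.1))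
        · exact congrArg Prod.snd ((spl F k l).apply_symm_apply (a.1.1, a.2.1)) }
  rw [e.finrank_eq, finrank_prod]

/-- No nonzero totally isotropic invariant subspace. -/
def NT (q : ℕ) {n : ℕ} (y : Module.End F (Fin n → F)) : Prop :=
  ∀ W : Submodule F (Fin n → F), Inv y W → TI (hermForm n F q) W → W = ⊥

lemma split_mem {P Q : F[X]} (hPQ : IsCoprime P Q) (hP : aeval y P = 0) (hQ : aeval z Q = 0)
    {W : Submodule F (Fin (k + l) → F)} (hW : Inv (dsum y z) W) {w : Fin (k + l) → F} (hw : w ∈ W) :
    (spl F k l).symm ((spl F k l w).1, 0) ∈ W ∧ (spl F k l).symm (0, (spl F k l w).2) ∈ W := by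
  obtain ⟨a, b, hab⟩ := hPQ
  have h1 := hW.aeval (b * Q) w hw
  have h2 := hW.aeval (a * P) w hw
  have e1 : aeval y (b * Q) = 1 := by
    have := congrArg (aeval y) hab
    rwa [map_add, map_mul _ a P, hP, mul_zero, zero_add, map_one] at this
  have e2 : aeval z (a * P) = 1 := by
    have := congrArg (aeval z) hab
    rwa [map_add, map_mul _ b Q, hQ, mul_zero, add_zero, map_one] at this
  have e3 : aeval z (b * Q) = 0 := by rw [map_mul, hQ, mul_zero]
  have e4 : aeval y (a * P) = 0 := by rw [map_mul, hP, mul_zero]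
  constructor
  · convert h1 using 1
    rw [LinearEquiv.symm_apply_eq, aeval_dsum, spl_dsum, e1, e3]
    rfl
  · convert h2 using 1
    rw [LinearEquiv.symm_apply_eq, aeval_dsum, spl_dsum, e2, e4]
    rfl

lemma fst_eq_zero (hy : NT q y) {P Q : F[X]} (hPQ : IsCoprime P Q) (hP : aeval y P = 0) (hQ : aeval z Q = 0)
    {W : Submodule F (Fin (k + l) → F)} (hW : Inv (dsum y z) W) (hWti : TI (hermForm (k + l) F q) W)
    {w : Fin (k + l) → F} (hw : w ∈ W) : (spl F k l w).1 = 0 := by
  let W₀ : Submodule F (Fin k → F) := W.comap ((spl F k l).symm.toLinearMap ∘ₗ LinearMap.inl F _ _)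
  have hmem : ∀ u, u ∈ W₀ ↔ (spl F k l).symm (u, 0) ∈ W := fun u => Iff.rfl
  have h0 : W₀ = ⊥ := by
    apply hy
    · intro u hu
      rw [hmem] at hu ⊢
      have := hW _ hu
      convert this using 1
      rw [LinearEquiv.symm_apply_eq, spl_dsum, LinearEquiv.apply_symm_apply, map_zero]
    · intro u hu v hv
      have := hWti _ hu _ hv
      rw [herm_spl] at this
      simp only [LinearMap.comp_apply, LinearMap.inl_apply, LinearEquiv.coe_coe, LinearEquiv.apply_symm_apply] at this
      rwa [herm_zero_left, add_zero] at this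
  have h1 := (split_mem hPQ hP hQ hW hw).1
  rw [← hmem, h0] at h1
  exact h1

lemma snd_eq_zero (hz : NT q z) {P Q : F[X]} (hPQ : IsCoprime P Q) (hP : aeval y P = 0) (hQ : aeval z Q = 0)
    {W : Submodule F (Fin (k + l) → F)} (hW : Inv (dsum y z) W) (hWti : TI (hermForm (k + l) F q) W)
    {w : Fin (k + l) → F} (hw : w ∈ W) : (spl F k l w).2 = 0 := by
  let W₀ : Submodule F (Fin l → F) := W.comap ((spl F k l).symm.toLinearMap ∘ₗ LinearMap.inr F _ _)
  have hmem : ∀ u, u ∈ W₀ ↔ (spl F k l).symm (0, u) ∈ W := fun u => Iff.rfl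
  have h0 : W₀ = ⊥ := by
    apply hz
    · intro u hu
      rw [hmem] at hu ⊢
      have := hW _ hu
      convert this using 1
      rw [LinearEquiv.symm_apply_eq, spl_dsum, LinearEquiv.apply_symm_apply, map_zero]
    · intro u hu v hv
      have := hWti _ hu _ hv
      rw [herm_spl] at this
      simp only [LinearMap.comp_apply, LinearMap.inr_apply, LinearEquiv.coe_coe, LinearEquiv.apply_symm_apply] at this
      rwa [herm_zero_left, zero_add] at this
  have h1 := (split_mem hPQ hP hQ hW hw).2
  rw [← hmem, h0] at h1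
  exact h1

lemma NT.dsum (hy : NT q y) (hz : NT q z) {P Q : F[X]} (hPQ : IsCoprime P Q) (hP : aeval y P = 0)
    (hQ : aeval z Q = 0) : NT q (dsum y z) := by
  intro W hW hWti
  rw [eq_bot_iff]
  intro w hw
  rw [Submodule.mem_bot]
  apply (spl F k l).injective
  rw [map_zero]
  exact Prod.ext (fst_eq_zero hy hPQ hP hQ hW hWti hw) (snd_eq_zero hz hPQ hP hQ hW hWti hw)

/-- `y` without totally isotropic invariant subspaces, plus the identity in dimension `l`. -/
lemma two_mul_finrank_le_of_NT [Fintype F] (hF : Fintype.card F = q ^ 2) (hy : NT q y) {P : F[X]}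
    (hP : aeval y P = 0) (hP1 : P.eval 1 ≠ 0) {W : Submodule F (Fin (k + l) → F)}
    (hW : Inv (dsum y 1) W) (hWti : TI (hermForm (k + l) F q) W) : 2 * finrank F W ≤ l := by
  have hco : IsCoprime P (X - C 1) := by
    have h1 : ¬ (X - C 1) ∣ P := fun h => hP1 (dvd_iff_isRoot.1 h)
    exact (((irreducible_X_sub_C (1 : F)).coprime_iff_not_dvd).2 h1).symm
  have h0 : ∀ w ∈ W, (spl F k l w).1 = 0 := fun w hw => fst_eq_zero hy hco hP (by simp) hW hWti hw
  set W' : Submodule F (Fin l → F) := W.map (LinearMap.snd F _ _ ∘ₗ (spl F k l).toLinearMap) with hW'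
  have hd : finrank F W' = finrank F W := by
    have hinj : Function.Injective ((LinearMap.snd F (Fin k → F) (Fin l → F) ∘ₗ (spl F k l).toLinearMap).domRestrict W) := by
      rw [injective_iff_map_eq_zero]
      rintro ⟨w, hw⟩ h
      apply Subtype.ext
      apply (spl F k l).injective
      exact Prod.ext (h0 w hw) h
    rw [hW', ← LinearMap.range_domRestrict, LinearMap.finrank_range_of_inj hinj]
  rw [← hd]
  have h1 : TI (hermForm l F q) W' := by
    rintro _ ⟨u, hu, rfl⟩ _ ⟨v, hv, rfl⟩
    have := hWti u hu v hv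
    rw [herm_spl, h0 u hu, h0 v hv, herm_zero_left, zero_add] at this
    exact this
  have h2 := (frm_herm hF l).two_mul_finrank_le (nd_top hF l) le_top h1
  rwa [finrank_top, finrank_fin_fun] at h2

end DSum

end Cfsg.Agent.H950
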