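import Cfsg.Agent.H950.UHerm
import Cfsg.Agent.H950.UNum
import Cfsg.Agent.H950.LinMain
/-!
# Isometries of odd prime order (modulo scalars) of a Hermitian space fixing a totally isotropic `m`-space
-/

set_option autoImplicit false
set_option linter.unusedSectionVars false

namespace Cfsg.Agent.H950

open Cfsg Module Polynomial Cfsg.Agent.H951 Cfsg.Agent.LieClassical.HermBasic Cfsg.Agent.ClassicalGeometry

variable {F : Type*} [Field F] [Fintype F] {q n : ℕ}

lemma isom_smul {x : Module.End F (Fin n → F)} (hx : Isom (hermForm n F q) x)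
    {w : F} (hw : w ^ (q + 1) = 1) : Isom (hermForm n F q) (w⁻¹ • x) := by
  intro u v
  rw [LinearMap.smul_apply, LinearMap.smul_apply, herm_smul_left, herm_smul_right, hx, ← mul_assoc, ← pow_succ',
    inv_pow, hw, inv_one, one_mul]

lemma norm_of_scalar (hF : Fintype.card F = q ^ 2) (hn : 0 < n) {x : Module.End F (Fin n → F)}
    (hx : Isom (hermForm n F q) x) {r : ℕ} {z : F} (hz : x ^ r = z • 1) : z ^ (q + 1) = 1 := by
  have hne : (Pi.single ⟨0, hn⟩ 1 : Fin n → F) ≠ 0 := by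
    intro h
    have := congrFun h ⟨0, hn⟩
    simp at this
  obtain ⟨v, hv⟩ := exists_herm_ne_zero hF hne
  have h1 := hx.pow r (Pi.single ⟨0, hn⟩ 1) v
  rw [hz, LinearMap.smul_apply, LinearMap.smul_apply, Module.End.one_apply, Module.End.one_apply, herm_smul_left,
    herm_smul_right, ← mul_assoc, ← pow_succ'] at h1
  exact mul_right_cancel₀ hv (by rw [h1, one_mul])

/-- Elements `y` with `y ^ r = 1`. -/
theorem suff_A (hF : Fintype.card F = q ^ 2) {r : ℕ} [Fact r.Prime] (hr : (r : F) ≠ 0) (hr2 : r ≠ 2)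
    (hrq : ¬ r ∣ q) {y : Module.End F (Fin n → F)} (hy : Isom (hermForm n F q) y) (hyr : y ^ r = 1)
    {b c m : ℕ} (hb : b = orderOf (Fintype.card F : ZMod r)) (hc : c = orderOf (-(q : ZMod r))) (hb0 : 0 < b)
    (hbr : b ∣ r - 1) (hmn : 2 * m ≤ n) (hmod : 2 * (m % b) ≤ n % c)
    (hcase : c = 2 * b ∨ (c = b ∧ (r - 1) / b + 2 * (m / b) ≤ n / b)) :
    ∃ W : Submodule F (Fin n → F), finrank F W = m ∧ TI (hermForm n F q) W ∧ Inv y W := by
  have hrp : r.Prime := Fact.out
  have hodd : Odd r := hrp.odd_of_ne_two hr2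
  have hB := frm_herm hF n
  have hinj := injective_of_pow hyr hrp.pos
  have hss := semisimple_of_pow hr hyr
  have hDn : Nd (hermForm n F q) (cm y) := by
    have := hy.nd_inf_cm hB hr hyr inv_top (nd_top hF n)
    rwa [top_inf_eq] at this
  have hCn : Nd (hermForm n F q) (fx y) := by
    have := hy.nd_inf_fx hB hr hyr inv_top (nd_top hF n)
    rwa [top_inf_eq] at this
  have hdiv : ∀ W' : Submodule F (Fin n → F), Inv y W' → Nd (hermForm n F q) W' → W' ≤ cm y → c ∣ finrank F W' := by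
    intro W' h1 h2 h3
    rw [hc]
    exact ord_neg_dvd hF hrq hy hyr h1 h2 (inf_fx_of_le_cm hr hyr h3)
  obtain ⟨t, ht⟩ := hdiv (cm y) inv_cm hDn le_rfl
  have hsum := finrank_fx_add_cm hr hyr
  rw [finrank_fin_fun] at hsum
  -- the totally isotropic part of `[V, y]`
  obtain ⟨T, τ, hTD, hTi, hTti, hTd, hτ⟩ : ∃ (T : Submodule F (Fin n → F)) (τ : ℕ), T ≤ cm y ∧ Inv y T ∧
      TI (hermForm n F q) T ∧ finrank F T = b * τ ∧
      ((c = 2 * b ∧ τ = t) ∨ (c = b ∧ b * t ≤ 2 * (b * τ) + (r - 1))) := by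
    rcases hcase with h | ⟨h, -⟩
    · obtain ⟨T, hT, hTi, hTti, hTd⟩ := exists_ti_half hr hB hy hyr (fun W' h1 h2 h3 => by
        rw [← hb, ← h]; exact hdiv W' h1 h2 h3) inv_cm hDn le_rfl
      refine ⟨T, t, hT, hTi, hTti, ?_, Or.inl ⟨h, rfl⟩⟩
      rw [ht, h, mul_assoc] at hTd
      omega
    · obtain ⟨T, W₁, hT, hW₁, hTi, hTti, hW₁i, -, hd, han⟩ := exists_witt hB
        (fun W hW => hy.inv_perp hB hinj hW) hss inv_cm hDn
      obtain ⟨τ, hτ⟩ := ord_dvd_finrank hyr hTi (inf_fx_of_le_cm hr hyr hT)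
      have h1 := finrank_le_conj hF (cj_apply hF) hodd hB hy hyr hW₁i hW₁ han
      rw [← hb] at hτ
      refine ⟨T, τ, hT, hTi, hTti, hτ, Or.inr ⟨h, ?_⟩⟩
      rw [ht, h] at hd
      omega
  -- numbers
  set w₁ := min (m / b) τ with hw₁
  have hw₁m : b * w₁ ≤ m := (Nat.mul_le_mul_left b (min_le_left _ _)).trans (Nat.mul_div_le m b)
  have hw₁τ : b * w₁ ≤ finrank F T := by rw [hTd]; exact Nat.mul_le_mul_left b (min_le_right _ _)
  have hdc : n % c ≤ finrank F (fx y) := by
    have key : ∀ N d : ℕ, N = d + c * t → N % c ≤ d := by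
      rintro N d rfl
      rw [Nat.add_mul_mod_self_left]
      exact Nat.mod_le _ _
    exact key _ _ (by rw [← ht]; exact hsum.symm)
  have hrest : 2 * (m - b * w₁) ≤ finrank F (fx y) := by
    rcases le_total (m / b) τ with h1 | h1
    · rw [hw₁, min_eq_left h1]
      have h2 := Nat.div_add_mod m b
      have h3 : m - b * (m / b) = m % b := by omega
      rw [h3]; exact hmod.trans hdc
    · rw [hw₁, min_eq_right h1]
      rcases hτ with ⟨h2, h3⟩ | ⟨h2, h3⟩
      · rw [h3]
        have h4 : c * t = 2 * (b * t) := by rw [h2]; ring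
        omega
      · have h4 : c * t = b * t := by rw [h2]
        have h5 : (r - 1) / b + 2 * (m / b) ≤ n / b := by
          rcases hcase with h | ⟨-, h⟩
          · exact absurd (h.symm.trans h2) (by omega)
          · exact h
        have h6 : r - 1 = b * ((r - 1) / b) := (Nat.mul_div_cancel' hbr).symm
        have h7 : b * ((r - 1) / b) + 2 * (b * (m / b)) ≤ b * (n / b) := by
          have := Nat.mul_le_mul_left b h5
          rw [mul_add] at this
          calc _ = b * ((r - 1) / b) + b * (2 * (m / b)) := by ring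
            _ ≤ _ := this
        have h8 := Nat.div_add_mod m b
        have h9 := Nat.div_add_mod n b
        rw [h2] at hmod
        have h10 : b * τ ≤ m := by
          have := hw₁m
          rwa [hw₁, min_eq_right h1] at this
        omega
  obtain ⟨T', hT', hT'i, hT'd⟩ := exists_inv_finrank hr hyr hTi hTD (j := w₁) (by rw [← hb]; exact hw₁τ)
  rw [← hb] at hT'd
  obtain ⟨C', hC', hC'ti, hC'd⟩ := exists_ti_plain hF hCn hrest
  have hperp : ∀ u ∈ C', ∀ v ∈ T', hermForm n F q u v = 0 := fun u hu v hv =>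
    hy.fx_cm hB (hC' hu) (hTD (hT' hv))
  have hdis : C' ⊓ T' = ⊥ := by
    rw [eq_bot_iff, ← (isCompl_fx_cm hr hyr).inf_eq_bot]
    exact inf_le_inf hC' (hT'.trans hTD)
  refine ⟨C' ⊔ T', ?_, ?_, (inv_of_le_fx hC').sup hT'i⟩
  · rw [finrank_sup_of_disj hdis, hC'd, hT'd]
    omega
  · intro u hu v hv
    obtain ⟨a, ha, b', hb', rfl⟩ := Submodule.mem_sup.1 hu
    obtain ⟨c', hc', d', hd', rfl⟩ := Submodule.mem_sup.1 hv
    rw [hB.add_left, hB.add_right, hB.add_right, hC'ti a ha c' hc', hperp a ha d' hd',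
      hB.eq_zero_comm.1 (hperp c' hc' b' hb'), hTti b' (hT' hb') d' (hT' hd')]
    simp

/-- Elements with `x ^ r = z`, `X ^ r - z` irreducible, `r ∣ m`. -/
theorem suff_B (hF : Fintype.card F = q ^ 2) {r : ℕ} (hodd : Odd r)
    {x : Module.End F (Fin n → F)} (hx : Isom (hermForm n F q) x) {z : F} (hxr : x ^ r = z • 1)
    (hP : Irreducible (X ^ r - C z : F[X])) {m : ℕ} (hrm : r ∣ m) (hmn : 2 * m ≤ n) :
    ∃ W : Submodule F (Fin n → F), finrank F W = m ∧ TI (hermForm n F q) W ∧ Inv x W := by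
  have hB := frm_herm hF n
  have hae : aeval x (X ^ r - C z : F[X]) = 0 := by
    rw [map_sub, map_pow, aeval_X, aeval_C, hxr, Algebra.algebraMap_eq_smul_one, sub_self]
  have hss := semisimple_of_irred hP hae
  have hinj : Function.Injective x := by
    rw [injective_iff_map_eq_zero]
    intro u hu
    by_contra hne
    obtain ⟨v, hv⟩ := exists_herm_ne_zero hF hne
    rw [← hx, hu, herm_zero_left] at hv
    exact hv rfl
  obtain ⟨T, W₁, -, -, hTi, hTti, hW₁i, -, hd, han⟩ := exists_witt hB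
    (fun W hW => hx.inv_perp hB hinj hW) hss inv_top (nd_top hF n)
  rw [finrank_top, finrank_fin_fun] at hd
  have h1 := finrank_le_conj' hF (cj_apply hF) hodd hB hx hxr hW₁i han
  have h2 := natDegree_dvd_of_inv hP hae hTi
  have h3 := natDegree_dvd_of_inv hP hae (inv_top (x := x))
  rw [natDegree_X_pow_sub_C] at h2 h3
  rw [finrank_top, finrank_fin_fun] at h3
  obtain ⟨τ, hτ⟩ := h2
  obtain ⟨n₁, hn₁⟩ := h3
  obtain ⟨m₁, hm₁⟩ := hrm
  have hr0 : 0 < r := hodd.pos
  have h4 : m₁ ≤ τ := by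
    by_contra hlt
    have h5 : τ + 1 ≤ m₁ := by omega
    have h6 : r * (τ + 1) ≤ r * m₁ := Nat.mul_le_mul_left r h5
    rw [mul_add, mul_one] at h6
    omega
  obtain ⟨U, hU, hUi, hUd⟩ := exists_inv_natDegree hP hae hTi (j := m₁) (by
    rw [natDegree_X_pow_sub_C, hτ]; exact Nat.mul_le_mul_left r h4)
  rw [natDegree_X_pow_sub_C, ← hm₁] at hUd
  exact ⟨U, hUd, fun u hu v hv => hTti u (hU hu) v (hU hv), hUi⟩

end Cfsg.Agent.H950
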