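import Cfsg.Agent.H950.UDsum
import Cfsg.Agent.H950.USuff
/-!
# Unitary elements of odd prime order (modulo scalars) with few invariant totally isotropic subspaces
-/

set_option autoImplicit false
set_option linter.unusedSectionVars false

namespace Cfsg.Agent.H950

open Cfsg Module Polynomial Cfsg.Agent.H951 Cfsg.Agent.LieClassical.HermBasic Cfsg.Agent.ClassicalGeometry

variable {F : Type*} [Field F] [Fintype F] {q n : ℕ}

/-- An element of order `r` of `GU_c(q)` without fixed vectors, `c` the order of `-q` modulo `r`. -/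
lemma exists_gu_elt (hF : Fintype.card F = q ^ 2) {r : ℕ} [Fact r.Prime] (hr : (r : F) ≠ 0) (hrq : ¬ r ∣ q)
    {c : ℕ} (hc : c = orderOf (-(q : ZMod r))) (hc0 : 0 < c) :
    ∃ g : Module.End F (Fin c → F), Isom (hermForm c F q) g ∧ g ^ r = 1 ∧ fx g = ⊥ := by
  have hrp : r.Prime := Fact.out
  have hq1 : 1 ≤ q := q_pos hF
  have hpow : (-(q : ZMod r)) ^ c = 1 := by rw [hc]; exact pow_orderOf_eq_one _
  have hdvd : r ∣ Nat.card (GU c F q) := by
    rw [Cfsg.Agent.S0277.result hF c]
    apply Dvd.dvd.mul_left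
    refine dvd_trans ?_ (Finset.dvd_prod_of_mem _ (Finset.mem_range.2 (show c - 1 < c by omega)))
    rw [Nat.sub_add_cancel hc0]
    split_ifs with he
    · have ho : Odd c := by
        obtain ⟨k, hk⟩ := he
        exact ⟨k, by omega⟩
      rw [ho.neg_pow] at hpow
      rw [← ZMod.natCast_eq_zero_iff]
      push_cast
      rw [← hpow]; ring
    · have ho : Even c := by
        rw [Nat.not_even_iff_odd] at he
        obtain ⟨k, hk⟩ := he
        exact ⟨k + 1, by omega⟩
      rw [ho.neg_pow] at hpow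
      rw [← ZMod.natCast_eq_zero_iff, Nat.cast_sub (Nat.one_le_pow _ _ hq1)]
      push_cast
      rw [hpow, sub_self]
  obtain ⟨x, hx⟩ := exists_prime_orderOf_dvd_card' r hdvd
  set M : Matrix (Fin c) (Fin c) F := ((x : GL (Fin c) F) : Matrix (Fin c) (Fin c) F) with hM
  have hMr : M ^ r = 1 := by
    have h1 : x ^ r = 1 := by rw [← hx]; exact pow_orderOf_eq_one x
    have h2 : (((x ^ r : GU c F q) : GL (Fin c) F) : Matrix (Fin c) (Fin c) F) = 1 := by rw [h1]; rfl
    rw [← h2, hM]
    simp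
  have hM1 : M ≠ 1 := by
    intro h
    have h1 : x = 1 := Subtype.ext (Units.ext h)
    rw [h1, orderOf_one] at hx
    exact hrp.one_lt.ne hx
  have hg : Isom (hermForm c F q) (Matrix.toLin' M) := by
    intro u v
    rw [Matrix.toLin'_apply, Matrix.toLin'_apply]
    exact (mem_GU_iff (x : GL (Fin c) F)).1 x.2 u v
  have hgr : (Matrix.toLin' M) ^ r = (1 : Module.End F (Fin c → F)) := by
    rw [← Matrix.toLin'_pow, hMr, Matrix.toLin'_one]; rfl
  refine ⟨Matrix.toLin' M, hg, hgr, ?_⟩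
  have hDn : Nd (hermForm c F q) (cm (Matrix.toLin' M)) := by
    have := hg.nd_inf_cm (frm_herm hF c) hr hgr inv_top (nd_top hF c)
    rwa [top_inf_eq] at this
  obtain ⟨t, ht⟩ := ord_neg_dvd hF hrq hg hgr inv_cm hDn (inf_fx_of_le_cm hr hgr le_rfl)
  have hsum := finrank_fx_add_cm hr hgr
  rw [finrank_fin_fun, ht, ← hc] at hsum
  have ht0 : t ≠ 0 := by
    rintro rfl
    rw [mul_zero, Submodule.finrank_eq_zero] at ht
    apply hM1
    have h1 : Matrix.toLin' M - 1 = (0 : Module.End F (Fin c → F)) := LinearMap.range_eq_bot.1 ht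
    have h2 : Matrix.toLin' M = Matrix.toLin' (1 : Matrix (Fin c) (Fin c) F) := by
      rw [Matrix.toLin'_one]; exact sub_eq_zero.1 h1
    exact Matrix.toLin'.injective h2
  rw [← Submodule.finrank_eq_zero (R := F)]
  have : c ≤ c * t := Nat.le_mul_of_pos_right c (Nat.pos_of_ne_zero ht0)
  omega

lemma isom_one {q n : ℕ} : Isom (hermForm n F q) (1 : Module.End F (Fin n → F)) := fun _ _ => rfl

lemma fx_one' {V : Type*} [AddCommGroup V] [Module F V] : fx (1 : Module.End F V) = ⊤ := by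
  rw [eq_top_iff]; intro v _; exact mem_fx.2 rfl

/-- Isometries `y` with `y ^ r = 1` and `dim C_V(y) = n mod c`. -/
lemma exists_fix_mod (hF : Fintype.card F = q ^ 2) {r : ℕ} [Fact r.Prime] (hr : (r : F) ≠ 0) (hrq : ¬ r ∣ q)
    {c : ℕ} (hc : c = orderOf (-(q : ZMod r))) (hc0 : 0 < c) (n : ℕ) :
    ∃ y : Module.End F (Fin n → F), Isom (hermForm n F q) y ∧ y ^ r = 1 ∧ finrank F (fx y) = n % c := by
  obtain ⟨g, hg, hgr, hgf⟩ := exists_gu_elt hF hr hrq hc hc0
  induction n using Nat.strong_induction_on with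
  | _ n ih =>
    rcases Nat.lt_or_ge n c with h | h
    · refine ⟨1, isom_one, one_pow r, ?_⟩
      rw [fx_one', finrank_top, finrank_fin_fun, Nat.mod_eq_of_lt h]
    · obtain ⟨k, rfl⟩ : ∃ k, n = k + c := ⟨n - c, by omega⟩
      obtain ⟨y, hy, hyr, hyf⟩ := ih k (by omega)
      refine ⟨dsum y g, isom_dsum hy hg, ?_, ?_⟩
      · rw [dsum_pow, hyr, hgr]
        have := dsum_smul_one (k := k) (l := c) (1 : F)
        rwa [one_smul, one_smul, one_smul] at this
      · rw [finrank_fx_dsum, hyf, hgf, finrank_bot, add_zero, Nat.add_mod_right]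

/-- From operators to matrices. -/
lemma exists_SL {n r : ℕ} {y : Module.End F (Fin n → F)} (hy : Isom (hermForm n F q) y) {z : F}
    (hyr : y ^ r = z • 1) (hdet : LinearMap.det y = 1) :
    ∃ x : Matrix.SpecialLinearGroup (Fin n) F, x ∈ SU n F q ∧
      Matrix.toLin' (x : Matrix (Fin n) (Fin n) F) = y ∧
      (x : Matrix (Fin n) (Fin n) F) ^ r = z • (1 : Matrix (Fin n) (Fin n) F) := by
  have h1 : (LinearMap.toMatrix' y).det = 1 := by rw [LinearMap.det_toMatrix']; exact hdet
  have h2 : Matrix.toLin' (LinearMap.toMatrix' y) = y := Matrix.toLin'_toMatrix' y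
  refine ⟨⟨LinearMap.toMatrix' y, h1⟩, ?_, h2, ?_⟩
  · apply mem_SU_of_isom
    change Isom _ (Matrix.toLin' (LinearMap.toMatrix' y))
    rw [h2]; exact hy
  · apply Matrix.toLin'.injective
    change Matrix.toLin' ((LinearMap.toMatrix' y) ^ r) = _
    rw [Matrix.toLin'_pow, h2, hyr, map_smul, Matrix.toLin'_one]
    rfl

lemma det_isom (hF : Fintype.card F = q ^ 2) {n : ℕ} {y : Module.End F (Fin n → F)}
    (hy : Isom (hermForm n F q) y) : (LinearMap.det y) ^ (q + 1) = 1 := by
  rw [← LinearMap.det_toMatrix']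
  apply Cfsg.Agent.LieClassical.GUOrder.det_mul_frob_det hF
  intro u v
  rw [← Matrix.toLin'_apply, ← Matrix.toLin'_apply, Matrix.toLin'_toMatrix']
  exact hy u v

lemma det_eq_one (hF : Fintype.card F = q ^ 2) {n r : ℕ} [Fact r.Prime] (hrq : ¬ r ∣ q + 1)
    {y : Module.End F (Fin n → F)} (hy : Isom (hermForm n F q) y) (hyr : y ^ r = 1) : LinearMap.det y = 1 := by
  have h1 := det_isom hF hy
  have h2 : (LinearMap.det y) ^ r = 1 := by rw [← map_pow, hyr, map_one]
  have h3 := Nat.dvd_gcd (orderOf_dvd_of_pow_eq_one h1) (orderOf_dvd_of_pow_eq_one h2)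
  have h4 : Nat.gcd (q + 1) r = 1 := (Nat.coprime_comm.1 ((Nat.Prime.coprime_iff_not_dvd Fact.out).2 hrq))
  rw [h4, Nat.dvd_one, orderOf_eq_one_iff] at h3
  exact h3

/-- For every irreducible factor `P` of `Φ_r` there is an isometry of the space of dimension
`b = ord(-q) = ord(q²)` killed by `P`. -/
lemma exists_factor_elt (hF : Fintype.card F = q ^ 2) {r : ℕ} [Fact r.Prime] (hr : (r : F) ≠ 0) (hrq : ¬ r ∣ q)
    {b : ℕ} (hb : b = orderOf (Fintype.card F : ZMod r)) (hb' : b = orderOf (-(q : ZMod r))) (hb0 : 0 < b)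
    {P : F[X]} (hP : Irreducible P) (hPr : P ∣ cyclotomic r F) :
    ∃ M : Module.End F (Fin b → F), Isom (hermForm b F q) M ∧ M ^ r = 1 ∧ aeval M P = 0 ∧ NT q M := by
  have hrp : r.Prime := Fact.out
  have : NeZero (r : F) := ⟨hr⟩
  obtain ⟨g, hg, hgr, hgf⟩ := exists_gu_elt hF hr hrq hb' hb0
  -- `g` is irreducible
  have hirr : Irr g ⊤ := by
    refine ⟨?_, inv_top, ?_⟩
    · intro h
      have h1 : finrank F (⊤ : Submodule F (Fin b → F)) = 0 := by rw [h, finrank_bot]
      rw [finrank_top, finrank_fin_fun] at h1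
      omega
    · intro U _ hU
      have h1 := ord_dvd_finrank hgr hU (by rw [hgf, inf_bot_eq])
      rw [← hb] at h1
      rcases Nat.eq_zero_or_pos (finrank F U) with h2 | h2
      · left; exact Submodule.finrank_eq_zero.1 h2
      · right
        apply Submodule.eq_top_of_finrank_eq
        rw [finrank_fin_fun]
        apply le_antisymm _ (Nat.le_of_dvd h2 h1)
        have := Submodule.finrank_le U
        rwa [finrank_fin_fun] at this
  have hcm : ∀ v, v ∈ cm g := by
    intro v
    have h1 := (isCompl_fx_cm hr hgr).sup_eq_top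
    rw [hgf, bot_sup_eq] at h1
    rw [h1]; exact Submodule.mem_top
  obtain ⟨f, hf, hfr, hfg⟩ := hirr.exists_factor (cyclotomic r F) (cyclotomic_ne_zero r F)
    fun v _ => cyclotomic_apply_of_mem_cm hgr (hcm v)
  have hfg' : aeval g f = 0 := LinearMap.ext fun v => hfg v Submodule.mem_top
  -- roots
  have : Fact (Irreducible f) := ⟨hf⟩
  let K := AdjoinRoot f
  have : NeZero (r : K) := ⟨by
    have h1 := (map_ne_zero (algebraMap F K)).2 hr
    rwa [map_natCast] at h1⟩
  have hα : IsPrimitiveRoot (AdjoinRoot.root f) r := by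
    rw [← isRoot_cyclotomic_iff (R := K), ← map_cyclotomic r (algebraMap F K)]
    obtain ⟨f', hf'⟩ := hfr
    rw [hf', Polynomial.map_mul, IsRoot, eval_mul, eval_map_algebraMap]
    rw [AdjoinRoot.aeval_eq, AdjoinRoot.mk_self, zero_mul]
  have hPr' : P ∣ X ^ r - 1 := hPr.trans (cyclotomic.dvd_X_pow_sub_one r F)
  have hPK : (P.map (algebraMap F K)) ∣ X ^ r - 1 := by
    have := Polynomial.map_dvd (algebraMap F K) hPr'
    simpa using this
  have hne : (X ^ r - 1 : K[X]) ≠ 0 := by
    have := X_pow_sub_C_ne_zero hrp.pos (1 : K)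
    rwa [map_one] at this
  have hspl : (P.map (algebraMap F K)).Splits := (X_pow_sub_one_splits hα).of_dvd hne hPK
  obtain ⟨β, hβ⟩ := hspl.exists_eval_eq_zero (by
    rw [degree_map]; exact (degree_pos_of_irreducible hP).ne')
  have hβr : β ^ r = 1 := by
    obtain ⟨P', hP'⟩ := hPK
    have h1 := congrArg (eval β) hP'
    rw [eval_mul, hβ, zero_mul, eval_sub, eval_pow, eval_X, eval_one] at h1
    exact sub_eq_zero.1 h1
  have : NeZero r := ⟨hrp.ne_zero⟩
  obtain ⟨k, -, hk⟩ := hα.eq_pow_of_pow_eq_one hβr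
  have hdvd : f ∣ P.comp (X ^ k) := by
    rw [← AdjoinRoot.mk_eq_zero, ← AdjoinRoot.aeval_eq, aeval_comp]
    simp only [map_pow, aeval_X]
    rw [hk, ← eval_map_algebraMap]
    exact hβ
  have hPk : aeval (g ^ k) P = 0 := by
    have h1 : aeval g (P.comp (X ^ k)) = 0 := by
      obtain ⟨f', hf'⟩ := hdvd
      rw [hf', map_mul, hfg', zero_mul]
    rw [aeval_comp] at h1
    simpa using h1
  have hMr : (g ^ k) ^ r = 1 := by rw [← pow_mul, mul_comm, pow_mul, hgr, one_pow]
  refine ⟨g ^ k, hg.pow k, hMr, hPk, ?_⟩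
  intro W hW hWti
  have hP1 : P.eval 1 ≠ 0 := by
    intro h
    obtain ⟨P', hP'⟩ := hPr
    have h1 := congrArg (eval 1) hP'
    rw [eval_mul, h, zero_mul, eval_one_cyclotomic_prime] at h1
    exact hr h1
  have hfx : fx (g ^ k) = ⊥ := by
    rw [eq_bot_iff]
    intro v hv
    rw [Submodule.mem_bot]
    by_contra hv0
    have h1 : aeval (g ^ k) P v = P.eval 1 • v := by
      have h2 : (g ^ k) v = (1 : F) • v := by rw [one_smul]; exact mem_fx.1 hv
      rw [Module.End.aeval_apply_of_hasEigenvector (μ := 1) ⟨Module.End.mem_eigenspace_iff.2 h2, hv0⟩]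
    rw [hPk, LinearMap.zero_apply] at h1
    exact (smul_ne_zero hP1 hv0) h1.symm
  have h1 := ord_dvd_finrank hMr hW (by rw [hfx, inf_bot_eq])
  rw [← hb] at h1
  have h2 := (frm_herm hF b).two_mul_finrank_le (nd_top hF b) le_top hWti
  rw [finrank_top, finrank_fin_fun] at h2
  rcases Nat.eq_zero_or_pos (finrank F W) with h3 | h3
  · exact Submodule.finrank_eq_zero.1 h3
  · have := Nat.le_of_dvd h3 h1
    omega

/-- Sums of pairwise different irreducible modules. -/
lemma exists_multfree (hF : Fintype.card F = q ^ 2) {r : ℕ} [Fact r.Prime] (hr : (r : F) ≠ 0) (hrq : ¬ r ∣ q)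
    {b : ℕ} (hb : b = orderOf (Fintype.card F : ZMod r)) (hb' : b = orderOf (-(q : ZMod r))) (hb0 : 0 < b)
    (A : ℕ) (hA : b * A ≤ r - 1) :
    ∃ (y : Module.End F (Fin (b * A) → F)) (Q : F[X]), Isom (hermForm (b * A) F q) y ∧ y ^ r = 1 ∧ NT q y ∧
      aeval y Q = 0 ∧ Q ∣ cyclotomic r F ∧ Q.natDegree = b * A := by
  have hrp : r.Prime := Fact.out
  induction A with
  | zero =>
    refine ⟨1, 1, isom_one, one_pow r, ?_, ?_, one_dvd _, by simp⟩
    · intro W _ _
      apply Submodule.finrank_eq_zero.1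
      have := Submodule.finrank_le W
      rw [finrank_fin_fun] at this
      omega
    · rw [map_one]
      apply LinearMap.ext
      intro v
      funext i
      exact i.elim0
  | succ A ih =>
    have hA' : b * A + b ≤ r - 1 := hA
    obtain ⟨y, Q, hy, hyr, hyn, hyQ, hQd, hQn⟩ := ih (by omega)
    obtain ⟨R, hR⟩ := hQd
    have hcn : (cyclotomic r F).natDegree = r - 1 := by rw [natDegree_cyclotomic, Nat.totient_prime hrp]
    have hc0 : cyclotomic r F ≠ 0 := cyclotomic_ne_zero r F
    have hQ0 : Q ≠ 0 := by rintro rfl; rw [zero_mul] at hR; exact hc0 hR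
    have hR0 : R ≠ 0 := by rintro rfl; rw [mul_zero] at hR; exact hc0 hR
    have hRn : ¬ IsUnit R := by
      intro h
      have h1 := natDegree_mul hQ0 hR0
      rw [← hR, hcn, hQn, natDegree_eq_zero_of_isUnit h] at h1
      omega
    obtain ⟨P, hP, hPR⟩ := WfDvdMonoid.exists_irreducible_factor hRn hR0
    have hPc : P ∣ cyclotomic r F := by rw [hR]; exact hPR.mul_left Q
    obtain ⟨M, hM, hMr, hMP, hMn⟩ := exists_factor_elt hF hr hrq hb hb' hb0 hP hPc
    have hsq : Squarefree (cyclotomic r F) := by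
      have : NeZero (r : F) := ⟨hr⟩
      exact squarefree_cyclotomic r F
    have hPQ : ¬ P ∣ Q := by
      intro h
      have h1 : P * P ∣ cyclotomic r F := by rw [hR]; exact mul_dvd_mul h hPR
      exact hP.not_isUnit (hsq P h1)
    have hco : IsCoprime Q P := ((hP.coprime_iff_not_dvd).2 hPQ).symm
    refine ⟨(dsum y M : Module.End F (Fin (b * A + b) → F)), Q * P, isom_dsum hy hM, ?_, hyn.dsum hMn hco hyQ hMP,
      ?_, ?_, ?_⟩
    · rw [dsum_pow, hyr, hMr]
      have := dsum_smul_one (k := b * A) (l := b) (1 : F)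
      rwa [one_smul, one_smul, one_smul] at this
    · rw [aeval_dsum, map_mul, map_mul, hyQ, hMP, zero_mul, mul_zero, dsum_zero]
    · rw [hR]; exact mul_dvd_mul_left Q hPR
    · rw [natDegree_mul hQ0 hP.ne_zero, hQn, natDegree_factor hr hP hPc, ← hb]
      rfl

end Cfsg.Agent.H950
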