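import Cfsg.Agent.H950.Nilp
import Cfsg.Agent.H950.LinMain
/-!
# Elements of order `p` of `PSL_n(q)` and complementary pairs of invariant subspaces
-/

set_option autoImplicit false

namespace Cfsg.Agent.H950

open Module Polynomial Cfsg.Agent.H951

lemma inv_sub_one_iff {F V : Type*} [Field F] [AddCommGroup V] [Module F V] {y : Module.End F V}
    {W : Submodule F V} : Inv (y - 1) W ↔ Inv y W := by
  constructor
  · intro h w hw
    have := W.add_mem (h w hw) hw
    rwa [LinearMap.sub_apply, Module.End.one_apply, sub_add_cancel] at this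
  · intro h w hw
    exact W.sub_mem (h w hw) hw

lemma sub_one_pow_char {F V : Type*} [Field F] [AddCommGroup V] [Module F V] {p : ℕ} [Fact p.Prime] [CharP F p]
    (y : Module.End F V) : (y - 1) ^ p = y ^ p - 1 := by
  have h : (X - 1 : F[X]) ^ p = X ^ p - 1 := by
    rw [sub_pow_char, one_pow]
  have h2 := congrArg (aeval y) h
  simpa using h2

/-- `p`-elements: the combinatorial condition is sufficient. -/
theorem unip_backward {F : Type*} [Field F] [Fintype F] {p : ℕ} [Fact p.Prime] [CharP F p] {n m : ℕ} (hn : 0 < n)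
    (hP : ∀ μ : Multiset ℕ, (∀ a ∈ μ, 0 < a ∧ a ≤ p) → μ.sum = n → ∃ ν : Multiset ℕ, ν ≤ μ ∧ ν.sum = m)
    (x : Matrix.SpecialLinearGroup (Fin n) F) {c : F}
    (hx : (x : Matrix (Fin n) (Fin n) F) ^ p = c • (1 : Matrix (Fin n) (Fin n) F)) :
    ∃ U W : Submodule F (Fin n → F), IsCompl U W ∧ Module.finrank F ↥U = m ∧
        U.map (Matrix.toLin' (x : Matrix (Fin n) (Fin n) F)) ≤ U ∧
        W.map (Matrix.toLin' (x : Matrix (Fin n) (Fin n) F)) ≤ W := by
  have hc0 : c ≠ 0 := by
    rintro rfl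
    have h1 : ((x : Matrix (Fin n) (Fin n) F) ^ p).det = 1 := by
      rw [Matrix.det_pow, x.det_coe, one_pow]
    have : Nonempty (Fin n) := ⟨⟨0, hn⟩⟩
    rw [hx, zero_smul, Matrix.det_zero] at h1
    exact zero_ne_one h1
  obtain ⟨w, hw⟩ : ∃ w : F, w ^ p = c := (PerfectRing.bijective_frobenius (R := F) (p := p)).2 c
  have hw0 : w ≠ 0 := by
    rintro rfl
    exact hc0 (by rw [← hw, zero_pow (Fact.out : p.Prime).ne_zero])
  set y : Module.End F (Fin n → F) := w⁻¹ • Matrix.toLin' (x : Matrix (Fin n) (Fin n) F) with hy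
  have hyp : y ^ p = 1 := rescale_pow (toLin'_pow_eq hx) hw hw0
  have hN : (y - 1) ^ p = 0 := by rw [sub_one_pow_char, hyp, sub_self]
  obtain ⟨μ, hμ1, hμ2, hμ3⟩ := exists_dec (N := y - 1) (p := p) (fun v => by rw [hN]; rfl) ⊤ inv_top
  rw [finrank_top, Module.finrank_fin_fun] at hμ2
  obtain ⟨ν, hν, hνm⟩ := hP μ hμ1 hμ2
  obtain ⟨A, B, hA, hB, hAB, hAB', hAd⟩ := hμ3 ν hν
  have hinv : ∀ {Z : Submodule F (Fin n → F)}, Inv (y - 1) Z →
      Z.map (Matrix.toLin' (x : Matrix (Fin n) (Fin n) F)) ≤ Z := fun {Z} hZ => by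
    rw [← inv_iff_map]
    exact (inv_smul_iff (inv_ne_zero hw0)).1 (inv_sub_one_iff.1 hZ)
  exact ⟨A, B, ⟨disjoint_iff.2 hAB, codisjoint_iff.2 hAB'⟩, hAd.trans hνm, hinv hA, hinv hB⟩

/-- `p`-elements: the combinatorial condition is necessary. -/
theorem unip_forward {F : Type*} [Field F] [Fintype F] {p : ℕ} [Fact p.Prime] [CharP F p] {n m : ℕ} (hn : 0 < n)
    (hmn : m ≤ n)
    (H : ∀ x : Matrix.SpecialLinearGroup (Fin n) F,
      (∃ c : F, ((x ^ p : Matrix.SpecialLinearGroup (Fin n) F) : Matrix (Fin n) (Fin n) F) = c • (1 : Matrix (Fin n) (Fin n) F)) →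
      (∀ c : F, (x : Matrix (Fin n) (Fin n) F) ≠ c • (1 : Matrix (Fin n) (Fin n) F)) →
      ∃ U W : Submodule F (Fin n → F), IsCompl U W ∧ Module.finrank F ↥U = m ∧
        U.map (Matrix.toLin' (x : Matrix (Fin n) (Fin n) F)) ≤ U ∧ W.map (Matrix.toLin' (x : Matrix (Fin n) (Fin n) F)) ≤ W)
    (μ : Multiset ℕ) (hμ : ∀ a ∈ μ, 0 < a ∧ a ≤ p) (hμn : μ.sum = n) : ∃ ν : Multiset ℕ, ν ≤ μ ∧ ν.sum = m := by
  classical
  subst hμn
  have hpp : p.Prime := Fact.out
  obtain ⟨N, hN⟩ := H952.Jordan.exists_end (F := F) μ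
  have hNp : N ^ p = 0 := by
    have h1 := hN p
    have h2 : (μ.map (fun b => b - p)).sum = 0 := by
      rw [Multiset.sum_eq_zero_iff]
      intro a ha
      obtain ⟨b, hb, rfl⟩ := Multiset.mem_map.1 ha
      have := (hμ b hb).2
      omega
    rw [h2] at h1
    exact LinearMap.range_eq_bot.1 (Submodule.finrank_eq_zero.1 h1)
  by_cases hN0 : N = 0
  · have h1 := hN 1
    rw [hN0, pow_one, LinearMap.range_zero, finrank_bot] at h1
    have h2 : ∀ b ∈ μ, b = 1 := by
      intro b hb
      have h3 : b - 1 = 0 := by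
        have h4 := (Multiset.sum_eq_zero_iff.1 h1.symm) (b - 1) (Multiset.mem_map.2 ⟨b, hb, rfl⟩)
        exact h4
      have := (hμ b hb).1
      omega
    have h3 : μ = Multiset.replicate (Multiset.card μ) 1 := Multiset.eq_replicate.2 ⟨rfl, h2⟩
    have h4 : μ.sum = Multiset.card μ := by
      conv_lhs => rw [h3]
      simp
    refine ⟨Multiset.replicate m 1, ?_, by simp⟩
    rw [h3]
    exact (Multiset.replicate_le_replicate 1).2 (by omega)
  · set y : Module.End F (Fin μ.sum → F) := 1 + N with hy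
    have hy1 : y - 1 = N := by rw [hy]; abel
    have hyp : y ^ p = 1 := by
      have := sub_one_pow_char (p := p) y
      rw [hy1, hNp] at this
      exact (sub_eq_zero.1 this.symm)
    set x : Matrix (Fin μ.sum) (Fin μ.sum) F := LinearMap.toMatrix' y with hx
    have hxr : x ^ p = 1 := by
      have h3 := congrArg (LinearMap.toMatrixAlgEquiv' (R := F) (n := Fin μ.sum)) hyp
      rw [map_pow, map_one] at h3
      exact h3
    have hdet : x.det = 1 := by
      have h1 : x.det ^ p = 1 := by rw [← Matrix.det_pow, hxr, Matrix.det_one]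
      have h2 : (frobenius F p) x.det = (frobenius F p) 1 := by rw [map_one]; exact h1
      exact frobenius_inj F p h2
    obtain ⟨U, W, hUW, hU, hUx, hWx⟩ := H ⟨x, hdet⟩ ⟨1, by rw [one_smul]; exact hxr⟩ (by
      intro c hc
      change x = c • 1 at hc
      apply hN0
      have h1 : y = c • 1 := by
        have := congrArg Matrix.toLin' hc
        rw [hx, Matrix.toLin'_toMatrix', map_smul, Matrix.toLin'_one] at this
        exact this
      have h2 : N = (c - 1) • (1 : Module.End F (Fin μ.sum → F)) := by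
        rw [← hy1, h1]
        refine LinearMap.ext fun v => ?_
        change c • v - v = (c - 1) • v
        rw [_root_.sub_smul, one_smul]
      have h3 : (c - 1) ^ p • (1 : Module.End F (Fin μ.sum → F)) = 0 := by
        rw [← hNp, h2, _root_.smul_pow, one_pow]
      have h4 : (1 : Module.End F (Fin μ.sum → F)) ≠ 0 := by
        intro h
        apply hN0
        rw [h2, h, smul_zero]
      have h5 : c - 1 = 0 := eq_zero_of_pow_eq_zero ((smul_eq_zero.1 h3).resolve_right h4)
      rw [h2, h5, zero_smul])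
    have hto : Matrix.toLin' ((⟨x, hdet⟩ : Matrix.SpecialLinearGroup (Fin μ.sum) F) :
        Matrix (Fin μ.sum) (Fin μ.sum) F) = y := by
      change Matrix.toLin' x = y
      rw [hx, Matrix.toLin'_toMatrix']
    rw [hto, ← inv_iff_map, ← inv_sub_one_iff, hy1] at hUx hWx
    obtain ⟨ν, hν, hνU⟩ := exists_sub_type hNp hUx hWx hUW μ (fun a ha => (hμ a ha).1) hN
    exact ⟨ν, hν, hνU.trans hU⟩

lemma sum_one_two (μ : Multiset ℕ) (h : ∀ a ∈ μ, 0 < a ∧ a ≤ 2) : μ.sum = μ.count 1 + 2 * μ.count 2 := by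
  induction μ using Multiset.induction with
  | empty => simp
  | cons a s ih =>
    have h1 := h a (Multiset.mem_cons_self a s)
    have h2 := ih fun b hb => h b (Multiset.mem_cons_of_mem hb)
    have h3 : a = 1 ∨ a = 2 := by omega
    rcases h3 with rfl | rfl
    · rw [Multiset.sum_cons, Multiset.count_cons_self, Multiset.count_cons_of_ne (by norm_num), h2]; ring
    · rw [Multiset.sum_cons, Multiset.count_cons_self, Multiset.count_cons_of_ne (by norm_num), h2]; ring

/-- The combinatorial condition for `p = 2`. -/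
lemma two_cond {n m : ℕ} (hmn : m ≤ n) :
    (∀ μ : Multiset ℕ, (∀ a ∈ μ, 0 < a ∧ a ≤ 2) → μ.sum = n → ∃ ν : Multiset ℕ, ν ≤ μ ∧ ν.sum = m) ↔
      (Odd n ∨ Even m) := by
  constructor
  · intro h
    by_contra hcon
    rw [not_or, Nat.not_odd_iff_even, Nat.not_even_iff_odd] at hcon
    obtain ⟨⟨k, hk⟩, hm⟩ := hcon
    obtain ⟨ν, hν, hνm⟩ := h (Multiset.replicate k 2) (by
      intro a ha; rw [Multiset.eq_of_mem_replicate ha]; omega) (by simp; omega)
    have h2 : ∀ b ∈ ν, b = 2 := fun b hb => Multiset.eq_of_mem_replicate (Multiset.mem_of_le hν hb)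
    have h3 : ν = Multiset.replicate (Multiset.card ν) 2 := Multiset.eq_replicate.2 ⟨rfl, h2⟩
    rw [h3, Multiset.sum_replicate, smul_eq_mul] at hνm
    rw [← hνm] at hm
    exact (Nat.not_odd_iff_even.2 (Even.mul_left even_two _)) hm
  · intro h μ hμ hμn
    rw [sum_one_two μ hμ] at hμn
    set a := μ.count 2 with ha
    set b := μ.count 1 with hb
    set t := min a (m / 2) with ht
    have hpar : m - 2 * t ≤ b ∧ 2 * t ≤ m := by
      rcases le_total a (m / 2) with h1 | h1
      · rw [ht, min_eq_left h1]; omega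
      · rw [ht, min_eq_right h1]
        rcases h with ⟨k, hk⟩ | ⟨k, hk⟩ <;> omega
    refine ⟨Multiset.replicate t 2 + Multiset.replicate (m - 2 * t) 1, ?_, ?_⟩
    · rw [Multiset.le_iff_count]
      intro j
      rw [Multiset.count_add, Multiset.count_replicate, Multiset.count_replicate]
      by_cases h1 : j = 2
      · subst h1
        simp only [if_true, ← ha]
        rw [if_neg (by norm_num)]
        have := min_le_left a (m / 2)
        omega
      · by_cases h2 : j = 1
        · subst h2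
          simp only [if_true, ← hb]
          rw [if_neg (by norm_num)]
          omega
        · rw [if_neg (Ne.symm h1), if_neg (Ne.symm h2)]
          exact Nat.zero_le _
    · rw [Multiset.sum_add, Multiset.sum_replicate, Multiset.sum_replicate, smul_eq_mul, smul_eq_mul]
      omega

end Cfsg.Agent.H950
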